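import Cfsg.Agent.H86.SPGDef
import Cfsg.Agent.H62.SPFC

/-! STD-SP (row S3129), type I, slot FQ: the centraliser of `c₂`. -/

set_option autoImplicit false
set_option linter.unusedSectionVars false

namespace H37.SPGFQ

open H64.SG (Cz Cs Ns IsO2 mem_Cz mem_Cs isPGroup_iff_is2)
open H67.UA hiding Par
open H67.SP
open H67.SA (la cm)
open H62.SPFC
open Subgroup

variable {n : ℕ} {F : Type} [Field F] [StarRing F] [TrivialStar F] [CharP F 2] [Finite F]
  [p : Par n F] [Base n F]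

local notation "e0" => (ev 0 : Vn n F)
local notation "e1" => (ev 1 : Vn n F)
local notation "f1" => (ev (Fin.rev 1) : Vn n F)

theorem f0 : hf f1 e0 = 0 := hf_symm h0r
theorem f11 : hf f1 e1 = 1 := by rw [hfc, hev1]

theorem czc {g : XU n F} (hg : g ∈ Cz (xc n F)) : ac g e0 = e0 ∧ ∃ c : F, ac g e1 = e1 + c • e0 :=
  cz_a one_ne_zero one_ne_zero (xc_eq (n := n) (F := F) ▸ hg)

theorem EEq {x : Vn n F} (hx : hf x e0 = 0) (c : F) : EE e0 x c ∈ QQ n F :=
  (FV.mem_Qv _ _).2 ⟨x, c, hx, rfl⟩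

theorem zs : Cz (xc n F) ≤ Cs (ZS n F) := fun g hg u hu => by
  obtain ⟨c, rfl⟩ := (FV.mem_Zs _ _ h01 _).1 hu
  obtain ⟨h0, d, h1⟩ := czc hg
  simpa [zu] using mem_Cz.1 (cz_of (a := 0) (b := c) h0 h1)

theorem lin2 (α : MulAut (XU n F)) (h : ∀ x ∈ ZS n F, α x = x) : ∃ g, α = MulAut.conj g := by
  obtain ⟨g, σ, rfl⟩ := FA.semi α
  have ev' : ∀ i, (fun j => σ ((ev i : Vn n F) j)) = ev i := fun i => funext fun j => by
    rw [ev_apply]; split_ifs <;> simp
  have k : ∀ c : F, EE (ac g e0) (σ c • ac g e1) 0 = EE e0 (c • e1) 0 := fun c => by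
    have h1 := h _ ((FV.mem_Zs _ _ h01 _).2 ⟨c, rfl⟩)
    have h2 : (fun j => σ ((c • e1) j)) = σ c • e1 := funext fun j => by
      rw [Pi.smul_apply, Pi.smul_apply, smul_eq_mul, map_mul, congrFun (ev' 1) j, smul_eq_mul]
    rwa [MulAut.mul_apply, qq, FA.fs_EE σ _ _ _ (ok01 0 c).perp, ev', h2, map_zero, MulAut.conj_apply,
      EE_conj (ok01 0 _), ac_smul] at h1
  have o : ∀ b : F, Ok (ac g e0) (b • ac g e1) 0 := fun b => by
    simpa [ac_smul] using (ok01 (n := n) 0 b).ac g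
  have k1 : ∀ b : F, EE (ac g e0) (b • ac g e1) 0 = EE e0 (b • e1) 0 := fun b => ac_ext fun y => by
    have h1 : ac _ y = ac _ y := congrArg (ac · y) (k 1)
    rw [map_one, ac_EE (o 1), ac_EE (ok01 0 (1 : F)), hfs, hfs] at h1
    rw [ac_EE (o b), ac_EE (ok01 0 b), hfs, hfs]
    linear_combination (norm := module) b • h1
  have k2 : σ = 1 := RingEquiv.ext fun c => by
    obtain ⟨a, h1, -⟩ := EE_inj (ev_ne 0) (ok01 0 _) (ok01 0 _) ((k1 (σ c)).symm.trans (k c))
    have := (li01 (n := n) a (σ c - c) (by linear_combination (norm := module) -h1)).2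
    exact sub_eq_zero.1 this
  have k3 : fs n F 1 = 1 := by simpa using FA.fs_mul (n := n) (F := F) 1 1
  exact ⟨g, by rw [k2, k3, mul_one]⟩

theorem memQQ {g : XU n F} (h0 : ac g e0 = e0) (h : ∀ v, hf v e0 = 0 → ∃ a : F, ac g v = v + a • e0) :
    g ∈ QQ n F := FR.cE g h0 fun u hu => by
  obtain ⟨x, c, hx, rfl⟩ := (FV.mem_Qv _ _).1 hu
  obtain ⟨a, ha⟩ := h x hx
  have o := FV.ok _ _ c hx
  rw [cm, EE_conj o, h0, ha, EE_shift, EE_inv o, EE_mul (FV.ok _ _ _ hx) (FV.ok _ _ _ hx), v_add_self]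
  exact (FV.mem_Zl _ _).2 ⟨_, rfl⟩

theorem ea (A : Subgroup (XU n F)) (h1 : A ≤ Cz (xc n F)) (h2 : Cz (xc n F) ≤ Ns A)
    (h3 : ∀ a ∈ A, a * a = 1) : A ≤ QQ n F ∨ A ≤ Qk n F 2 := by
  have inv : ∀ a ∈ A, a⁻¹ = a := fun a ha => inv_eq_of_mul_eq_one_right (h3 a ha)
  have ab : ∀ a ∈ A, ∀ b ∈ A, a * b * a⁻¹ = b := fun a ha b hb => by
    rw [← inv _ (mul_mem ha hb), mul_inv_rev, inv b hb, inv a ha, mul_assoc, h3 a ha, mul_one]
  have cj : ∀ g ∈ Cz (xc n F), ∀ a ∈ A, g * a * g⁻¹ ∈ A := fun g hg a ha =>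
    (mem_normalizer_iff.1 (h2 hg) a).1 ha
  have tv := triv (isPGroup_iff_is2.2 fun g hg => ⟨1, by simpa [pow_two] using h3 g hg⟩) h1 h2
    (xc_eq (n := n) (F := F) ▸ czW one_ne_zero) (xc_eq (n := n) (F := F) ▸ D_le 1 1)
  have key : ∀ x ∈ A, x ∈ QQ n F ∨ x ∈ Qk n F 2 := fun x hx => by
    obtain ⟨x0, c, x1⟩ := czc (h1 hx)
    have ad : ∀ z, hf (ac x f1 + f1) z = hf f1 (ac x z + z) := fun z => by
      rw [hf_add_left, hf_add_right, hf_ac_left, inv x hx]
    have y0 : hf (ac x f1 + f1) e0 = 0 := mv x0 _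
    have P : ∀ z d, hf z e0 = 0 → EE e0 z d ∈ A → hf (ac x f1 + f1) z = 0 := fun z d hz h => by
      have o := FV.ok _ _ d hz
      have e := ab x hx _ h
      rw [EE_conj o, x0] at e
      obtain ⟨a, ha, -⟩ := EE_inj (ev_ne 0) o (by simpa [x0] using o.ac x) e.symm
      rw [ad, ha, add_right_comm, v_add_self, zero_add, hfs, f0, mul_zero]
    have o := FV.ok _ _ 0 (f0 (n := n) (F := F))
    have q : EE e0 f1 0 ∈ Cz (xc n F) := xc_eq (n := n) (F := F) ▸
      cz_of (ac_EE_self o) (ac_EE_perp o h10)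
    obtain ⟨d, hd⟩ : ∃ d, EE e0 (ac x f1 + f1) d ∈ A := by
      have h4 := mul_mem hx (cj _ q _ (inv_mem hx))
      rw [← mul_assoc, ← mul_assoc, EE_conj o, x0, EE_inv o,
        EE_mul (by simpa [x0] using o.ac x) (FV.ok _ _ _ f0)] at h4
      exact ⟨_, h4⟩
    obtain ⟨α, β, hy⟩ := mem_WA.1 (memA (v := ac x f1 + f1) fun y hy => by
      have t0 : ac (TT y) e0 = e0 := by
        rw [ac_Tc (h00 y) (star_one F), hf_symm hy.1, mul_zero, zero_smul, add_zero]
      have t1 : ac (TT y) e1 = e1 := by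
        rw [ac_Tc (h00 y) (star_one F), hf_symm hy.2, mul_zero, zero_smul, add_zero]
      have h4 := cj _ (xc_eq (n := n) (F := F) ▸ D_le 1 1 (show TT y ∈ _ from ⟨t0, t1⟩)) _ hd
      rw [EE_conj (FV.ok _ _ _ y0), t0, ac_Tc (h00 y) (star_one F), one_mul] at h4
      have h5 := P _ _ (by rw [hf_add_left, y0, hf_smul_left, hy.1, mul_zero, add_zero]) h4
      rw [hf_add_right, h00, zero_add, hfs] at h5
      exact mul_self_eq_zero.1 h5)
    have xf : ac x f1 = f1 + (α • e0 + β • e1) := by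
      rw [hy, add_comm (ac x f1), ← add_assoc, v_add_self, zero_add]
    have h4 : (β * c) • e0 = 0 := by
      have e := congrArg (ac · f1) (h3 x hx)
      simp only [ac_mul, ac_one, xf, ac_add, ac_smul, x0, x1] at e
      linear_combination (norm := module) e - v_add_self (α • e0 + β • e1)
    rcases mul_eq_zero.1 ((smul_eq_zero.1 h4).resolve_right (ev_ne 0)) with rfl | rfl
    · refine Or.inl (memQQ x0 fun v hv => ?_)
      have hy' : v + hf v e1 • f1 ∈ WB n F := ⟨by rw [hf_add_left, hv, hf_smul_left, f0]; simp, by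
        rw [hf_add_left, hf_smul_left, f11, mul_one, CharTwo.add_self_eq_zero]⟩
      obtain ⟨a, b, e⟩ := mem_WA.1 (tv x hx _ hy')
      have hb : b = 0 := by
        have h5 := ad (v + hf v e1 • f1)
        rw [← e, ← hy, hfc, perpAB hy' (aa _ _), hf_add_right, hfs, hfs, f0, f11] at h5
        simpa using h5.symm
      rw [hb, ac_add, ac_smul, xf] at e
      refine ⟨a + hf v e1 * α, ?_⟩
      linear_combination (norm := module) -e - v_add_self (v + hf v e1 • f1 + (hf v e1 * α) • e0)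
    · exact Or.inr (memQ.2 ⟨x0, by simpa using x1, tv x hx⟩)
  by_contra! h
  obtain ⟨a, ha, ha'⟩ := SetLike.not_le_iff_exists.1 h.1
  obtain ⟨b, hb, hb'⟩ := SetLike.not_le_iff_exists.1 h.2
  rcases key _ (mul_mem ha hb) with k | k
  · exact ha' ((mul_mem_cancel_right ((key b hb).resolve_right hb')).1 k)
  · exact hb' ((mul_mem_cancel_left ((key a ha).resolve_left ha')).1 k)

theorem nq : ¬ QQ n F ≤ Qk n F 2 := fun h => by
  have o := FV.ok _ _ 0 (f0 (n := n) (F := F))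
  have h1 := (memQ.1 (h (EEq f0 0))).2.1
  rw [ac_EE_perp o h10, hev1, one_smul, add_eq_left] at h1
  exact ev_ne 0 h1

theorem cases {x : XU n F} (hx : x ∈ QQ n F) : (∃ c, x = Tc c e0) ∨ Sr x ∨ Cr x := by
  obtain ⟨y, c, hy, rfl⟩ := (FV.mem_QQ x).1 hx
  by_cases h : y = 0
  · exact Or.inl ⟨c, by rw [h]⟩
  obtain ⟨g, g0, g1⟩ := FW.w2 e0 y (hf_symm hy.1) fun a b e => by
    have h1 := congrArg (hf · (ev (la n))) e
    simp only [hf_add_left, hf_smul_left, h0n, hy.2, hf_zero_left] at h1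
    obtain rfl : a = 0 := by simpa using h1
    exact ⟨rfl, by simpa [h] using e⟩
  have e : EE e0 y c = MulAut.conj g (zu c 1) := by
    rw [MulAut.conj_apply, zE, EE_conj (ok01 c 1), g0, one_smul, g1]
  rw [e]
  by_cases hc : c = 0
  · exact Or.inr (Or.inl ((FA.cls _ _).2.1 (hc ▸ (FR.zc c 1).2.1 one_ne_zero)))
  · exact Or.inr (Or.inr ((FA.cls _ _).2.2 ((FR.zc c 1).2.2 hc one_ne_zero)))

omit p [Base n F] in
theorem jobFQ : H86.SPG.JobFQ := fun n F _ _ _ _ _ p _ _ =>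
  { zs := zs
    cp := fun g hg => (czc hg).1
    lin2 := lin2
    ea := ea
    nq := nq
    rt := fun x hx => by
      rcases cases hx with ⟨c, rfl⟩ | h | h
      · by_cases hc : c = 0
        · exact Or.inl (by rw [hc, Tc, EE_zero])
        · exact Or.inr (Or.inl (by simpa [zu] using (FR.zc (n := n) c 0).1 hc))
      exacts [Or.inr (Or.inr (Or.inl h)), Or.inr (Or.inr (Or.inr h))]
    lq := fun x hx h => by
      have h1 := (((FR.rk x).1).1 h).2
      rcases cases hx with ⟨c, rfl⟩ | h | h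
      · exact (FV.mem_Zl _ _).2 ⟨c, rfl⟩
      · have := (((FR.rk x).2.1).1 h).2.1
        omega
      · have := (((FR.rk x).2.2).1 h).2.1
        omega
    tor := fun ξ h => FW.w2 _ _ (by rw [hf_smul_left, hfs, h01, mul_zero, mul_zero]) fun a b e => by
      rw [smul_smul, smul_smul] at e
      simpa [h] using li01 _ _ e }

end H37.SPGFQ
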