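import Cfsg.Agent.H67.SPSpec

/-! Tower STD-SP, job PC: `Q₂` lies in a perfect subgroup. -/

set_option autoImplicit false
set_option linter.unusedSectionVars false

namespace H37.SP

open Subgroup H67.UA H67.SP
open scoped commutatorElement

variable {n : ℕ} {F : Type} [Field F] [StarRing F] [TrivialStar F] [CharP F 2] [Finite F]
  [FV n F] {y y' w w' u : Vn n F}

theorem hs (x y : Vn n F) : hf x y = hf y x := by rw [← star_hf, star_trivial]

theorem hsr (a : F) (x y : Vn n F) : hf x (a • y) = a * hf x y := by rw [hf_smul_right, star_trivial]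

theorem h0 (x : Vn n F) : hf x x = 0 := FV.iso x

theorem t_ac (y v : Vn n F) : ac (TT y) v = v + hf v y • y := by
  rw [ac_Tc (FV.iso y) (star_one F), one_mul]

theorem t_sq (y : Vn n F) : TT y * TT y = 1 := Tc_mul_self (FV.iso y) (star_one F)

theorem t_inv (y : Vn n F) : (TT y)⁻¹ = TT y := inv_eq_of_mul_eq_one_right (t_sq y)

theorem t_cj (g : XU n F) (y : Vn n F) : g * TT y * g⁻¹ = TT (ac g y) :=
  Tc_conj (FV.iso y) (star_one F) g

theorem t_add (a b : F) (y : Vn n F) : TT (a • y) * TT (b • y) = TT ((a + b) • y) := by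
  simp only [TT, Tc_smul]
  rw [← Tc_add (FV.iso y) (star_trivial _) (star_trivial _)]
  congr 1
  simp only [nm, star_trivial]
  linear_combination -(a * b) * two0 F

theorem ee_one (h : hf u y = 0) : EE u y 1 = TT (u + y) * TT y := by
  have := t_cj (TT u) y
  rw [t_ac, hs, h, zero_smul, add_zero, t_inv] at this
  conv_rhs => rw [← this, ← mul_assoc, ← mul_assoc, ← qq_eq_TT (FV.pp u y h),
    EE_mul (FV.ok u y 0 (hf_symm h)) (FV.ok u 0 1 (by simp))]
  simp

theorem swap (e : hf y y' = 1) :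
    ac (TT y * TT y' * TT y) y = y' ∧ ac (TT y * TT y' * TT y) y' = y := by
  constructor <;> simp only [ac_mul, t_ac, hf_add_left, h0, e, hs y' y, zero_smul, one_smul, add_zero,
    zero_add]
  · rw [add_right_comm, v_add_self, zero_add]
  · rw [CharTwo.add_self_eq_zero, zero_smul, add_zero, add_right_comm, v_add_self, zero_add]

/-- `y ∈ W₂^⊥` -/
abbrev Pe (y : Vn n F) : Prop := Wk (n + 1 - 2) y

theorem Pe.add (h : Pe y) (h' : Pe w) : Pe (y + w) := fun i k => by simp [h i k, h' i k]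

theorem Pe.smul (h : Pe y) (a : F) : Pe (a • y) := fun i k => by simp [h i k]

variable (h5 : 5 ≤ n)
include h5

theorem Pe.perp (h : Pe y) (hu : Wk 2 u) : hf y u = 0 := (FV.wk_perp 2 (by omega) y).1 h u hu

theorem pe_of (hu : Wk 2 u) : Pe u := fun i k => hu i (by omega)

theorem Pe.mem (h : Pe y) : TT y ∈ (Stab (ev 0) ⊓ Stab (ev 1) : Subgroup (XU n F)) := by
  have k : ∀ j : Fin (n + 1), j.val < 2 → TT y ∈ Stab (ev j) := fun j l => by
    rw [mem_Stab, t_ac, hs, h.perp h5 fun i k => by rw [ev_apply, if_neg (by omega)], zero_smul,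
      add_zero]
  exact ⟨k 0 (by simp), k 1 (by rw [Fin.val_one', Nat.mod_eq_of_lt (by omega)]; simp)⟩

theorem caseA {l : F} (l0 : l ≠ 0) (l1 : l ≠ 1) (h : Pe y) (h' : Pe y') (e : hf y y' = 1) :
    TT y ∈ Pc (Stab (ev 0) ⊓ Stab (ev 1) : Subgroup (XU n F)) := by
  let N : Subgroup (XU n F) := closure {g | ∃ y y', Pe y ∧ Pe y' ∧ hf y y' = 1 ∧ g = TT y}
  have m : ∀ {y y'}, Pe y → Pe y' → hf y y' = 1 → TT y ∈ N := fun a b c =>
    subset_closure ⟨_, _, a, b, c, rfl⟩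
  refine le_Pc (N := N) ((closure_le _).2 ?_) ((closure_le _).2 ?_) (m h h' e) <;>
    rintro _ ⟨y, y', h, h', e, rfl⟩
  · exact h.mem h5
  have s : ∀ {a : F}, a ≠ 0 → hf (a • y) (a⁻¹ • y') = 1 := fun k => by
    rw [hf_smul_left, hsr, e, mul_one, mul_inv_cancel₀ k]
  have k : l * l + 1 ≠ 0 := fun k => l1 (by
    have : (l + 1) ^ 2 = 0 := by linear_combination k + l * two0 F
    linear_combination (pow_eq_zero_iff two_ne_zero).1 this - two0 F)
  have m1 := m (h.smul l) (h'.smul l⁻¹) (s l0)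
  have := commutator_mem_commutator (mul_mem (mul_mem (mul_mem m1
    (m (h'.smul l⁻¹) (h.smul l) ((hs _ _).trans (s l0)))) m1)
    (mul_mem (mul_mem (m h h' e) (m h' h ((hs _ _).trans e))) (m h h' e)))
    (m (h.smul _) (h'.smul _) (s (inv_ne_zero k)))
  rwa [commutatorElement_def, t_cj, t_inv, show ac _ ((l * l + 1)⁻¹ • y) =
    ((l * l + 1)⁻¹ * (l * l)) • y by
      have := congrArg (l • ·) (swap (s l0)).2
      simp only [← ac_smul, smul_inv_smul₀ l0] at this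
      rw [ac_smul, ac_mul, (swap e).1, this, smul_smul, smul_smul, mul_assoc],
    t_add, ← mul_add_one, inv_mul_cancel₀ k, one_smul] at this

/-- two perpendicular hyperbolic pairs -/
structure Qd (y y' w w' : Vn n F) : Prop where
  a : Pe y
  b : Pe y'
  c : Pe w
  d : Pe w'
  ab : hf y y' = 1
  cd : hf w w' = 1
  ac : hf y w = 0
  ad : hf y w' = 0
  bc : hf y' w = 0
  bd : hf y' w' = 0

theorem caseB (h : Qd y y' w w') :
    TT y * TT y' ∈ Pc (Stab (ev 0) ⊓ Stab (ev 1) : Subgroup (XU n F)) := by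
  let N : Subgroup (XU n F) := closure {g | ∃ y y' w w', Qd y y' w w' ∧ g = TT y * TT y'}
  have m : ∀ {y y' w w'}, Qd y y' w w' → TT y * TT y' ∈ N := fun a =>
    subset_closure ⟨_, _, _, _, a, rfl⟩
  refine le_Pc (N := N) ((closure_le _).2 ?_) ((closure_le _).2 ?_) (m h) <;>
    rintro _ ⟨y, y', w, w', h, rfl⟩
  · exact mul_mem (h.a.mem h5) (h.b.mem h5)
  have k := CharTwo.add_self_eq_zero (1 : F)
  have m1 := mul_mem (m (y := y) (y' := y' + w') (w := w') (w' := w + y) (by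
    refine ⟨h.a, h.b.add h.d, h.d, h.c.add h.a, ?_, ?_, ?_, ?_, ?_, ?_⟩ <;>
      simp [hf_add_left, hf_add_right, h0, h.ab, h.cd, h.ac, h.ad, h.bc, h.bd, hs w' w, hs w' y,
        hs y' y, k])) (m (y := y' + w') (y' := w) (w := y') (w' := y + w) (by
    refine ⟨h.b.add h.d, h.c, h.b, h.a.add h.c, ?_, ?_, ?_, ?_, ?_, ?_⟩ <;>
      simp [hf_add_left, hf_add_right, h0, h.ab, h.cd, h.ac, h.ad, h.bc, h.bd, hs w' w, hs w' y,
        hs y' y, hs w' y', hs w y', hs w y, k]))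
  rw [mul_assoc, ← mul_assoc (TT (y' + w')), t_sq, one_mul] at m1
  have := commutator_mem_commutator m1 (m h)
  have e := t_cj (TT y') y
  rw [t_ac, h.ab, one_smul, t_inv] at e
  rwa [commutatorElement_def, ← conj_mul, t_cj, t_cj, ac_mul, ac_mul, t_ac w, t_ac w, h.ac, h.bc,
    zero_smul, add_zero, add_zero, t_ac, t_ac, h0, hs y', h.ab, zero_smul, add_zero, one_smul,
    add_comm y', ← e, mul_assoc (TT y'), ← mul_assoc (TT y), mul_inv_cancel_right] at this

theorem fin {D : Subgroup (XU n F)} {Gd : Vn n F → Prop} (h1 : ∀ y, Gd y → Pe y)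
    (h2 : ∀ y, Gd y → ∀ u, Wk 2 u → TT (u + y) * TT y ∈ D)
    (h3 : ∀ (a : F) (i : Fin (n + 1)), a ≠ 0 → 2 ≤ i.val → i.val < n + 1 - 2 → Gd (a • ev i))
    (h4 : ∃ y w, Gd y ∧ Gd w ∧ Gd (y + w) ∧ hf y w = 0) : Qk n F 2 ≤ D := by
  have ok : ∀ {u y : Vn n F}, Wk 2 u → Pe y → ∀ c, Ok u y c := fun a b c => FV.ok _ _ c (b.perp h5 a)
  have e1 : ∀ y, Gd y → ∀ u, Wk 2 u → EE u y 1 ∈ D := fun y a u b =>
    ee_one ((hs _ _).trans ((h1 y a).perp h5 b)) ▸ h2 y a u b
  have e2 : ∀ u, Wk 2 u → ∀ c, Tc c u ∈ D := fun u b c => by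
    obtain ⟨y, w, a1, a2, a3, a4⟩ := h4
    have b' : Wk 2 (rt c • u) := fun i k => by simp [b i k]
    have := mul_mem (mul_mem (e1 y a1 _ b') (e1 w a2 _ b')) (e1 _ a3 _ b')
    rwa [EE_mul (ok b' (h1 y a1) _) (ok b' (h1 w a2) _), EE_mul (ok b' (h1 _ a3) _) (ok b' (h1 _ a3) _),
      v_add_self, h0, hs, a4, CharTwo.add_self_eq_zero, add_zero, add_zero, zero_add, EE_smul,
      smul_zero, mul_one, nm, star_trivial, ← pow_two, rt_sq] at this
  let K : AddSubmonoid (Vn n F) :=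
    { carrier := {x | Pe x ∧ ∀ u, Wk 2 u → ∀ c, EE u x c ∈ D}
      zero_mem' := ⟨fun _ _ => rfl, e2⟩
      add_mem' := fun {x x'} a b => ⟨a.1.add b.1, fun u k c => by
        have := mul_mem (a.2 u k (c + hf x' x)) (b.2 u k 0)
        rwa [EE_mul (ok k a.1 _) (ok k b.1 _), add_zero, add_assoc, CharTwo.add_self_eq_zero,
          add_zero] at this⟩ }
  have e3 : ∀ {y x}, Gd y → Wk 2 x → x + y ∈ K := fun {y x} a b =>
    ⟨(pe_of h5 b).add (h1 y a), fun u k c => by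
      have p := (pe_of h5 b).add (h1 y a)
      have := mul_mem (mul_mem (h2 y a (u + x) fun i l => by simp [k i l, b i l])
        (inv_mem (h2 y a x b))) (e2 u k (c + 1))
      rwa [mul_inv_rev, mul_assoc (TT _), mul_inv_cancel_left, t_inv, add_assoc,
        ← ee_one ((hs _ _).trans (p.perp h5 k)), EE_mul (ok k p _) (FV.ok u 0 _ (by simp)), add_zero,
        hf_zero_left, add_zero, add_left_comm, CharTwo.add_self_eq_zero, add_zero] at this⟩
  refine FV.gen_Q 2 (by omega) D fun u x c a b => (show x ∈ K from ?_).2 u a c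
  rw [pi_eq_sum_univ' x]
  refine sum_mem fun i _ => ?_
  change x i • ev i ∈ K
  rcases eq_or_ne (x i) 0 with e | e
  · rw [e, zero_smul]; exact zero_mem _
  have z : Wk 2 (0 : Vn n F) := fun _ _ => rfl
  by_cases k : 2 ≤ i.val
  · simpa using e3 (h3 _ i e k (by by_contra l; exact e (b i (by omega)))) z
  · have g := h3 1 ⟨2, by omega⟩ one_ne_zero le_rfl (by simp only; omega)
    simpa [add_assoc] using add_mem (e3 g (x := x i • ev i) fun j l => by
      rw [Pi.smul_apply, ev_apply, if_neg (by omega), smul_zero]) (e3 g z)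

omit h5 in
theorem pe_ev {i : Fin (n + 1)} (h : i.val < n + 1 - 2) : Pe (ev i : Vn n F) := fun j k => by
  rw [ev_apply, if_neg (by omega)]

end H37.SP

theorem H37.SP.jobPC : H67.SP.JobPC := fun n F _ _ _ _ _ P b => by
  open H37.SP H67.UA H67.SP in
  have h5 := P.five
  have s : ∀ {a : F} (i : Fin (n + 1)), a ≠ 0 → hf (a • ev i) (a⁻¹ • ev i.rev : Vn n F) = 1 :=
    fun i k => by rw [hf_smul_left, hsr, hf_ev, if_pos rfl, mul_one, mul_inv_cancel₀ k]
  have r : ∀ {i : Fin (n + 1)}, 2 ≤ i.val → Pe (ev i.rev : Vn n F) := fun k =>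
    pe_ev (by rw [Fin.val_rev]; omega)
  rcases eq_or_ne n 5 with e | e
  · obtain ⟨l, l0, l1⟩ : ∃ l : F, l ≠ 0 ∧ l ≠ 1 := by
      have := P.four e
      by_contra! k
      have := Nat.card_le_card_of_surjective (![0, 1] : Fin 2 → F) fun l =>
        (eq_or_ne l 0).elim (fun k => ⟨0, k.symm⟩) fun k' => ⟨1, (k l k').symm⟩
      rw [Nat.card_fin] at this
      omega
    have g : ∀ (a : F) (i : Fin (n + 1)), a ≠ 0 → 2 ≤ i.val → i.val < n + 1 - 2 →
        Pe (a • ev i : Vn n F) ∧ ∃ y' : Vn n F, Pe y' ∧ hf (a • ev i) y' = 1 := fun a i a0 k k' =>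
      ⟨(pe_ev k').smul a, _, (r k).smul _, s i a0⟩
    refine fin h5 (Gd := fun y => Pe y ∧ ∃ y', Pe y' ∧ hf y y' = 1) (fun _ k => k.1)
      (fun y ⟨k, y', k', c⟩ u hu => mul_mem (caseA h5 l0 l1 ((pe_of h5 hu).add k) k' (by
        rw [hf_add_left, c, hs, k'.perp h5 hu, zero_add])) (caseA h5 l0 l1 k k' c)) g
      ⟨_, _, g 1 ⟨2, by omega⟩ one_ne_zero le_rfl (by simp only; omega),
        g l ⟨2, by omega⟩ l0 le_rfl (by simp only; omega), add_smul (1 : F) l (_ : Vn n F) ▸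
        g _ ⟨2, by omega⟩ (fun k => l1 (by linear_combination k - two0 F)) le_rfl
          (by simp only; omega), by rw [hf_smul_left, hsr, h0]; simp⟩
  have h7 : 7 ≤ n := by obtain ⟨m, hm⟩ := P.odd; omega
  have q : ∀ (a : F) (i j : Fin (n + 1)), a ≠ 0 → 2 ≤ i.val → i.val < n + 1 - 2 → 2 ≤ j.val →
      j.val < n + 1 - 2 → j ≠ i → j ≠ i.rev →
      Qd (a • ev i) (a⁻¹ • ev i.rev) (ev j) (ev j.rev : Vn n F) := fun a i j a0 k k' l l' c c' => by
    refine ⟨(pe_ev k').smul a, (r k).smul _, pe_ev l', r l, s i a0, ?_, ?_, ?_, ?_, ?_⟩ <;>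
      simp [hf_smul_left, hf_ev, c, c', Fin.rev_eq_iff]
  have q2 := q 1 ⟨2, by omega⟩ ⟨3, by omega⟩ one_ne_zero le_rfl (by simp only; omega) (by simp)
    (by simp only; omega) (by simp) (by simp [Fin.ext_iff]; omega)
  refine fin h5 (Gd := fun y => ∃ y' w w', Qd y y' w w') (fun _ ⟨_, _, _, k⟩ => k.a)
    (fun y ⟨y', w, w', k⟩ u hu => ?_) (fun a i a0 k k' => ?_) ⟨_, _, ⟨_, _, _, q2⟩, ?_, ?_, q2.ac⟩
  · have p : ∀ {x}, Pe x → hf (u + y) x = hf y x := fun c => by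
      rw [hf_add_left, hs, c.perp h5 hu, zero_add]
    have := mul_mem (caseB h5 ⟨(pe_of h5 hu).add k.a, k.b, k.c, k.d, (p k.b).trans k.ab, k.cd,
      (p k.c).trans k.ac, (p k.d).trans k.ad, k.bc, k.bd⟩) (inv_mem (caseB h5 k))
    rwa [mul_inv_rev, mul_assoc, mul_inv_cancel_left, t_inv] at this
  · by_cases c : i.val = 2 ∨ i.val = n - 2
    · exact ⟨_, _, _, q a i ⟨3, by omega⟩ a0 k k' (by simp) (by simp only; omega)
        (by simp [Fin.ext_iff]; omega) (by simp [Fin.ext_iff]; omega)⟩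
    · exact ⟨_, _, _, q a i ⟨2, by omega⟩ a0 k k' le_rfl (by simp only; omega)
        (by simp [Fin.ext_iff]; omega) (by simp [Fin.ext_iff]; omega)⟩
  · exact ⟨_, _, _, q2.c, q2.d, q2.a, q2.b, q2.cd, q2.ab, hf_symm q2.ac, hf_symm q2.bc,
      hf_symm q2.ad, hf_symm q2.bd⟩
  · refine ⟨_, _, _, q2.a.add q2.c, q2.b, q2.c, q2.d.add q2.b, ?_, ?_, ?_, ?_, ?_, ?_⟩ <;>
      simp only [hf_add_left, hf_add_right, h0, q2.ab, q2.cd, q2.ac, q2.ad, q2.bc, q2.bd,
        hf_symm q2.bc, add_zero, zero_add, CharTwo.add_self_eq_zero]
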