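import Cfsg.Agent.H85.L3Spec
import Cfsg.Agent.H35.CMEng

/-! Tower L33 (S3140), slot M1: the socle of `C_X(Q₀) / ⟨z⟩`. -/

set_option autoImplicit false
set_option maxRecDepth 100000
set_option linter.unusedSectionVars false

namespace H37.L3M

open Subgroup _root_.Cfsg H98 H1.Gold H31.S2 H85.FZ H85.L33
open H35.CM (iv W_iv)

universe u
variable {G : Type u} [Group G] [Finite G] {X A M N : Subgroup G} {x : ℕ → G}

/-- `w p w p⁻¹` -/
def stp (p : ℕ) (w : List ℕ) : List ℕ := TS.col (w ++ p :: w ++ iv TS [p])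

theorem stp_mem (P : Pres TS x) {p : ℕ} (hp : p < 10) (h : x p ∈ nor M) {w : List ℕ}
    (hw : W x w ∈ M) : W x (stp p w) ∈ M := by
  rw [stp, P.W_col, W_append, W_append, W_cons, W_iv P (by decide +kernel) (by simp; exact hp),
    mul_assoc]
  exact mul_mem hw (by simpa using (mem_normalizer_iff.1 h _).1 hw)

/-- `C = C_X(Q₀)` -/
abbrev CC (X : Subgroup G) (x : ℕ → G) : Subgroup G := X ⊓ cen (cl [x 2, x 3])

theorem mem_cen2 {a b g : G} : g ∈ cen (cl [a, b]) ↔ g * a = a * g ∧ g * b = b * g := by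
  rw [← le_cen1_iff, cl_le]
  simp only [List.mem_cons, List.not_mem_nil, or_false, forall_eq_or_imp, forall_eq, mem_cen1]
  exact and_congr eq_comm eq_comm

variable (h : G6 X A x)
include h

theorem Sz : H x 10 ≤ cen1 (x 0) := H_le fun i hi => mem_cen1.2 (by
  simpa using h.pres.W_eq ((by decide +kernel : ∀ i < 10, TS.same [i, 0] [0, i] = true) i hi))

theorem Cz : CC X x ≤ cen1 (x 0) := fun g hg => by
  have : Commute g (x 2) := (mem_cen2.1 hg.2).1
  have e : x 2 * x 2 = x 0 := by simpa using h.pres.W_eq (w := [2, 2]) (w' := [0]) (by decide +kernel)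
  exact mem_cen1.2 (e ▸ this.mul_right this)

theorem nC : cen1 (x 0) ≤ nor (CC X x) := by
  have := h.st.as.normal
  exact le_normalizer_inf (le_top.trans (normalizer_eq_top X).ge)
    (h.nQ.trans (normalizer_le_normalizer_centralizer _))

theorem lC {r : ℕ} (hr : r ∈ [0, 1, 4, 5, 6, 7, 8]) : x r ∈ H x 10 ⊓ CC X x := by
  obtain ⟨h1, h2, h3⟩ := (by decide +kernel : ∀ r ∈ [0, 1, 4, 5, 6, 7, 8], r < 9 ∧
    TS.same [r, 2] [2, r] = true ∧ TS.same [r, 3] [3, r] = true) r hr
  have h4 : x r ∈ H x 10 ⊓ X := h.SX.ge (x_mem h1)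
  exact ⟨h4.1, h4.2, mem_cen2.2 ⟨by simpa using h.pres.W_eq h2, by simpa using h.pres.W_eq h3⟩⟩

theorem wC {g : G} (hg : g ∈ H x 10 ⊓ CC X x) :
    ∃ w ∈ subs 9, (∀ r ∈ w, r ∈ [0, 1, 4, 5, 6, 7, 8]) ∧ g = W x w := by
  obtain ⟨w, hw, rfl⟩ := h.pres.mem (k := 9) (by decide +kernel) (by decide) (h.SX.le ⟨hg.1, hg.2.1⟩)
  obtain ⟨h1, h2⟩ := mem_cen2.1 hg.2.2
  exact ⟨w, hw, (by decide +kernel : ∀ w ∈ subs 9, TS.eqv (w ++ [2]) (2 :: w) = true →
    TS.eqv (w ++ [3]) (3 :: w) = true → ∀ r ∈ w, r ∈ [0, 1, 4, 5, 6, 7, 8]) w hw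
    (h.pres.eqv h.ind (by simpa using h1)) (h.pres.eqv h.ind (by simpa using h2)), rfl⟩

theorem zz : x 0 * x 0 = 1 := by simpa using h.pres.W_eq (w := [0, 0]) (w' := []) (by decide +kernel)

theorem nz {w : List ℕ} (c : (TS.eqv w [] || TS.eqv w [0]) = false) : W x w ∉ zpowers (x 0) := by
  rw [Bool.or_eq_false_iff] at c
  rw [H99.Wr.mem_zpowers_sq (zz h), not_or]
  exact ⟨h.pres.ne h.ind c.1, by simpa using h.pres.ne h.ind c.2⟩

theorem ly (h1 : M ≤ N) (h2 : N ≤ CC X x) (h3 : N ≤ nor M) (h4 : CC X x ≤ nor N)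
    (h5 : H x 10 ⊓ CC X x ≤ N) (hz : x 0 ∈ M) (hM : ¬ M ≤ zpowers (x 0)) : x 1 ∈ M := by
  have s1 := (h.syl.inf_of_le_normalizer le_top ((Sz h).trans (nC h))).inf_of_le_normalizer
    (h1.trans h2) (h5.trans h3)
  obtain ⟨g, g1, g2⟩ : ∃ g ∈ H x 10 ⊓ CC X x ⊓ M, g ∉ zpowers (x 0) := by
    by_contra! k
    obtain ⟨d1, d2⟩ := H99.Wr.dec_of_central s1 (le_trans k (zpowers_le.2 (le_cen1_iff.1
      ((h1.trans h2).trans (Cz h)))))
    have o1 := H2.le_map_pPrimeCore_subtype ((res_le M).trans h1) (le_normalizer_res h3)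
      (Nat.coprime_two_right.2 d1)
    have o2 := H2.le_map_pPrimeCore_subtype ((map_subtype_le _).trans h2)
      (h4.trans (H2.normalizer_le_normalizer_map_subtype N (pPrimeCore 2 N)))
      (H2.coprime_card_map_pPrimeCore_subtype N)
    have o3 := h.o1 ((pPrimeCore 2 (CC X x)).map (CC X x).subtype)
      ((map_subtype_le _).trans (le_inf inf_le_left (Cz h)))
      (Nat.coprime_two_right.1 (H2.coprime_card_map_pPrimeCore_subtype _))
      (inf_le_right.trans ((nC h).trans (H2.normalizer_le_normalizer_map_subtype _ _)))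
    refine hM fun m hm => ?_
    obtain ⟨w, hw, o, ho, rfl⟩ := d2 m hm
    rw [mem_bot.1 (o3.le (o2 (o1 ho))), mul_one]
    exact k w hw
  obtain ⟨w, hw, hw', rfl⟩ := wC h g1.1
  have n : ∀ p ∈ [0, 4, 5, 6, 7, 8], ∀ w, W x w ∈ M → W x (stp p w) ∈ M := fun p hp w hw =>
    stp_mem h.pres (by simp at hp; omega) (h3 (h5 (lC h (by simp at hp ⊢; omega)))) hw
  have fin : ∀ w, W x w ∈ M → w = [1] ∨ w = [1, 0] → x 1 ∈ M := by
    rintro w hw (rfl | rfl)
    · simpa using hw
    · exact (mul_mem_cancel_right hz).1 (by simpa using hw)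
  rcases (by decide +kernel : ∀ w ∈ subs 9, (∀ r ∈ w, r ∈ [0, 1, 4, 5, 6, 7, 8]) →
    (w = [] ∨ w = [0]) ∨ (w = [1] ∨ w = [1, 0]) ∨ ∃ p ∈ [0, 4, 5, 6, 7, 8],
      (stp p w = [1] ∨ stp p w = [1, 0]) ∨ ∃ q ∈ [0, 4, 5, 6, 7, 8],
        stp q (stp p w) = [1] ∨ stp q (stp p w) = [1, 0]) w hw hw' with
    (rfl | rfl) | k | ⟨p, hp, k | ⟨q, hq, k⟩⟩
  · exact absurd (one_mem _) g2
  · exact absurd (by simp) g2
  exacts [fin _ g1.2 k, fin _ (n p hp w g1.2) k, fin _ (n q hq _ (n p hp w g1.2)) k]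

omit h in
theorem jobM1 : JobM1.{u} := by
  intro G _ _ X A x h
  set N := closure {q | ∃ g ∈ cen1 (x 0), q = g * x 1 * g⁻¹} with hN
  have nN : cen1 (x 0) ≤ nor N := fun g hg => mem_normalizer_fintype fun n hn =>
    (closure_le (K := N.comap (MulAut.conj g).toMonoidHom)).2 (by
      rintro _ ⟨k, hk, rfl⟩
      exact subset_closure ⟨g * k, mul_mem hg hk, by simp [mul_assoc]⟩) hn
  have NC : N ≤ CC X x := (closure_le _).2 (by
    rintro _ ⟨k, hk, rfl⟩
    exact (mem_normalizer_iff.1 (nC h hk) _).1 (lC h (by simp)).2)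
  have st : ∀ p < 10, ∀ w, W x w ∈ N → W x (stp p w) ∈ N := fun p hp w hw =>
    stp_mem h.pres hp (nN (Sz h (x_mem hp))) hw
  have m1 : x 1 ∈ N := subset_closure ⟨1, one_mem _, by group⟩
  have m0 : x 0 ∈ N := by
    have := st 8 (by decide) [1] (by simpa using m1)
    rw [show stp 8 [1] = [0] by decide +kernel] at this
    simpa using this
  obtain ⟨k, hk, ek⟩ := h.vy
  have m8 : x 8 ∈ N := subset_closure ⟨k⁻¹, inv_mem hk.2, by rw [← ek]; group⟩
  have m64 : x 6 * x 4 ∈ N := by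
    have := st 4 (by decide) [8] (by simpa using m8)
    rw [show stp 4 [8] = [6, 4, 1] by decide +kernel] at this
    exact (mul_mem_cancel_right m1).1 (by simpa [mul_assoc] using this)
  have m75 : x 7 * x 5 ∈ N := by
    have := st 5 (by decide) [8] (by simpa using m8)
    rw [show stp 5 [8] = [7, 5, 1] by decide +kernel] at this
    exact (mul_mem_cancel_right m1).1 (by simpa [mul_assoc] using this)
  have UN : H x 2 ≤ N := H_le fun i hi => by interval_cases i <;> assumption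
  obtain ⟨g, g1, g2⟩ := h.x1
  have gN := mem_normalizer_iff.1 (nN (mem_cen1.2 (mem_cen_iff.1 g1 _ (x_mem (by decide)))))
  have u4 := UN (g2 (4, [5, 4]) (by decide))
  have u6 := UN (g2 (6, [7]) (by decide))
  simp only [W_cons, W_nil, mul_one] at u4 u6
  have m4 : x 4 ∈ N := by
    have := mul_mem (inv_mem (mul_mem (mul_mem u6 ((mem_normalizer_iff.1
      (nN (Sz h (x_mem (i := 7) (by decide)))) _).1 u4)) m75)) ((gN _).1 m64)
    convert this using 1; group
  have m5 : x 5 ∈ N := by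
    have := mul_mem (mul_mem (inv_mem u4) ((gN _).1 m4)) (inv_mem m4)
    convert this using 1; group
  have m6 := (mul_mem_cancel_right m4).1 m64
  have m7 := (mul_mem_cancel_right m5).1 m75
  have SN : H x 10 ⊓ CC X x ≤ N := fun u hu => by
    obtain ⟨w, -, hw, rfl⟩ := wC h hu
    refine W_mem_of fun r hr => ?_
    have := hw r hr
    simp only [List.mem_cons, List.not_mem_nil, or_false] at this
    rcases this with rfl | rfl | rfl | rfl | rfl | rfl | rfl <;> assumption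
  have cz : ∀ k ∈ cen1 (x 0), ∀ u ∈ zpowers (x 0), k * u * k⁻¹ = u := fun k hk u hu => by
    rw [mem_cen_iff.1 (cen_comm (zpowers_le.2 (le_cen1_iff.1 (le_refl (cen1 (x 0))))) hk) u hu,
      mul_inv_cancel_right]
  have hn : ((zpowers (x 0)).subgroupOf N).Normal := ⟨fun n hn k => by
    have := cz k (Cz h (NC k.2)) n hn
    exact mem_subgroupOf.2 (this.symm ▸ hn : (k : G) * n * (k : G)⁻¹ ∈ zpowers (x 0))⟩
  have ker : ∀ n : N, QuotientGroup.mk' ((zpowers (x 0)).subgroupOf N) n = 1 ↔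
      (n : G) ∈ zpowers (x 0) := fun n => QuotientGroup.eq_one_iff n
  refine ⟨N, N ⧸ (zpowers (x 0)).subgroupOf N, inferInstance, QuotientGroup.mk' _, ?_, NC,
    (Cz h).trans nN, cl_le.2 (by simp [m4, m5, m8]), QuotientGroup.mk'_surjective _, ker,
    fun c hc hc' => ?_⟩
  · have : Nontrivial (N ⧸ (zpowers (x 0)).subgroupOf N) := nontrivial_of_ne _ 1 fun e =>
      nz h (w := [1]) (by decide +kernel) (by simpa using (ker ⟨x 1, m1⟩).1 e)
    refine ⟨fun K hK => or_iff_not_imp_left.2 fun K1 => ?_⟩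
    set M := (K.comap (QuotientGroup.mk' _)).map N.subtype with hM
    have MN : M ≤ N := map_subtype_le _
    have nM : N ≤ nor M := by
      rw [← normal_subgroupOf_iff_le_normalizer MN, hM, subgroupOf,
        comap_map_eq_self_of_injective (subtype_injective N)]
      infer_instance
    have zM : x 0 ∈ M := ⟨⟨x 0, m0⟩, by
      show _ ∈ K
      rw [(ker ⟨x 0, m0⟩).2 (mem_zpowers _)]; exact one_mem _, rfl⟩
    have M1 : ¬ M ≤ zpowers (x 0) := fun e => K1 (eq_bot_iff.2 fun q hq => by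
      obtain ⟨n, rfl⟩ := QuotientGroup.mk'_surjective _ q
      exact (ker n).2 (e ⟨n, hq, rfl⟩))
    have NM : N ≤ M := (closure_le _).2 (by
      rintro _ ⟨k, hk, rfl⟩
      have e := cj_eq_self (nN (inv_mem hk))
      have := ly h (M := cj k⁻¹ M) ((cj_mono _ MN).trans e.le) NC
        (e.ge.trans ((cj_mono _ nM).trans (cj_normalizer _ _).le)) ((Cz h).trans nN) SN
        (cz _ (inv_mem hk) _ (mem_zpowers _) ▸ conj_mem_cj zM) fun e' => M1 fun m hm => by
          have := cz k hk _ (e' (conj_mem_cj hm))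
          rw [show m = k⁻¹ * m * k⁻¹⁻¹ by rw [← this]; group]
          exact e' (conj_mem_cj hm)
      simpa using mem_cj.1 this)
    refine eq_top_iff.2 fun q _ => ?_
    obtain ⟨n, rfl⟩ := QuotientGroup.mk'_surjective _ q
    obtain ⟨n', h1, h2⟩ := NM n.2
    exact Subtype.ext h2 ▸ h1
  · let D : Subgroup G :=
      { carrier := {c | c ∈ CC X x ∧ ∀ n ∈ N, c * n * c⁻¹ * n⁻¹ ∈ zpowers (x 0)}
        one_mem' := ⟨one_mem _, fun n _ => by simp⟩
        mul_mem' := fun {a b} ha hb => ⟨mul_mem ha.1 hb.1, fun n hn => by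
          have := mul_mem (hb.2 n hn) (ha.2 n hn)
          rw [← cz a (Cz h ha.1) _ (hb.2 n hn)] at this
          convert this using 1; group⟩
        inv_mem' := fun {a} ha => ⟨inv_mem ha.1, fun n hn => by
          have := inv_mem (ha.2 n hn)
          rw [← cz _ (inv_mem (Cz h ha.1)) _ this] at this
          convert this using 1; group⟩ }
    have nD : cen1 (x 0) ≤ nor D := fun k hk => mem_normalizer_fintype fun d hd =>
      ⟨(mem_normalizer_iff.1 (nC h hk) _).1 hd.1, fun n hn => by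
        have := hd.2 _ ((mem_normalizer_iff''.1 (nN hk) _).1 hn)
        rw [← cz k hk _ this] at this
        convert this using 1; group⟩
    by_contra k1
    have y1 := ly h (M := D) (N := CC X x) (fun _ hd => hd.1) le_rfl ((Cz h).trans nD) le_normalizer
      inf_le_right ⟨NC m0, fun n hn => by
        rw [← mem_cen1.1 (Cz h (NC hn))]; simp⟩ fun e => k1 (e ⟨hc, hc'⟩)
    have y8 := ((mem_normalizer_iff''.1 (nD hk.2) _).1 y1).2 _ m4
    rw [← ek] at y8
    refine nz h (w := [8, 4] ++ iv TS [8] ++ iv TS [4]) (by decide +kernel) ?_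
    rw [W_append, W_append, W_iv h.pres (by decide +kernel) rfl, W_iv h.pres (by decide +kernel) rfl]
    convert y8 using 1
    simp [mul_assoc]

end H37.L3M
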