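import Cfsg.Agent.H37.SgN
import Cfsg.Agent.S2175
import Cfsg.Agent.S2176
import Cfsg.Agent.S2181

/-! STD-G facts, slot FD: classes of involutions in `Aut X`. -/

set_option autoImplicit false
set_option maxHeartbeats 400000
set_option linter.unusedSectionVars false

namespace H37.Sg

open Cfsg Cfsg.Lie H63 H65 H64 H64.SG H48.SgTy

theorem card_le_mul {G S : Type*} [Group G] [Finite S] {U Y : Subgroup G} (f : U → S)
    (hf : ∀ a b, f a = f b → (a : G)⁻¹ * b ∈ Y) :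
    Nat.card U ≤ Nat.card ↥(U ⊓ Y) * Nat.card S := by
  rw [← Subgroup.card_mul_index (Y.subgroupOf U), ← Subgroup.inf_subgroupOf_left,
    Nat.card_congr (Subgroup.subgroupOfEquivOfLe inf_le_left).toEquiv, Subgroup.inf_subgroupOf_left]
  refine Nat.mul_le_mul_left _ (Nat.card_le_card_of_injective
    (fun q : U ⧸ Y.subgroupOf U => f q.out) fun a b e => ?_)
  rw [← a.out_eq, ← b.out_eq]
  exact QuotientGroup.eq.2 (hf _ _ e)

/-- Conjugacy under inner automorphisms. -/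
def Xc {G : Type*} [Group G] (α β : MulAut G) : Prop :=
  ∃ g, β = MulAut.conj g * α * (MulAut.conj g)⁻¹

theorem Xc.symm {G : Type*} [Group G] {α β : MulAut G} (h : Xc α β) : Xc β α := by
  obtain ⟨g, rfl⟩ := h
  exact ⟨g⁻¹, by rw [map_inv]; group⟩

theorem Xc.trans {G : Type*} [Group G] {α β γ : MulAut G} (h : Xc α β) (h' : Xc β γ) : Xc α γ := by
  obtain ⟨g, rfl⟩ := h
  obtain ⟨k, rfl⟩ := h'
  exact ⟨k * g, by rw [map_mul]; group⟩

/-- The same coset of the inner automorphisms. -/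
def Co {G : Type*} [Group G] (α β : MulAut G) : Prop :=
  (QuotientGroup.mk α : Out G) = QuotientGroup.mk β

theorem mk_conj {G : Type*} [Group G] (g : G) : (QuotientGroup.mk (MulAut.conj g) : Out G) = 1 :=
  (QuotientGroup.eq_one_iff (N := Inn G) (MulAut.conj g)).2 ⟨g, rfl⟩

theorem Xc.co {G : Type*} [Group G] {α β : MulAut G} (h : Xc α β) : Co α β := by
  obtain ⟨g, rfl⟩ := h
  simp [Co, mk_conj]

theorem Co.ex {G : Type*} [Group G] {α β : MulAut G} (h : Co α β) : ∃ g, β = MulAut.conj g * α := by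
  obtain ⟨g, hg⟩ := (QuotientGroup.eq_one_iff (N := Inn G) (β * α⁻¹)).1
    (by rw [QuotientGroup.mk_mul, QuotientGroup.mk_inv, ← h, mul_inv_cancel])
  exact ⟨g, eq_mul_of_mul_inv_eq hg.symm⟩

section

variable {D : ChevalleyDatum} [RS D] (hD : ET D) [Tab D] [Comm D] {F : Type} [Field F] [Finite F]
  [CharP F 2]
include hD

local notation "𝔵" => xG D F

theorem cls {t : ↥(D.group F)} (e : t * t = 1) : ∃ A : List (Rt D),
    A.map Fin.val ∈ chs D D.rank (List.range D.rank) ∧ Ort A ∧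
      ∃ g, g * t * g⁻¹ = (A.map fun s : Rt D => 𝔵 s 1).prod := by
  have c : ∀ A ∈ chs D D.rank (List.range D.rank),
      (∀ a ∈ A, a < D.nroots) ∧ A.Pairwise (D.pairing · · = 0) := by
    rcases hD with rfl | rfl | rfl <;> decide +kernel
  obtain ⟨g, hg⟩ := exists_nrm ((is2_of_sq e).map MulAut.conj).zpowers
  have h1 := hg _ (Subgroup.mem_zpowers _)
  rw [conj_conj] at h1
  have e0 : (H64.wdata D).PhiJ {j | (j : ℕ) ∈ List.range D.rank} = Set.univ := by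
    rw [← WData.PhiJ_univ]; congr 1; ext; simp
  obtain ⟨A, hA, k, -, e1⟩ := exists_chain (ad D F).toStB (diagI hD) D.rank (List.range D.rank)
    (by simp) (g * t * g⁻¹) (by
      simp only [e0, Set.mem_univ, and_true]; exact mem_UU ((is2_of_sq e).conj g) h1)
    (by rw [conj_mul, e]; group)
  obtain ⟨A, rfl⟩ := exists_map_val (c A hA).1
  exact ⟨A, hA, List.pairwise_map.1 (c _ hA).2, k * g, by
    rw [pr, List.map_map] at e1; rw [← Function.comp_def (fun s => 𝔵 s 1), ← e1]; group⟩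

omit hD in
theorem exists_sqrt (a : F) : ∃ b : F, b ^ 2 = a :=
  have : Fact (Nat.Prime 2) := ⟨Nat.prime_two⟩
  perfect_of_finite 2 a

theorem inv_inner (T : Ty D F) {t : ↥(D.group F)} (e : t * t = 1) (β : MulAut ↥(D.group F)) :
    IsConj t (β t) := by
  have h := ad D F
  obtain ⟨A, hA, ho, g, hg⟩ := cls hD e
  obtain ⟨k, π, c, σ, h1⟩ := T.ex (β * (MulAut.conj g)⁻¹)
  choose s hs using T.std _ π c σ h1
  choose l hl using fun r => exists_sqrt (s r)⁻¹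
  have h2 : (MulAut.conj k * (β * (MulAut.conj g)⁻¹)) (g * t * g⁻¹) =
      (A.map fun r : Rt D => 𝔵 r (s r)).prod := by
    rw [hg, map_list_prod, List.map_map]
    refine congrArg _ (List.map_congr_left fun a ha => ?_)
    rw [Function.comp, (hs a).2, map_one, mul_one]
    split_ifs with h3
    exacts [rfl, by rw [(gr_of T hD h1 h3).ch _ hA a (List.mem_map_of_mem ha)]]
  have h3 := ho.prod_conj h.toSt CharTwo.two_eq_zero (φ := fun r => hh D 𝔵 r (l r))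
    (ψ := fun r => 𝔵 r (s r)) (fun r _ => hh_mem_pm r _) fun r _ => x_mem_pm r _
  have h4 : ∀ r : Rt D, hh D 𝔵 r (l r) * 𝔵 r (s r) * (hh D 𝔵 r (l r))⁻¹ = 𝔵 r 1 := fun r => by
    rw [h.toStN.hh_conj r r (fun e => (hs r).1 (by simpa [e, eq_comm] using hl r)), pairing_self,
      zpow_ofNat, hl, inv_mul_cancel₀ (hs r).1]
  simp only [h4] at h3
  rw [← h2, ← hg] at h3
  refine (isConj_iff.2 ⟨g, rfl⟩).trans ((isConj_iff.2 ⟨_, h3⟩).symm.trans
    (isConj_iff.2 ⟨k⁻¹, ?_⟩))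
  simp [mul_assoc]

theorem xc_std (T : Ty D F) {ω α ε : MulAut ↥(D.group F)} (h : ω ∈ StdA D 𝔵) (e : ω * ω = 1)
    (h1 : α = ε * ω * ε⁻¹) (h2 : Co ω α) : Xc ω α := by
  obtain ⟨g, π, c, σ, h3⟩ := T.ex ε
  have h4 : Xc α (MulAut.conj g * ε * ω * (MulAut.conj g * ε)⁻¹) := ⟨g, by rw [h1]; group⟩
  obtain ⟨y, hy⟩ := Co.ex (h2.trans h4.co)
  obtain ⟨k, -, hk⟩ := std_conj hD h (mul_mem (mul_mem (std_of_dt h3) h) (inv_mem (std_of_dt h3))) e
    (by rw [conj_mul, e]; group) hy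
  exact Xc.trans ⟨k, hk.symm⟩ h4.symm

theorem ic' (T : Ty D F) {α : MulAut ↥(D.group F)} (e : α * α = 1) (ho : ∀ g, α ≠ MulAut.conj g) :
    ∃ (ω : MulAut ↥(D.group F)), ∃ π c σ a, DT D F ω π c σ ∧ ω * ω = 1 ∧ (σ = 1 ∨ a = 0) ∧
      Xc α (ω * MulAut.conj (𝔵 (hi D) a)) ∧ ∀ l, l ≠ 0 → σ l = l →
        ω (hh D 𝔵 (hi D) l) = hh D 𝔵 (hi D) l := by
  obtain ⟨g, d, ω, π, σ, a, h1, h2, h3, -, h4⟩ := nf hD T e ho
  have h5 : ∀ (d : Fin D.rank → Fˣ) l, l ≠ 0 → diagAut D d (hh D 𝔵 (hi D) l) = hh D 𝔵 (hi D) l :=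
    fun d l hl => (ad D F).conj_injective (by
      obtain ⟨d', hd⟩ := conj_HH hD (hh_mem_HH D 𝔵 (hi D) hl)
      rw [← conj_conj, hd, ← map_inv, ← map_mul, ← map_mul, mul_inv_cancel_comm])
  refine ⟨diagAut D d⁻¹ * ω * diagAut D d, _, _, _, chr D d⁻¹ (hi D) * a,
    dat_mul hD (dat_mul hD (dat_diagAut _) h1) (dat_diagAut _), ?_, h3.imp (fun h => ?_) fun h => ?_,
    ⟨g, ?_⟩, fun l hl e => ?_⟩
  · rw [map_inv, ← inv_inv (diagAut D d), inv_inv (diagAut D d)⁻¹, conj_mul, h2]; group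
  · rw [h]; rfl
  · rw [h, mul_zero]
  · rw [← diagAut_xG, ← conj_conj, map_inv, eq_mul_inv_of_mul_eq h4.symm]; group
  · have R := rho_rh T ω
    have h6 : ∀ t, ω (𝔵 (D.neg (hi D)) t) = 𝔵 (D.neg (hi D)) (σ t) := fun t => by
      rw [← negR_val, std1' T h1, R.neg hD, R.hi hD]
    rw [MulAut.mul_apply, MulAut.mul_apply, h5 _ l hl]
    refine Eq.trans (congrArg _ ?_) (h5 _ l hl)
    simp only [hh_eq, nn_eq, map_mul, h6, std1' T h1, R.hi hD, map_neg, map_inv₀, map_one,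
      show σ l = l from e]

theorem inv_outer (T : Ty D F) {α α' β : MulAut ↥(D.group F)} (e : α * α = 1)
    (ho : ∀ g, α ≠ MulAut.conj g) (h : α' = β * α * β⁻¹) (hc : Co α α') : Xc α α' := by
  have co : ∀ {ω : MulAut ↥(D.group F)} {z}, Co (ω * MulAut.conj z) ω := by simp [Co, mk_conj]
  obtain ⟨ω, π, c, σ, a, h1, h2, -, h3, -⟩ := ic' hD T e ho
  obtain ⟨ω', π', c', σ', a', h1', h2', h4, h3', h5⟩ := ic' hD T (α := α')
    (by rw [h, conj_mul, e]; group) fun g hg => ho (β⁻¹ g) (by rw [← conj_conj, ← hg, h]; group)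
  have x0 := (ad D F).toSt.x_zero (hi D)
  by_cases ha : a = 0
  · rw [ha, x0, map_one, mul_one] at h3
    obtain ⟨g, hg⟩ := h3.symm
    exact h3.trans (xc_std hD T (std_of_dt h1) h2 (ε := β * MulAut.conj g) (by rw [h, hg]; group)
      (h3.co.symm.trans hc))
  by_cases ha' : a' = 0
  · rw [ha', x0, map_one, mul_one] at h3'
    obtain ⟨g, hg⟩ := h3'.symm
    exact (h3'.trans (xc_std hD T (std_of_dt h1') h2' (ε := β⁻¹ * MulAut.conj g)
      (by rw [mul_inv_rev, mul_assoc β⁻¹, ← mul_assoc, mul_assoc β⁻¹, ← hg, h]; group)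
      (h3'.co.symm.trans hc.symm))).symm
  obtain ⟨y, hy⟩ := Co.ex (co.symm.trans (h3.co.symm.trans (hc.trans (h3'.co.trans co))))
  obtain ⟨k, hk, h6⟩ := std_conj hD (std_of_dt h1) (std_of_dt h1') h2 h2' hy
  obtain ⟨b, hb, h7⟩ := (ad D F).toStN.HH_conj hk (hi D)
  obtain ⟨l, hl⟩ := exists_sqrt (a' / (b * a))
  have l0 : l ≠ 0 := by rintro rfl; simp [eq_comm, ha, ha', hb] at hl
  refine h3.trans (Xc.trans (β := ω' * MulAut.conj (𝔵 (hi D) (b * a))) ⟨k, ?_⟩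
    (Xc.trans ⟨hh D 𝔵 (hi D) l, ?_⟩ h3'.symm))
  · rw [← h6, ← (h7 a).1, map_mul, map_mul, map_inv]; group
  · rw [← mul_assoc, ← h5 l l0 (by rw [h4.resolve_right ha']; rfl), ← mul_conj,
      h5 l l0 (by rw [h4.resolve_right ha']; rfl), mul_assoc, mul_assoc, ← map_inv, ← map_mul,
      ← map_mul, ← mul_assoc, (ad D F).toStN.hh_conj _ _ l0, pairing_self, zpow_ofNat, hl,
      div_mul_cancel₀ _ (mul_ne_zero hb ha)]

omit hD in
theorem cls1 {R : List (List ℕ × List ℕ)} (c3 : ∀ B ∈ R, upc D B.1 B.2 ∧ B.1 ≠ [] ∧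
    B.1.Pairwise (H68.cz D 2 · ·)) (c5 : ∀ B ∈ R, B.2.length * 2 + 6 ≤ D.nroots / 2)
    (h : ∀ g ∈ D.group F, orderOf g = 2 → ∃ B ∈ R, ∃ h ∈ D.group F, h * g * h⁻¹ = pr (xU D F) B.1)
    {t : ↥(D.group F)} (e : t * t = 1) (h1 : t ≠ 1) : ∃ A I : List ℕ, upc D A I = true ∧
      I.length * 2 + 6 ≤ D.nroots / 2 ∧ ∃ g, g * t * g⁻¹ = pr 𝔵 A := by
  have : Fact (Nat.Prime 2) := ⟨Nat.prime_two⟩
  obtain ⟨B, hB, g, hg, e⟩ := h t t.2 (by
    rw [Subgroup.orderOf_coe, orderOf_eq_prime ((sq t).trans e) h1])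
  refine ⟨B.1, B.2, (c3 B hB).1, c5 B hB, ⟨g, hg⟩, Subtype.ext (e.trans ?_)⟩
  rw [pr, pr, ← Subgroup.subtype_apply, map_list_prod, List.map_map]; rfl

theorem cls2 {t : ↥(D.group F)} (e : t * t = 1) : ∃ A I : List ℕ, upc D A I = true ∧
    I.length * 2 + 6 ≤ D.nroots / 2 ∧ ∃ g, g * t * g⁻¹ = pr 𝔵 A := by
  have := Fintype.ofFinite F
  by_cases h1 : t = 1
  · exact ⟨[], [], by simp [upc], by rcases hD with rfl | rfl | rfl <;> decide, 1, by simp [h1, pr]⟩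
  rcases hD with rfl | rfl | rfl
  · open Cfsg.Agent.S2175 in
    exact cls1 c3 (by decide) (invol_classes (f := fun _ => true) one_ne_zero (cube_hyp c0) H C R
      (fun _ _ => rfl) hH c1 c2 c3 c4).2.1 e h1
  · open Cfsg.Agent.S2181 in
    exact cls1 c3 (by decide) (invol_classes (f := fun _ => true) one_ne_zero (cube_hyp c0) H C R
      (fun _ _ => rfl) hH c1 c2 c3 c4).2.1 e h1
  · open Cfsg.Agent.S2176 in
    exact cls1 c3 (by decide) (invol_classes (f := fun _ => true) one_ne_zero (cube_hyp c0) H C R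
      (fun _ _ => rfl) hH c1 c2 c3 c4).2.1 e h1

theorem szin {t : ↥(D.group F)} (e : t * t = 1) : ∃ Y ≤ Cz t, IsPGroup 2 Y ∧
    Nat.card F ^ (D.nroots / 2 + 6) ≤ Nat.card Y ^ 2 := by
  classical
  have : Fact (Nat.Prime 2) := ⟨Nat.prime_two⟩
  have h := ad D F
  have h2 : ((2 : ℤ) : F) = 0 := by exact_mod_cast CharP.cast_eq_zero F 2
  obtain ⟨A, I, c, hI, g, hg⟩ := cls2 hD e
  have hI2 := of_decide_eq_true c
  obtain ⟨L, rfl⟩ := exists_map_val (n := D.nroots) fun a ha =>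
    (hI2.2 a (List.mem_append_right A ha)).1.1
  have hL : L.Nodup := (List.nodup_append.1 hI2.1).2.1.of_map _
  have key : ∀ u : UU D 𝔵, ∃ y : {a // a ∈ L} → F, u.1⁻¹ * pr 𝔵 A * u.1⁻¹⁻¹ =
      pr 𝔵 A * (L.attach.map fun a => 𝔵 a.1 (y a)).prod := fun u => by
    obtain ⟨n, hn, e1⟩ := conj_pr_of_upc h.toSt h2 c (inv_mem u.2)
    obtain ⟨y, hy, rfl⟩ := (commUp_of_upc h.toSt h2 c (fun _ h => h)
      fun _ => List.mem_append_right _).exists_prod L hL (by simp [Fin.val_inj]) hn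
    choose z hz using fun a => h.toSt.mem_XR.1 (hy a)
    exact ⟨fun a => z a, by rw [e1, List.attach_map_val (f := fun a : Rt D => 𝔵 a (z a)), funext hz]⟩
  choose f hf using key
  have h3 := card_le_mul (U := UU D 𝔵) (Y := Cz (pr 𝔵 A)) (fun u => f u⁻¹) fun a b e => mem_Cz.2 (by
    have := (hf a⁻¹).trans (e ▸ (hf b⁻¹).symm)
    simp only [InvMemClass.coe_inv, inv_inv] at this
    calc _ = a.1⁻¹ * (a * pr 𝔵 A * a.1⁻¹) * b := by group
      _ = _ := by rw [this]; group)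
  rw [show Nat.card (UU D 𝔵) = _ from h.toStB.card_U, Nat.card_fun,
    Nat.card_eq_fintype_card (α := {a // a ∈ L}), Fintype.card_of_subtype L.toFinset (by simp),
    List.toFinset_card_of_nodup hL] at h3
  refine ⟨cjs g⁻¹ (UU D 𝔵 ⊓ Cz (pr 𝔵 A)), ?_, ((h.isPGroup_U 2).to_inf_left).map _, ?_⟩
  · rw [show t = g⁻¹ * pr 𝔵 A * g⁻¹⁻¹ by rw [← hg]; group, ← cj_Cz]
    exact Subgroup.map_mono inf_le_right
  · rw [Subgroup.card_map_of_injective (MulAut.conj g⁻¹).injective]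
    rw [List.length_map] at hI
    have h4 : 0 < Nat.card F ^ (L.length * 2) := pow_pos Nat.card_pos _
    refine Nat.le_of_mul_le_mul_right (le_trans ?_ ((Nat.pow_le_pow_left h3 2).trans_eq ?_)) h4
    · rw [← pow_add, ← pow_mul]
      exact Nat.pow_le_pow_right Nat.card_pos (by omega)
    · rw [mul_pow, ← pow_mul]

end

theorem jobFD : JobFD := by
  intro D _ _ _ hD F _ _ _
  obtain ⟨T⟩ := jobTy D hD F
  refine ⟨fun g e => ?_, fun α e ho => ?_, fun α β e ⟨k, hk⟩ => ?_, fun g e => szin hD e⟩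
  · obtain ⟨A, -, -, k, hk⟩ := cls hD e
    exact ⟨k, fun τ => by simp [hk, map_list_prod, Function.comp_def]⟩
  · obtain ⟨ω, π, c, σ, a, h1, h2, h3, ⟨g, h4⟩, -⟩ := ic' hD T e ho
    refine ⟨g, ω, π, c, σ, h1, h2, h3.symm.imp (fun h => ?_) fun h => ⟨h, a, h4.symm⟩⟩
    rw [← h4, h, (ad D F).toSt.x_zero, map_one, mul_one]
  · by_cases ho : ∀ g, α ≠ MulAut.conj g
    · exact inv_outer hD T e ho rfl (by rw [Co, hk, mk_conj_mul])
    push Not at ho
    obtain ⟨t, rfl⟩ := ho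
    obtain ⟨g, hg⟩ := isConj_iff.1 (inv_inner hD T (t := t)
      ((ad D F).conj_injective (by rw [map_mul, e, map_one])) β)
    exact ⟨g, by rw [conj_conj, conj_conj, ← hg]; rfl⟩

end H37.Sg
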