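import Cfsg.Agent.H48.SgTy
import Cfsg.Agent.H64.SGK89
import Cfsg.Agent.H63.Ov4
import Cfsg.Agent.H63.Tw1

/-! STD-G facts, kit for the slots FD and FE: involutory symmetries of the roots, the filtration of
`U` by orbits, removal of layers of a cocycle. -/

set_option autoImplicit false
set_option maxHeartbeats 400000
set_option linter.unusedSectionVars false

namespace H37.Sg

open Cfsg Cfsg.Lie H63 H65 H64 H64.SG
open scoped commutatorElement

variable {D : ChevalleyDatum} [RS D]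

/-- An involutory symmetry of the roots. -/
structure Rho (ρ : Equiv.Perm (Rt D)) : Prop where
  inv : ∀ r, ρ (ρ r) = r
  hgt : ∀ r, ht (ρ r) = ht r
  pr : ∀ r s, D.pairing (ρ r) (ρ s) = D.pairing r s
  orth : ∀ r, ρ r = r ∨ D.pairing r (ρ r) = 0

theorem add_of_pairing (hD : ET D) {r s u : Rt D} (h1 : D.pairing r s = -1)
    (h2 : D.pairing u r + D.pairing u s = 2) : rt u = rt r + rt s := by
  obtain ⟨v, hv⟩ := exists_add h1
  rwa [hD.eq_of_pairing (r := u) (s := v) (by rw [pairing_add u hv, h2])] at hv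

/-- The key of the filtration. -/
def ky (ρ : Equiv.Perm (Rt D)) (r : Rt D) : ℕ := (ht r).toNat * D.nroots + min (r : ℕ) (ρ r)

/-- The steps of the filtration. -/
def Sk (ρ : Equiv.Perm (Rt D)) (k : ℕ) : Set (Rt D) := {r | Pos r ∧ k ≤ ky ρ r}

theorem ky_lt (ρ : Equiv.Perm (Rt D)) {r s c : Rt D} (hr : Pos r) (hs : Pos s) {i j : ℤ}
    (hi : 1 ≤ i) (hj : 1 ≤ j) (e : rt c = i • rt r + j • rt s) : ky ρ r < ky ρ c := by
  have h1 := (btw_of_eq hr hs hi hj e).1.1
  have h2 : min (r : ℕ) (ρ r) < D.nroots := min_lt_of_left_lt r.2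
  unfold ky
  nlinarith [Nat.zero_le (min (c : ℕ) (ρ c))]

namespace Rho

variable {ρ : Equiv.Perm (Rt D)} (R : Rho ρ)
include R

theorem pos {r : Rt D} : Pos (ρ r) ↔ Pos r := by rw [pos_iff_ht, pos_iff_ht, R.hgt]

theorem pr' (r s : Rt D) : D.pairing (ρ r) s = D.pairing r (ρ s) := by
  rw [← R.pr r, R.inv]

theorem nonneg (r : Rt D) : 0 ≤ D.pairing r (ρ r) := by
  rcases R.orth r with e | e <;> simp [e]

theorem neg (hD : ET D) (r : Rt D) : ρ (negR r) = negR (ρ r) :=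
  hD.eq_neg_of_pairing (by rw [R.pr]; simp)

theorem add (hD : ET D) {r s u : Rt D} (h : rt u = rt r + rt s) :
    rt (ρ u) = rt (ρ r) + rt (ρ s) :=
  add_of_pairing hD (by rw [R.pr, hD.pairing_of_add h])
    (by rw [R.pr, R.pr, ← pairing_add u h, pairing_self])

theorem hi (hD : ET D) : ρ (hi D) = hi D := hD.eq_hi_of_ht (R.hgt _).ge

theorem fix_comb {r s c : Rt D} (hr : ρ r = r) (hs : ρ s = s) {i j : ℤ}
    (e : rt c = i • rt r + j • rt s) : ρ c = c := by
  refine (R.orth c).resolve_right fun h => ?_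
  have h1 := pairing_of_comb (ρ c) e
  rw [R.pr', R.pr', R.pr', hr, hs, ← pairing_of_comb c e, pairing_self] at h1
  omega

theorem ky_rho (r : Rt D) : ky ρ (ρ r) = ky ρ r := by rw [ky, ky, R.hgt, R.inv, min_comm]

theorem ky_eq {r c : Rt D} (e : ky ρ c = ky ρ r) : c = r ∨ c = ρ r := by
  have h1 := congrArg (· % D.nroots) e
  simp only [ky, Nat.mul_add_mod_self_right] at h1
  rw [Nat.mod_eq_of_lt (min_lt_of_left_lt c.2), Nat.mod_eq_of_lt (min_lt_of_left_lt r.2)] at h1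
  rcases min_choice (c : ℕ) (ρ c) with a | a <;> rcases min_choice (r : ℕ) (ρ r) with b | b <;>
    rw [a, b, Fin.val_inj] at h1
  · exact Or.inl h1
  · exact Or.inr h1
  · exact Or.inr (by rw [← h1, R.inv])
  · exact Or.inl (ρ.injective h1)

end Rho

variable {F : Type*} [Field F] {G : Type*} [Group G] {x : ℕ → F → G} {ρ : Equiv.Perm (Rt D)}

theorem comm_x (h : St D x) {S : Set (Rt D)} {a b : Rt D} (ha : Pos a) (hb : Pos b)
    (hS : ∀ c, Pos c → ky ρ a < ky ρ c → ky ρ b < ky ρ c → c ∈ S) {y z : G} (hy : y ∈ XR D x a)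
    (hz : z ∈ XR D x b) : ⁅y, z⁆ ∈ gen (XR D x) S := by
  by_cases hab : a = b
  · subst hab
    obtain ⟨s, rfl⟩ := h.mem_XR.1 hy
    obtain ⟨t, rfl⟩ := h.mem_XR.1 hz
    rw [commutatorElement_eq_one_iff_mul_comm.2 (h.x_comm a s t)]
    exact one_mem _
  · exact h.commutator_mem hab (by rintro rfl; exact pos_negR.1 ha hb) (fun c i j hi hj e =>
      hS c (pos_of_comb hb ha hi hj e) (ky_lt ρ ha hb hj hi (e.trans (add_comm _ _)))
        (ky_lt ρ hb ha hi hj e)) hy hz

theorem conj_Sk (h : St D x) (k : ℕ) {g : G} (hg : g ∈ UU D x) {v : G}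
    (hv : v ∈ gen (XR D x) (Sk ρ k)) : g * v * g⁻¹ ∈ gen (XR D x) (Sk ρ k) :=
  CommUp.conj_mem_filt (S := {r | Pos r}) (f := ky ρ) (fun _ ha _ hb _ _ hy _ hz =>
    comm_x h ha hb (fun _ h1 h2 h3 => And.intro h1 (And.intro h2 h3)) hy hz) k hg hv

theorem Sk_le (k : ℕ) : gen (XR D x) (Sk ρ k) ≤ UU D x := gen_mono _ fun _ h => h.1

theorem comm_Sk (h : St D x) (k : ℕ) {g : G} (hg : g ∈ UU D x) {v : G}
    (hv : v ∈ gen (XR D x) (Sk ρ k)) : ⁅g, v⁆ ∈ gen (XR D x) (Sk ρ (k + 1)) :=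
  comm_mem_of_gen (fun _ hu _ hk => conj_Sk h _ hu hk) le_rfl (Sk_le k)
    (fun _ ha _ hb _ hy _ hz => comm_x h ha hb.1
      (fun _ h1 _ h3 => And.intro h1 (lt_of_le_of_lt hb.2 h3)) hy hz) hg hv

theorem split_Sk (hD : ET D) (h : St D x) (R : Rho ρ) {r : Rt D} (hr : Pos r) {v : G}
    (hv : v ∈ gen (XR D x) (Sk ρ (ky ρ r))) : ∃ s t, ∃ w ∈ gen (XR D x) (Sk ρ (ky ρ r + 1)),
      v = x r s * x (ρ r) t * w := by
  refine gen_induction_left (p := fun v => ∃ s t, ∃ w ∈ gen (XR D x) (Sk ρ (ky ρ r + 1)),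
      v = x r s * x (ρ r) t * w) ⟨0, 0, 1, one_mem _, by simp [h.x_zero]⟩ ?_ hv
  rintro c hc y hy _ - ⟨s, t, w, hw, rfl⟩
  rcases hc.2.eq_or_lt with e | e
  · obtain ⟨a, rfl⟩ := h.mem_XR.1 hy
    rcases R.ky_eq e.symm with rfl | rfl
    · exact ⟨a + s, t, w, hw, by rw [← h.add c c.2]; group⟩
    · exact ⟨s, a + t, w, hw, by
        rw [← h.add _ (ρ r).2, ← mul_assoc, ← mul_assoc, ← hD.comm_of_nonneg h (R.nonneg r)]; group⟩
  · have m : x r s * x (ρ r) t ∈ UU D x :=
      mul_mem (x_mem_gen (S := {r | Pos r}) hr s) (x_mem_gen (S := {r | Pos r}) (R.pos.2 hr) t)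
    have m' : y ∈ gen (XR D x) (Sk ρ (ky ρ r + 1)) := le_gen (XR D x) (And.intro hc.1 e) hy
    exact ⟨s, t, _, mul_mem (conj_Sk h _ (inv_mem m) m') hw, by group⟩

theorem map_gen_mem {ω : G →* G} {σ : F → F} (hω : ∀ (r : Rt D) a, ω (x r a) = x (ρ r) (σ a))
    {S : Set (Rt D)} (hS : ∀ r ∈ S, ρ r ∈ S) {u : G} (hu : u ∈ gen (XR D x) S) :
    ω u ∈ gen (XR D x) S :=
  (SG.gen_le_iff (K := (gen (XR D x) S).comap ω)).2 (fun r hr a => by
    rw [Subgroup.mem_comap, hω]; exact x_mem_gen (hS r hr) _) hu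

/-- Removal of the layers of a cocycle. -/
theorem lay [CharP F 2] (hD : ET D) (h : StB D x) (R : Rho ρ) {ω : G →* G} {σ : F →+* F}
    (hω : ∀ (r : Rt D) a, ω (x r a) = x (ρ r) (σ a)) (ω2 : ∀ g, ω (ω g) = g) {Z : Set (Rt D)}
    (hZ : Z = {r | Pos r ∧ ρ r = r} ∨ Z = ∅ ∧ ∃ a, a + σ a = 1) {u : G} (hu : u ∈ UU D x)
    (e : u * ω u = 1) : ∃ v : G, v⁻¹ * u * ω v ∈ gen (XR D x) Z := by
  have hs := h.toSt
  have z1 : ∀ r ∈ Z, Pos r ∧ ρ r = r := by
    rcases hZ with rfl | ⟨rfl, -⟩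
    exacts [fun _ h => h, fun _ h => h.elim]
  have zU : gen (XR D x) Z ≤ UU D x := gen_mono _ fun r hr => (z1 r hr).1
  have key : ∀ k, ∃ v : G, ∃ z ∈ gen (XR D x) Z, ∃ w ∈ gen (XR D x) (Sk ρ k),
      v⁻¹ * u * ω v = z * w := by
    intro k
    induction k with
    | zero => exact ⟨1, 1, one_mem _, u, gen_mono _ (fun _ h => And.intro h (Nat.zero_le _)) hu, by simp⟩
    | succ k ih =>
      obtain ⟨v, z, hz, w, hw0, e1⟩ := ih
      by_cases hk : ∃ r, Pos r ∧ ky ρ r = k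
      swap
      · exact ⟨v, z, hz, w, gen_mono _ (fun r hr =>
          And.intro hr.1 (hr.2.lt_of_ne fun e => hk ⟨r, hr.1, e.symm⟩)) hw0, e1⟩
      obtain ⟨r, hr, rfl⟩ := hk
      obtain ⟨s, t, w, hw, rfl⟩ := split_Sk hD hs R hr hw0
      have m1 : ∀ a, x r a ∈ gen (XR D x) (Sk ρ (ky ρ r)) := x_mem_gen ⟨hr, le_rfl⟩
      have m2 : ∀ a, x (ρ r) a ∈ gen (XR D x) (Sk ρ (ky ρ r)) :=
        x_mem_gen ⟨R.pos.2 hr, (R.ky_rho r).ge⟩
      have c := hD.comm_of_nonneg hs (R.nonneg r)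
      have fin : ∀ b, (x r b)⁻¹ * (x r s * x (ρ r) t) * x (ρ r) (σ b) ∈ gen (XR D x) Z →
          ∃ v : G, ∃ z ∈ gen (XR D x) Z, ∃ w ∈ gen (XR D x) (Sk ρ (ky ρ r + 1)),
            v⁻¹ * u * ω v = z * w := fun b hb =>
        ⟨v * x r b, _, mul_mem hz hb, _, mul_mem (conj_Sk hs _ (inv_mem (zU hb))
          (comm_Sk hs _ (inv_mem (zU hz)) (inv_mem (m1 b))))
          (conj_Sk hs _ (inv_mem (Sk_le _ (m2 (σ b)))) hw), by
            rw [map_mul, hω, show (v * x r b)⁻¹ * u * (ω v * x (ρ r) (σ b)) =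
              (x r b)⁻¹ * (v⁻¹ * u * ω v) * x (ρ r) (σ b) by group, e1, commutatorElement_def]
            group⟩
      have hM : x r (s + σ t) * x (ρ r) (t + σ s) ∈ gen (XR D x) (Z ∪ Sk ρ (ky ρ r + 1)) := by
        have l1 := gen_mono (XR D x) (Set.subset_union_left (s := Z) (t := Sk ρ (ky ρ r + 1)))
        have l2 := gen_mono (XR D x) (Set.subset_union_right (s := Z) (t := Sk ρ (ky ρ r + 1)))
        have hz' := map_gen_mem hω (fun a ha => (z1 a ha).2.symm ▸ ha) hz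
        have e2 : z * (x r s * x (ρ r) t * w) * ω (z * (x r s * x (ρ r) t * w)) = 1 := by
          rw [← e1, map_mul, map_mul, map_inv, ω2]
          calc _ = v⁻¹ * (u * ω u) * v := by group
            _ = 1 := by rw [e]; group
        rw [map_mul, map_mul, map_mul, hω, hω, R.inv] at e2
        have := mul_mem (mul_mem (mul_mem (mul_mem (l1 (inv_mem hz')) (l2 (comm_Sk hs _ (zU hz')
          (mul_mem (m1 s) (m2 t))))) (l2 (conj_Sk hs _ (Sk_le _ (mul_mem (m1 s) (m2 t)))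
          (inv_mem hw)))) (l1 (inv_mem hz))) (l2 (inv_mem (map_gen_mem hω (fun a ha =>
            And.intro (R.pos.2 ha.1) ((R.ky_rho a).symm ▸ ha.2)) hw)))
        convert this using 1
        rw [← hs.add r r.2, mul_assoc (x r s), c (σ t), ← hs.add _ (ρ r).2, commutatorElement_def]
        calc _ = x r s * x (ρ r) t * (ω z)⁻¹ * w⁻¹ * (x r s * x (ρ r) t)⁻¹ * z⁻¹ *
            (z * (x r s * x (ρ r) t * w) * (ω z * (x (ρ r) (σ s) * x r (σ t) * ω w))) *
              (ω w)⁻¹ := by group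
          _ = _ := by rw [e2]; group
      have uq : ∀ {L : List (Rt D)} {y : Rt D → G}, L.Nodup → (∀ a ∈ L, Pos a) →
          (∀ a, y a ∈ XR D x a) → (L.map y).prod ∈ gen (XR D x) (Z ∪ Sk ρ (ky ρ r + 1)) → r ∈ L →
          r ∉ Z → y r = 1 := fun h1 h2 h3 h4 h5 h6 =>
        eq_one_of_prod_mem h.rgd (commUp_of_comb hs (fun a ha => ha.elim (fun h => (z1 a h).1)
          fun h => h.1) fun a ha b hb c i j hi hj e => by
            have pa : Pos a := ha.elim (fun h => (z1 a h).1) fun h => h.1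
            have pb : Pos b := hb.elim (fun h => (z1 b h).1) fun h => h.1
            have pc := pos_of_comb pa pb hi hj e
            rcases ha with ha | ha
            · rcases hb with hb | hb
              · rcases hZ with rfl | ⟨rfl, -⟩
                exacts [Or.inl ⟨pc, R.fix_comb ha.2 hb.2 e⟩, ha.elim]
              · exact Or.inr ⟨pc, hb.2.trans (ky_lt ρ pb pa hj hi (e.trans (add_comm _ _))).le⟩
            · exact Or.inr ⟨pc, ha.2.trans (ky_lt ρ pa pb hi hj e).le⟩)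
          (fun a ha => ha.elim (fun h => (z1 a h).1) fun h => h.1) h1 h2 h3 h4 h5
          fun h => h.elim h6 fun h => Nat.not_succ_le_self _ h.2
      by_cases hf : ρ r = r
      · rw [hf] at hM fin
        rcases hZ with rfl | ⟨rfl, a, ha⟩
        · have m := x_mem_gen (x := x) (S := {r | Pos r ∧ ρ r = r}) ⟨hr, hf⟩
          exact fin 0 (mul_mem (mul_mem (inv_mem (m _)) (mul_mem (m _) (m _))) (m _))
        · have e3 := h.eq_zero_of_x_eq_one r (uq (L := [r]) (y := fun a => x a (s + σ t + (t + σ s)))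
            (by simp) (by simpa) (fun a => x_mem_XR D x a _) (by simpa [hs.add r r.2] using hM)
            (by simp) (by simp))
          refine fin (a * (s + t)) ?_
          rw [x_inv hs, hs.add r r.2, hs.add r r.2, hs.add r r.2, map_mul, map_add,
            show a * (s + t) + (s + t) + σ a * (σ s + σ t) = 0 by
              linear_combination (σ a) * e3 + (s + t) * ha +
                (s + t - σ a * (s + t)) * (CharTwo.two_eq_zero : (2 : F) = 0), hs.x_zero]
          exact one_mem _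
      · classical
        have e3 := h.eq_zero_of_x_eq_one r (t := s + σ t) (by
          simpa using uq (L := [r, ρ r]) (y := fun a => x a (if a = r then s + σ t else t + σ s))
            (by simpa using Ne.symm hf) (by simpa [R.pos]) (fun a => x_mem_XR D x a _)
            (by simpa [hf] using hM) (by simp) fun h => hf (z1 r h).2)
        have e4 : σ s = t := h.x_injective (ρ r) (by
          rw [← hω, CharTwo.add_eq_zero.1 e3, ← ω2 (x (ρ r) t), hω (ρ r), R.inv])
        refine fin s ?_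
        rw [inv_mul_cancel_left, e4, x_sq hs]
        exact one_mem _
  obtain ⟨v, z, hz, w, hw, e1⟩ := key (Finset.univ.sup (ky ρ) + 1)
  rw [show Sk ρ (Finset.univ.sup (ky ρ) + 1) = ∅ from Set.eq_empty_of_forall_notMem fun r hr =>
    Nat.not_succ_le_self _ (hr.2.trans (Finset.le_sup (Finset.mem_univ r))), gen_empty,
    Subgroup.mem_bot] at hw
  exact ⟨v, by rwa [e1, hw, mul_one]⟩

end H37.Sg
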