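import Cfsg.Agent.H28.TESpec

/-! Tower NF (S1308), chapter TE part 1: job ZC. -/

set_option autoImplicit false

open Cfsg Subgroup H14 H98 H1.Gold H31.S2 H14.GC H14.FE H14.NF H28.TE
open scoped commutatorElement

namespace H37.TeZC

universe u

theorem cm_mul {G : Type u} [Group G] (t x : G) : ⁅t, x * x⁆ = ⁅t, x⁆ * (x * ⁅t, x⁆ * x⁻¹) := by
  simp only [commutatorElement_def]
  group

theorem sq_mul {G : Type u} [Group G] {a e : G} (h : Commute e a) (he : e * e = 1) :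
    e * a * (e * a) = a * a := by
  rw [← pow_two, h.mul_pow, pow_two, he, one_mul, pow_two]

theorem jobZC : H28.TE.JobZC.{u} := by
  intro kt kp sq g1 b2 on G _ _ Q Q₁ E Q₂ T L R ar
  have kt := kt G Q Q₁ E Q₂ T L
  have kp := kp G Q Q₁ E Q₂ T L R ar
  have sq := sq G Q Q₁ E Q₂ T L
  have g1 := g1 G Q Q₁ E Q₂ T L R ar
  have b2 := b2 G Q Q₁ E Q₂ T L R ar
  have on := on G Q Q₁ E Q₂ T L R ar
  have sqE : ∀ y ∈ PP E T R, y * y = 1 → y ∈ E := fun y hy h =>
    by_contra fun k => sq y (kp.tr y hy k) h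
  have cE : ∀ y ∈ PP E T R, ∀ e ∈ E, Commute e y := fun y hy e he => by
    by_cases k : y ∈ E
    · exact kt.abF e (mem_sup_left he) y (mem_sup_left k)
    · exact mem_centralizer_iff.1 (kp.tr y hy k).ce e he
  have iE : ∀ e ∈ E, e⁻¹ = e := fun e he => inv_eq_of_mul_eq_one_right (L.elE e he)
  have out : ∀ x ∈ R, x ∉ PP E T R → Fu E T (PP E T R) ∧ ∀ y ∈ PP E T R, ∃ t ∈ T, ∃ e ∈ E,
      ⁅t, x⁆ ∈ PP E T R ∧ y = e * ⁅t, x⁆ := fun x hx hn => by
    have h1 := (b2 x hx hn).1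
    obtain ⟨-, h2, h3, -⟩ := g1 x h1 (by
      by_contra k
      push Not at k
      exact hn ((kp.mem x hx).2 k))
    refine ⟨h3, fun y hy => ?_⟩
    obtain ⟨t, ht, h4⟩ := h2 y hy
    exact ⟨t, ht, _, E.inv_mem h4, h1 t ht, by group⟩
  have cR : ∀ x ∈ R, ∀ e ∈ E, x * e = e * x := fun x hx e he => by
    by_cases hn : x ∈ PP E T R
    · exact (cE x hn e he).eq.symm
    by_cases e1 : e = 1
    · rw [e1, mul_one, one_mul]
    obtain ⟨fu, h2⟩ := out x hx hn
    obtain ⟨y, hy, e2⟩ := on fu e he e1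
    obtain ⟨t, ht, d, hd, ha, e3⟩ := h2 y hy
    have hp := (b2 x hx hn).2 x hx hn
    have h0 := (kp.mem _ hp.1).1 hp t ht
    have e4 := cm_mul t x
    generalize ⁅t, x * x⁆ = c at h0 e4
    generalize ⁅t, x⁆ = a at ha e3 e4
    have e5 : e = a * a := by rw [← e2, e3, sq_mul (cE a ha d hd) (L.elE d hd)]
    have e6 : x * a * x⁻¹ = c * a⁻¹ := by
      rw [(cE a ha c h0).inv_right.eq, e4, inv_mul_cancel_left]
    have e7 : x * e * x⁻¹ = e := by
      calc x * e * x⁻¹ = x * a * x⁻¹ * (x * a * x⁻¹) := by rw [e5]; group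
        _ = a⁻¹ * a⁻¹ := by rw [e6, sq_mul (cE a ha c h0).inv_right (L.elE c h0)]
        _ = e := by rw [← mul_inv_rev, ← e5, iE e he]
    exact mul_inv_eq_iff_eq_mul.1 e7
  refine ⟨le_antisymm (fun e he => ⟨ar.le he, mem_centralizer_iff.2 fun x hx => cR x hx e he,
    L.elE e he⟩) fun z ⟨z1, z2, z3⟩ => ?_, fun x hx hn x2 y hy => ?_⟩
  · refine sqE z (by_contra fun hn => hn ((kp.mem z z1).2 fun t ht =>
      sqE _ ((b2 z z1 hn).1 t ht) ?_)) z3
    have c : Commute (t * z * t⁻¹) z :=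
      mem_centralizer_iff.1 z2 _ (conj_mem_of_mem_normalizer (ar.nr ht) z1)
    rw [commutatorElement_def, sq_mul c.inv_right (by
      rw [show t * z * t⁻¹ * (t * z * t⁻¹) = t * (z * z) * t⁻¹ by group, z3]; group),
      ← mul_inv_rev, z3, inv_one]
  · obtain ⟨t, ht, d, hd, ha, e3⟩ := (out x hx hn).2 y hy
    have e4 := cm_mul t x
    rw [x2, commutatorElement_one_right] at e4
    generalize ⁅t, x⁆ = a at ha e3 e4
    have e5 : x * a * x⁻¹ = a⁻¹ := (inv_eq_of_mul_eq_one_right e4.symm).symm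
    calc x * y * x⁻¹ = x * d * (a * x⁻¹) := by rw [e3]; group
      _ = d * (x * a * x⁻¹) := by rw [cR x hx d hd]; group
      _ = y⁻¹ := by rw [e5, e3, mul_inv_rev, iE d hd, (cE a ha d hd).inv_right.eq]

end H37.TeZC
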