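import Cfsg.Agent.H51.A12Spec

/-! Tower A12 (S3101), slot PSI: facts on the permutation model. -/

set_option autoImplicit false
set_option maxRecDepth 100000

namespace H37.X12

open Cfsg Subgroup H98 H20.X16.BV Function Equiv H51.X12
open H20.X16 (BV pw bit map_pw)
open H20.AF (P12 t0 κ0)
open H20.AR (D8 δ InU mem_BB zD uD)

theorem sign_two {σ : Perm P12} (a b c d : ℕ)
    (h : pt a ≠ pt b ∧ pt c ≠ pt d ∧ ∀ p, σ p = swap (pt a) (pt b) (swap (pt c) (pt d) p)) :
    σ ∈ alternatingGroup P12 := by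
  rw [show σ = swap (pt a) (pt b) * swap (pt c) (pt d) from Equiv.ext h.2.2]
  simp [Perm.sign_swap h.1, Perm.sign_swap h.2.1]

theorem pw_mem {H : Type*} [Group H] {K : Subgroup H} {x : H} (h : x ∈ K) (c : Bool) : pw c x ∈ K := by
  cases c
  exacts [one_mem K, h]

theorem psi_even (x : M) : psi x ∈ alternatingGroup P12 := by
  refine mul_mem (a := psA x.a) (b := psR x.r) ?_ ?_
  · rw [map6 psA]
    refine mul_mem (mul_mem (mul_mem (mul_mem (mul_mem ?_ ?_) ?_) ?_) ?_) ?_ <;> refine pw_mem ?_ _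
    exacts [sign_two 0 2 1 3 (by decide +kernel), sign_two 0 3 1 2 (by decide +kernel),
      sign_two 4 6 5 7 (by decide +kernel), sign_two 4 7 5 6 (by decide +kernel),
      sign_two 8 10 9 11 (by decide +kernel), sign_two 8 11 9 10 (by decide +kernel)]
  · rw [(by decide +kernel : ∀ r : R, r = pw (bit r.1 0) (rr 1) * pw (bit r.1 1) (rr 2) *
      pw (bit r.1 2) (rr 4)) x.r, map_mul, map_mul, map_pw, map_pw, map_pw]
    refine mul_mem (mul_mem (pw_mem (sign_two 0 1 4 5 (by decide +kernel)) _)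
      (pw_mem (sign_two 0 1 8 9 (by decide +kernel)) _)) (pw_mem ?_ _)
    rw [show psR (rr 4) = swap (pt 0) (pt 4) * swap (pt 1) (pt 5) *
      (swap (pt 2) (pt 6) * swap (pt 3) (pt 7)) from Equiv.ext (by decide +kernel)]
    exact mul_mem (sign_two 0 4 1 5 (by decide +kernel)) (sign_two 2 6 3 7 (by decide +kernel))

theorem psi_inj : Injective psi := (injective_iff_map_eq_one psi).2 fun x h =>
  (by decide +kernel : ∀ x : M, (∀ p, fA x.a (fR x.r p) = p) → x = 1) x fun p => by
    rw [← psi_apply, h]; rfl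

/-- the parity of `δ y` -/
def od : D8 → Bool
  | .r i => i.val % 2 == 1
  | .sr i => i.val % 2 == 0

/-- the part of `δ y` in the Klein four-group -/
def va : D8 → ℕ
  | .r i => [0, 2, 3, 1].getD i.val 0
  | .sr i => [0, 1, 3, 2].getD i.val 0

/-- the element of `M` for three elements of `D₈` -/
def mk3 (a b c : D8) : M :=
  ⟨el (va a + 4 * va b + 16 * va c), rr ((od b).toNat + 2 * (od c).toNat)⟩

theorem psi_mk3 (x : Fin 3 → D8) (h : od (x 0) = xor (od (x 1)) (od (x 2))) :
    psi (mk3 (x 0) (x 1) (x 2)) = κ0 _ x := by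
  refine Equiv.ext fun ⟨j, u⟩ => ?_
  rw [H20.AF.κ0_apply]
  have := (by decide +kernel : ∀ a b c : D8, od a = xor (od b) (od c) → ∀ u : Fin 4,
    psi (mk3 a b c) (0, u) = (0, δ a u) ∧ psi (mk3 a b c) (1, u) = (1, δ b u) ∧
      psi (mk3 a b c) (2, u) = (2, δ c u)) _ _ _ h u
  fin_cases j
  exacts [this.1, this.2.1, this.2.2]

/-- the element of the four-group for two bits -/
def dv (s t : Bool) : D8 := pw s (.sr 1) * pw t (.sr 3)

theorem jobPSI : JobPSI := by
  have t : psi tM = t0 := Equiv.ext (by decide +kernel)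
  refine ⟨psi_inj, ⟨?_, fun x hx => ⟨_, psi_mk3 x ?_⟩⟩, by decide +kernel, t,
    le_antisymm ?_ fun g hg => ?_, fun x => ⟨psi_even x, mem_centralizer_singleton_iff.2 ?_⟩⟩
  · have e : Nat.card psi.range = 2 ^ 9 := by
      rw [← Nat.card_congr (MonoidHom.ofInjective psi_inj).toEquiv, M.card]; rfl
    have le : psi.range ≤ alternatingGroup P12 := by rintro _ ⟨x, rfl⟩; exact psi_even x
    refine isSyl_of_card_eq le ?_
    have h := two_mul_nat_card_alternatingGroup (α := P12)
    rw [Nat.card_perm, Nat.card_eq_fintype_card (α := P12), show Fintype.card P12 = 12 from rfl] at h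
    rw [e, show Nat.card (alternatingGroup P12) = 2 ^ 9 * 467775 by
      norm_num [Nat.factorial] at h ⊢; omega, Nat.factorization_mul (by norm_num) (by norm_num),
      Nat.Prime.factorization_pow Nat.prime_two]
    simp [Nat.factorization_eq_zero_of_not_dvd]
  · have s : ∀ y, Perm.sign (δ y) = if od y then -1 else 1 := by decide +kernel
    rw [show κ0 _ x = prodCongrRight fun j => δ (x j) from rfl, Perm.sign_prodCongrRight,
      Fin.prod_univ_three, s, s, s] at hx
    revert hx
    cases od (x 0) <;> cases od (x 1) <;> cases od (x 2) <;> decide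
  · rintro _ ⟨x, hx, rfl⟩
    obtain ⟨a, rfl⟩ := range_iA.ge hx
    refine mem_BB.2 ⟨fun j => dv (tb a (2 * j.1)) (tb a (2 * j.1 + 1)), fun j => ?_, ?_⟩
    · exact (by unfold InU; decide : ∀ s t, InU true (dv s t)) _ _
    · exact Equiv.ext ((by decide +kernel : ∀ (a : BV 6) (p : P12),
        (p.1, δ (dv (tb a (2 * p.1.1)) (tb a (2 * p.1.1 + 1))) p.2) = psi (iA a) p) a)
  · obtain ⟨x, hx, rfl⟩ := mem_BB.1 hg
    have o : ∀ j, od (x j) = false := fun j =>
      (by unfold InU; decide : ∀ y, InU true y → od y = false) _ (hx j)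
    refine ⟨_, ?_, psi_mk3 x (by simp [o])⟩
    show Nat.beq (rr _).1 0 = true
    rw [o, o]; rfl
  · rw [← t, ← map_mul, ← map_mul, cen_t]

end H37.X12
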