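import Cfsg.Agent.H28.C3Aut

/-! A7-Hx, part 1: involutory automorphisms of `SL₂(q)` in characteristic five. -/

set_option autoImplicit false
set_option linter.unusedSectionVars false

namespace H37.A7

open H61 H57 H35.LCF H12.LC Matrix Finset
open scoped MatrixGroups

variable {F : Type*} [Field F]

theorem param (h2 : (2 : F) ≠ 0) {p q r : F} (hl : p ^ 2 + q * r ≠ 0)
    {x : Matrix (Fin 2) (Fin 2) F} (h : !![p, q; r, -p] * x = x * !![p, q; r, -p]) :
    ∃ m k : F, x = m • 1 + k • !![p, q; r, -p] := by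
  obtain ⟨a, b, c, d, rfl⟩ : ∃ a b c d, x = !![a, b; c, d] := ⟨_, _, _, _, Matrix.eta_fin_two x⟩
  simp only [Matrix.mul_fin_two, EmbeddingLike.apply_eq_iff_eq, vecCons_inj, and_true] at h
  obtain ⟨⟨e1, e2⟩, e3, -⟩ := h
  have h3 := mul_ne_zero h2 hl
  obtain ⟨k, hk⟩ : ∃ k, k * (2 * (p ^ 2 + q * r)) = p * (a - d) + r * b + q * c :=
    ⟨_, div_mul_cancel₀ _ h3⟩
  obtain ⟨m, hm⟩ : ∃ m, m * 2 = a + d := ⟨_, div_mul_cancel₀ _ h2⟩
  have f1 : a - d = 2 * p * k :=
    mul_left_cancel₀ h3 (by linear_combination (-r) * e2 + q * e3 - 2 * p * hk)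
  have f2 : b = k * q := mul_left_cancel₀ h3 (by linear_combination p * e2 - q * e1 - q * hk)
  have f3 : c = k * r := mul_left_cancel₀ h3 (by linear_combination (-p) * e3 + r * e1 - r * hk)
  have f4 : a = m + k * p := mul_left_cancel₀ h2 (by linear_combination f1 - hm)
  have f5 : d = m + k * -p := mul_left_cancel₀ h2 (by linear_combination -f1 - hm)
  refine ⟨m, k, ?_⟩
  rw [f2, f3, f4, f5]
  ext i j
  fin_cases i <;> fin_cases j <;> simp

/-- the two standard unipotent elements -/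
theorem unip (K : Type*) [Field K] [CharP K 5] : ∃ u v : SL(2, K), u.1 = !![1, 1; 0, 1] ∧
    v.1 = !![1, 0; 1, 1] ∧ u ^ 5 = 1 ∧ v ^ 5 = 1 ∧ u * v⁻¹ * u * (u * v⁻¹ * u) = -1 := by
  have h5 : (5 : K) = 0 := CharP.cast_eq_zero K 5
  refine ⟨sl2 1 1 0 1 (by simp), sl2 1 0 1 1 (by simp), rfl, rfl, Subtype.ext ?_, Subtype.ext ?_,
    sl_mul_self_of_tr_zero ?_⟩
  · rw [sl_pow_five]
    ext i j
    fin_cases i <;> fin_cases j <;> simp <;> first | linear_combination h5 | ring
  · rw [sl_pow_five]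
    ext i j
    fin_cases i <;> fin_cases j <;> simp <;> first | linear_combination h5 | ring
  · simp only [tr, sl_mul_apply, sl_inv_00, sl_inv_01, sl_inv_10, sl_inv_11]
    simp [sl2]

variable [Fintype F] [CharP F 5]

theorem odd_card : Odd (Fintype.card F) := by
  obtain ⟨n, -, h⟩ := FiniteField.card F 5
  rw [h]
  exact Odd.pow (by decide)

theorem dich {α : MulAut SL(2, F)} (hα : α * α = 1) :
    (∃ u v, α u = u ∧ α v = v ∧ u ^ 5 = 1 ∧ v ^ 5 = 1 ∧ u * v⁻¹ * u * (u * v⁻¹ * u) = -1) ∨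
    ((∀ t t', α t = t → α t' = t' → t * t' = t' * t) ∧
      (∀ l t, α l = -l → α t = t → l * t * l⁻¹ = t⁻¹) ∧
      ∃ S : Finset SL(2, F), Fintype.card F ≤ S.card + 2 ∧ ∀ t ∈ S, α t = t) := by
  classical
  have h := odd_card (F := F)
  have h2 := two_ne_zero' h
  obtain ⟨g, σ, hg⟩ := psl_aut_two (qc F α)
  rcases eq_or_ne σ 1 with rfl | hσ
  swap
  · obtain ⟨π, h1, h3⟩ := exists_aut_psl_two_proj (F := F)
    have hπ : π (qc F α) = σ := by
      rw [hg, map_mul, h3, show π _ = 1 from h1.ge ⟨g, rfl⟩, one_mul]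
    have hσ2 : σ * σ = 1 := by rw [← hπ, ← map_mul, ← map_mul, hα, map_one, map_one]
    obtain ⟨ι, hι, k⟩ := H28.C3.fixed_sl h hg (by
      rw [orderOf_eq_prime (p := 2) (by rw [pow_two, hσ2]) hσ, pow_two, hα])
    obtain ⟨u, v, -, -, a, b, c⟩ := unip (fixedSub σ)
    refine .inl ⟨ι u, ι v, (k _).1 ⟨u, rfl⟩, (k _).1 ⟨v, rfl⟩, by rw [← map_pow, a, map_one],
      by rw [← map_pow, b, map_one], ?_⟩
    rw [← map_inv, ← map_mul, ← map_mul, ← map_mul, c]
    refine (sl_eq_of_mul_self_eq_one h2 (by rw [← map_mul, sl_neg_one_mul_self, map_one])).resolve_left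
      fun e => sl_neg_one_ne_one (fun e => h2 (congrArg Subtype.val e)) ((map_eq_one_iff _ hι).1 e)
  have e : α = slDiag (Fin 2) F g := qc_inj h (by rw [hg, map_one, mul_one]; rfl)
  have fx : ∀ (g : GL (Fin 2) F) x y, slDiag (Fin 2) F g x = y ↔ g.1 * x.1 = y.1 * g.1 :=
    fun g x y => Subtype.ext_iff.trans (Units.mul_inv_eq_iff_eq_mul (a := g.1 * x.1) (c := y.1) g)
  obtain ⟨u, v, hu, hv, a, b, c⟩ := unip F
  have sq : ∀ x, slDiag (Fin 2) F (g * g) x = x := fun x => by rw [map_mul, ← e, hα]; rfl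
  have e1 := (fx _ _ _).1 (sq u)
  have e2 := (fx _ _ _).1 (sq v)
  have hd : g.1.det ≠ 0 := (g.isUnit.map detMonoidHom).ne_zero
  subst e
  simp only [fx]
  rw [hu, Units.val_mul] at e1
  rw [hv, Units.val_mul] at e2
  generalize g.1 = G at e1 e2 hd ⊢
  obtain ⟨p, q, r, s, rfl⟩ : ∃ p q r s, G = !![p, q; r, s] := ⟨_, _, _, _, Matrix.eta_fin_two G⟩
  have a1 := congrFun (congrFun e1 0) 0
  have a2 := congrFun (congrFun e1 0) 1
  have a3 := congrFun (congrFun e2 0) 0
  simp [Matrix.mul_apply, Fin.sum_univ_two] at a1 a2 a3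
  by_cases hs : p + s = 0
  swap
  · have hr : r = 0 := (mul_eq_zero.1 (show r * (p + s) = 0 by linear_combination a1)).resolve_right hs
    have hq : q = 0 := (mul_eq_zero.1 (show q * (p + s) = 0 by linear_combination a3)).resolve_right hs
    have hp : p - s = 0 :=
      (mul_eq_zero.1 (show (p - s) * (p + s) = 0 by linear_combination a2)).resolve_right hs
    refine .inl ⟨u, v, ?_, ?_, a, b, c⟩
    · rw [hu, hr, hq, sub_eq_zero.1 hp]; simp
    · rw [hv, hr, hq, sub_eq_zero.1 hp]; simp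
  obtain rfl : s = -p := by linear_combination hs
  have hl : p ^ 2 + q * r ≠ 0 := fun e => hd (by rw [det_fin_two_of]; linear_combination -e)
  refine .inr ⟨fun t t' k k' => Subtype.ext ?_, fun l t k k' => ?_, ?_⟩
  · obtain ⟨m, n, k⟩ := param h2 hl k
    change t.1 * t'.1 = t'.1 * t.1
    rw [k]
    exact (((Commute.one_left _).smul_left m).add_left ((show Commute _ t'.1 from k').smul_left n)).eq
  · obtain ⟨m, n, k'⟩ := param h2 hl k'
    refine mul_inv_eq_iff_eq_mul.2 (Subtype.ext ?_)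
    change l.1 * t.1 = (t⁻¹).1 * l.1
    have t1 : tr t = m + m := by
      change t.1 0 0 + t.1 1 1 = _
      rw [k']; simp; ring
    rw [eq_sub_of_add_eq' (sl_add_inv t), t1, k']
    simp only [mul_add, sub_mul, add_mul, mul_smul_comm, smul_mul_assoc, mul_one, one_mul, k,
      SpecialLinearGroup.coe_neg, neg_mul, smul_neg, add_smul]
    abel
  · let T := univ.filter fun s : F => ¬ (p ^ 2 + q * r) * s ^ 2 = 1
    have hT : ∀ s : T, 1 - (p ^ 2 + q * r) * s.1 ^ 2 ≠ 0 := fun s e =>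
      (mem_filter.1 s.2).2 (sub_eq_zero.1 e).symm
    let f : T → SL(2, F) := fun s => ⟨((1 + (p ^ 2 + q * r) * s.1 ^ 2) /
      (1 - (p ^ 2 + q * r) * s.1 ^ 2)) • 1 + (2 * s.1 / (1 - (p ^ 2 + q * r) * s.1 ^ 2)) •
        !![p, q; r, -p], by
      have := hT s
      simp [det_fin_two]
      field_simp
      ring⟩
    have hf : Function.Injective f := fun s s' e => by
      have b1 := congrFun (congrFun (congrArg Subtype.val e) 0) 0
      have b2 := congrFun (congrFun (congrArg Subtype.val e) 0) 1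
      have b3 := congrFun (congrFun (congrArg Subtype.val e) 1) 0
      have b4 := congrFun (congrFun (congrArg Subtype.val e) 1) 1
      have := hT s
      have := hT s'
      simp only [f, Matrix.add_apply, Matrix.smul_apply, smul_eq_mul, of_apply, cons_val', cons_val_zero,
        cons_val_one, cons_val_fin_one, one_apply_eq, one_apply_ne (zero_ne_one' (Fin 2)),
        one_apply_ne (one_ne_zero' (Fin 2))] at b1 b2 b3 b4
      set d := 1 - (p ^ 2 + q * r) * s.1 ^ 2 with hd
      set d' := 1 - (p ^ 2 + q * r) * s'.1 ^ 2 with hd'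
      have c1 : 2 * s.1 / d = 2 * s'.1 / d' := mul_left_cancel₀ (mul_ne_zero h2 hl) (by
        linear_combination p * b1 - p * b4 + r * b2 + q * b3)
      have c2 : (2 - d) / d = (2 - d') / d' := mul_left_cancel₀ h2 (by
        rw [show 2 - d = 1 + (p ^ 2 + q * r) * s.1 ^ 2 by rw [hd]; ring,
          show 2 - d' = 1 + (p ^ 2 + q * r) * s'.1 ^ 2 by rw [hd']; ring]
        linear_combination b1 + b4)
      have c3 : d = d' := by
        field_simp at c2
        exact mul_left_cancel₀ h2 (by linear_combination -c2)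
      rw [c3] at c1
      field_simp at c1
      exact Subtype.ext c1
    refine ⟨univ.image f, ?_, fun t ht => ?_⟩
    · rw [card_image_of_injective _ hf, card_univ, Fintype.card_coe, ← card_univ,
        ← card_filter_add_card_filter_not (s := univ) fun s : F => (p ^ 2 + q * r) * s ^ 2 = 1,
        add_comm]
      refine Nat.add_le_add_left ?_ _
      rcases (univ.filter fun s : F => (p ^ 2 + q * r) * s ^ 2 = 1).eq_empty_or_nonempty with
        e | ⟨s, hs⟩
      · simp [e]
      refine (card_le_card (t := {s, -s}) fun t ht => ?_).trans card_le_two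
      rw [mem_insert, mem_singleton, ← sq_eq_sq_iff_eq_or_eq_neg]
      exact mul_left_cancel₀ hl ((mem_filter.1 ht).2.trans (mem_filter.1 hs).2.symm)
    · obtain ⟨s, -, rfl⟩ := mem_image.1 ht
      exact (((Commute.one_right _).smul_right _).add_right ((Commute.refl _).smul_right _)).eq

section S7

open Equiv Equiv.Perm

abbrev S7 := Perm (Fin 7)

def zb : S7 := c[0, 1] * c[2, 3]
def wb : S7 := c[4, 5, 6]
def cb : S7 := c[0, 2, 1, 3]
def d1 : S7 := c[0, 2] * c[1, 3]
def d2 : S7 := c[0, 1] * c[4, 5]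

/-- `D₈ × C₃` -/
def L24 : List S7 := [1, cb, zb, cb⁻¹, c[0, 1], c[2, 3], d1, c[0, 3] * c[1, 2]].flatMap
  fun a => [a, a * wb, a * wb⁻¹]

set_option maxRecDepth 100000 in
theorem big : ∀ π : S7, π * zb = zb * π → (π ^ 5 = 1 → π = 1) ∧
    (π * (wb * π * wb⁻¹) = wb * π * wb⁻¹ * π → π ∈ L24) := by
  decide +kernel

end S7

end H37.A7
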