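import Cfsg.Agent.H37.A7H1
import Cfsg.Agent.H49.A7Kit
import Cfsg.Agent.S2119

/-! A7-Hx, part 2: the job `JobHx`. -/

set_option autoImplicit false
set_option linter.unusedSectionVars false
set_option maxRecDepth 100000

namespace H37.A7

open Subgroup Cfsg H49.A7 H61 H57 H98 Equiv Equiv.Perm
open scoped MatrixGroups commutatorElement

variable {Y : Type} [Group Y] [Finite Y] {σ : MulAut Y} {A K L L' : Subgroup Y} {z : Y}

theorem exists_psi (h : Cf σ A) : ∃ ψ : normalizer (A : Set Y) →* S7,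
    (∀ π, sign π = 1 → ∃ a, ∃ ha : a ∈ A, ψ ⟨a, le_normalizer ha⟩ = π) ∧
      ∀ y, ψ y = 1 → (y : Y) ∈ centralizer (A : Set Y) := by
  obtain ⟨e⟩ := h.ty
  let B := MulEquiv.ofBijective _ (Cfsg.Agent.S2119.result 7 (by decide) (by decide))
  let φ := (quotCenterAut A).comp A.normalizerMonoidHom
  refine ⟨B.symm.toMonoidHom.comp ((MulAut.congr e).toMonoidHom.comp φ), fun π hπ => ?_,
    fun y hy => ?_⟩
  · obtain ⟨q, hq⟩ := e.surjective ⟨π, mem_alternatingGroup.2 hπ⟩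
    obtain ⟨a, rfl⟩ := QuotientGroup.mk_surjective q
    refine ⟨a, a.2, B.symm_apply_eq.2 (MulEquiv.ext fun x => ?_)⟩
    obtain ⟨q, rfl⟩ := e.surjective x
    obtain ⟨b, rfl⟩ := QuotientGroup.mk_surjective q
    change e (φ _ (e.symm (e _))) = _
    rw [e.symm_apply_apply]
    change e ((a * b * a⁻¹ : A) : A ⧸ center A) = _
    rw [QuotientGroup.mk_mul, QuotientGroup.mk_mul, QuotientGroup.mk_inv, map_mul, map_mul, map_inv, hq]
    rfl
  · have h1 : φ y = 1 := (map_eq_one_iff _ (MulAut.congr e).injective).1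
      ((map_eq_one_iff _ B.symm.injective).1 hy)
    refine zpowers_le.1 (commutator_eq_bot_iff_le_centralizer.1 (H14.commutator_eq_bot_of_perfect
      (H14.quasi_sub_perfect h.qs) (commutator_eq_bot_iff_le_centralizer.2
        (commutator_le.2 fun c hc a ha => ?_))))
    have h2 : φ ⟨c, zpowers_le.2 y.2 hc⟩ = 1 := by
      obtain ⟨n, rfl⟩ := mem_zpowers_iff.1 hc
      exact (map_zpow φ y n).trans (by rw [h1, one_zpow])
    have h3 := QuotientGroup.eq.1 (DFunLike.congr_fun h2 ((⟨a⁻¹, inv_mem ha⟩ : A) : A ⧸ center A))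
    refine mem_centralizer_iff.2 fun g hg => ?_
    have h4 := congrArg Subtype.val (mem_center_iff.1 h3 ⟨g, hg⟩)
    change g * ((c * a⁻¹ * c⁻¹)⁻¹ * a⁻¹) = (c * a⁻¹ * c⁻¹)⁻¹ * a⁻¹ * g at h4
    rwa [show (c * a⁻¹ * c⁻¹)⁻¹ * a⁻¹ = ⁅c, a⁆ by rw [commutatorElement_def]; group] at h4

theorem mul_rel {H N : Subgroup Y} (h : H.relIndex N = 2) {s t : Y} (hs : s ∈ N) (ht : t ∈ N) :
    s * t ∈ H ↔ (s ∈ H ↔ t ∈ H) :=
  mul_mem_iff_of_index_two (H := H.subgroupOf N) h (a := ⟨s, hs⟩) (b := ⟨t, ht⟩)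

theorem perf_le {H N : Subgroup Y} (h : H.relIndex N = 2) (q : IsQuasisimple K) (hK : K ≤ N) :
    K ≤ H := by
  rw [← H14.quasi_sub_perfect q]
  refine commutator_le.2 fun a ha b hb => ?_
  have ha := hK ha
  have hb := hK hb
  rw [commutatorElement_def, mul_assoc, mul_rel h (mul_mem ha hb) (mul_mem (inv_mem ha) (inv_mem hb)),
    mul_rel h ha hb, mul_rel h (inv_mem ha) (inv_mem hb), inv_mem_iff, inv_mem_iff]

theorem qq (q : IsQuasisimple K) (q' : IsQuasisimple L) (n : K ≤ normalizer (L : Set Y))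
    (n' : L ≤ normalizer (K : Set Y)) : K = L ∨ K ≤ centralizer (L : Set Y) := by
  rcases H14.quasi_sub_normalized q' n' with m | m
  · rcases H14.quasi_sub_normalized q n with m' | m'
    · exact .inl (le_antisymm m' m)
    · exact (H14.quasi_sub_commutator_ne_bot q'
        (H14.commutator_eq_bot_mono m' (le_inf le_rfl m) m)).elim
  · exact .inr (commutator_eq_bot_iff_le_centralizer.1 (H14.commutator_eq_bot_of_perfect
      (H14.quasi_sub_perfect q') (H14.commutator_eq_bot_mono m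
        (le_inf (commutator_le_left' n') (commutator_le_right' n)) le_rfl)))

theorem not_cen (q : IsQuasisimple K) (h : K ≤ L ⊔ L') (a : K ≤ centralizer (L : Set Y))
    (b : K ≤ centralizer (L' : Set Y)) : False :=
  H14.quasi_sub_commutator_ne_bot q (commutator_eq_bot_iff_le_centralizer.2
    ((le_inf a b).trans ((centralizer_sup L L').ge.trans (centralizer_anti h))))

/-- What is used of a factor `SL₂(q)` with involution `z`. -/
structure Sd (m : ℕ) (z : Y) (L : Subgroup Y) : Prop where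
  qs : IsQuasisimple L
  mem : z ∈ L
  inv : ∀ l ∈ L, l * l = 1 → l = 1 ∨ l = z
  cen : ∀ l ∈ L, l ∈ centralizer (L : Set Y) → l = 1 ∨ l = z
  uv : ∃ u ∈ L, ∃ v ∈ L, u ^ 5 = 1 ∧ v ^ 5 = 1 ∧ u * v⁻¹ * u * (u * v⁻¹ * u) = z
  di : ∀ σ : MulAut Y, σ * σ = 1 → L.map σ.toMonoidHom = L →
    (∃ u ∈ L, ∃ v ∈ L, σ u = u ∧ σ v = v ∧ u ^ 5 = 1 ∧ v ^ 5 = 1 ∧
      u * v⁻¹ * u * (u * v⁻¹ * u) = z) ∨
    ((∀ t ∈ L, ∀ t' ∈ L, σ t = t → σ t' = t' → t * t' = t' * t) ∧
      (∀ l ∈ L, ∀ t ∈ L, σ l = l * z → σ t = t → l * t * l⁻¹ = t⁻¹) ∧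
      ∃ S : Finset Y, m ≤ S.card + 2 ∧ ∀ t ∈ S, t ∈ L ∧ σ t = t)

theorem sd_of {F : Type} [Field F] [Fintype F] [CharP F 5] {m : ℕ} (hm : m ≤ Fintype.card F)
    (h5 : 5 ≤ m) (e : L ≃* SL(2, F)) (hz : z ∈ L) (oz : orderOf z = 2) : Sd m z L := by
  classical
  have h2 := H12.LC.two_ne_zero' (odd_card (F := F))
  have ez : e ⟨z, hz⟩ = -1 := (sl_eq_of_mul_self_eq_one h2 (by
    rw [← map_mul, ← map_one e]
    exact congrArg e (Subtype.ext (show z * z = 1 by rw [← pow_two, ← oz, pow_orderOf_eq_one])))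
      ).resolve_left fun k => by
        have : z = 1 := congrArg Subtype.val ((map_eq_one_iff _ e.injective).1 k)
        simp [this] at oz
  have pm : ∀ l : L, e l = 1 ∨ e l = -1 → (l : Y) = 1 ∨ (l : Y) = z := fun l k => k.imp
    (fun k => congrArg Subtype.val ((map_eq_one_iff _ e.injective).1 k))
    fun k => congrArg Subtype.val (e.injective (k.trans ez.symm))
  let ι : SL(2, F) →* Y := L.subtype.comp e.symm.toMonoidHom
  have ιm : ∀ x, ι x ∈ L := fun x => (e.symm x).2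
  have ιe : ∀ l (hl : l ∈ L), ι (e ⟨l, hl⟩) = l := fun l hl =>
    congrArg Subtype.val (e.symm_apply_apply _)
  have ιi : Function.Injective ι := L.subtype_injective.comp e.symm.injective
  have w : ∀ u v : SL(2, F), u ^ 5 = 1 ∧ v ^ 5 = 1 ∧ u * v⁻¹ * u * (u * v⁻¹ * u) = -1 →
      ι u ^ 5 = 1 ∧ ι v ^ 5 = 1 ∧ ι u * (ι v)⁻¹ * ι u * (ι u * (ι v)⁻¹ * ι u) = z :=
    fun u v ⟨a, b, c⟩ => ⟨by rw [← map_pow, a, map_one], by rw [← map_pow, b, map_one], by
      rw [← map_inv, ← map_mul, ← map_mul, ← map_mul, c, ← ez, ιe]⟩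
  have h4 : 4 ≤ Nat.card F := by rw [Nat.card_eq_fintype_card]; omega
  obtain ⟨a, h5, h6⟩ := H54.exists_sq_ne_one_of_four_le h4
  refine ⟨H14.quasi_of_mulEquiv ⟨⟨H57.sl_commutator_eq_top_of_sq_ne_one h5 h6⟩,
    H61.isSimpleGroup_psl h4⟩ e.symm, hz, fun l hl k => pm ⟨l, hl⟩ (sl_eq_of_mul_self_eq_one h2 (by
      rw [← map_mul, ← map_one e]; exact congrArg e (Subtype.ext k))), fun l hl k => pm ⟨l, hl⟩
      (sl_mem_center_iff.1 ((MulEquivClass.apply_mem_center_iff e).2 (mem_center_iff.2 fun g =>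
        Subtype.ext (k g g.2)))), ?_, fun σ h1 h3 => ?_⟩
  · obtain ⟨u, v, -, -, k⟩ := unip F
    exact ⟨_, ιm u, _, ιm v, w u v k⟩
  let β : MulAut L := (σ.subgroupMap L).trans (MulEquiv.subgroupCongr h3)
  have hα : ∀ x, ι (MulAut.congr e β x) = σ (ι x) := fun x => ιe _ (β (e.symm x)).2
  have fx : ∀ x y, MulAut.congr e β x = y ↔ σ (ι x) = ι y := fun x y => by rw [← hα, ιi.eq_iff]
  rcases dich (α := MulAut.congr e β) (MulEquiv.ext fun x => ιi (by
    rw [MulAut.mul_apply, hα, hα, ← MulAut.mul_apply, h1]; rfl)) with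
      ⟨u, v, a, b, k⟩ | ⟨a, b, S, c, d⟩
  · exact .inl ⟨_, ιm u, _, ιm v, (fx _ _).1 a, (fx _ _).1 b, w u v k⟩
  refine .inr ⟨fun t ht t' ht' k k' => ?_, fun l hl t ht k k' => ?_, S.image ι, by
    rw [Finset.card_image_of_injective _ ιi]; omega, fun t ht => ?_⟩
  · have := congrArg ι (a (e ⟨t, ht⟩) (e ⟨t', ht'⟩) ((fx _ _).2 (by rw [ιe, k]))
      ((fx _ _).2 (by rw [ιe, k'])))
    rwa [map_mul, map_mul, ιe, ιe] at this
  · have := congrArg ι (b (e ⟨l, hl⟩) (e ⟨t, ht⟩) ((fx _ _).2 (by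
      rw [← mul_neg_one, ← ez, map_mul, ιe, ιe, k])) ((fx _ _).2 (by rw [ιe, k'])))
    rwa [map_mul, map_mul, map_inv, map_inv, ιe, ιe] at this
  · obtain ⟨x, hx, rfl⟩ := Finset.mem_image.1 ht
    exact ⟨ιm x, (fx _ _).1 (d x hx)⟩

/-- `Hx` without coordinates -/
structure Hy (m : ℕ) (z : Y) (L L' : Subgroup Y) : Prop where
  a : Sd m z L
  b : Sd m z L'
  comm : ∀ x ∈ L, ∀ y ∈ L', x * y = y * x
  inf : ∀ x ∈ L, x ∈ L' → x = 1 ∨ x = z
  idx : (L ⊔ L').relIndex (centralizer {z}) = 2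
  na : centralizer {z} ≤ normalizer (L : Set Y)
  nb : centralizer {z} ≤ normalizer (L' : Set Y)

theorem Hx.hy {m : ℕ} (h : Hx m z) (h5 : 5 ≤ m) (oz : orderOf z = 2) : ∃ L L', Hy m z L L' := by
  obtain ⟨F₁, F₂, _, _, _, _, L, L', _, _, a, b, ⟨e⟩, ⟨e'⟩, c, d, i, n, n'⟩ := h
  have m := d.ge (mem_zpowers z)
  have s := sd_of a h5 e m.1 oz
  refine ⟨L, L', s, sd_of b h5 e' m.2 oz, c, fun x h1 h2 => s.inv x h1 ?_, i, n, n'⟩
  obtain ⟨k, rfl⟩ := mem_zpowers_iff.1 (d.le ⟨h1, h2⟩)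
  rw [← (Commute.refl z).mul_zpow, ← pow_two, ← oz, pow_orderOf_eq_one, one_zpow]

namespace Hy

variable {m : ℕ} (h : Hy m z L L')
include h

theorem symm : Hy m z L' L := ⟨h.b, h.a, fun x a y b => (h.comm y b x a).symm,
  fun x a b => h.inf x b a, sup_comm L L' ▸ h.idx, h.nb, h.na⟩

theorem le : L ≤ centralizer {z} := fun x hx =>
  mem_centralizer_singleton_iff.2 (h.comm x hx z h.b.mem)

theorem dec {g : Y} (hg : g ∈ L ⊔ L') : ∃ a ∈ L, ∃ b ∈ L', g = a * b :=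
  (mem_sup_left_norm (h.le.trans h.nb)).1 hg

end Hy

theorem inv_nc (h : Cf σ A) (hz : z ∈ A) (oz : orderOf z = 2) : z ∉ centralizer (A : Set Y) :=
  fun k => by
    have := orderOf_dvd_natCard (⟨⟨z, hz⟩, mem_center_iff.2 fun g => Subtype.ext (k g g.2)⟩ : center A)
    rw [← orderOf_coe, ← orderOf_coe, oz] at this
    exact h.odd.not_two_dvd_nat this

theorem part1 (h : Cf σ A) (H : ∀ z : Y, orderOf z = 2 → Hx 5 z) (y : Y) : σ ≠ MulAut.conj y := by
  rintro rfl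
  have hc : ∀ c ∈ center Y, orderOf c ≠ 2 := fun c hc oc => by
    obtain ⟨z, hz, -, -, oz, -⟩ := h.kit.x6
    have c2 : c * c = 1 := by rw [← pow_two, ← oc, pow_orderOf_eq_one]
    have z2 : z * z = 1 := by rw [← pow_two, ← oz, pow_orderOf_eq_one]
    have cm : ∀ g, Commute g c := mem_center_iff.1 hc
    have ne : c ≠ z := fun e => inv_nc h hz oz fun g _ => e ▸ cm g
    obtain ⟨L, L', k⟩ := Hx.hy (H z oz) le_rfl oz
    have oz' : orderOf (z * c) = 2 := orderOf_eq_prime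
      (by rw [(cm z).mul_pow, pow_two, pow_two, c2, z2, mul_one]) fun e =>
        ne ((eq_inv_of_mul_eq_one_right e).trans (inv_eq_of_mul_eq_one_right z2))
    obtain ⟨M, M', k'⟩ := Hx.hy (H _ oz') le_rfl oz'
    have h1 : z * c ∈ L ⊔ L' := perf_le k.idx k'.a.qs (fun x hx => by
      have := mem_centralizer_singleton_iff.1 (k'.le hx)
      rw [mul_assoc, ← (cm x).eq, ← mul_assoc, ← mul_assoc] at this
      exact mem_centralizer_singleton_iff.2 (mul_right_cancel this)) k'.a.mem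
    obtain ⟨a, ha, b, hb, e⟩ := k.dec ((mul_mem_cancel_left (mem_sup_left k.a.mem)).1 h1)
    have h2 := k.a.cen a ha fun g hg => by
      rw [eq_mul_inv_of_mul_eq e.symm]
      exact ((cm g).mul_right (show Commute g b from k.comm g hg b hb).inv_right).eq
    have h3 := k.b.cen b hb fun g hg => by
      rw [eq_inv_mul_of_mul_eq e.symm]
      exact ((show Commute a g from k.comm a ha g hg).symm.inv_right.mul_right (cm g)).eq
    have c1 : c ≠ 1 := fun e => by simp [e] at oc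
    rcases h2 with rfl | rfl <;> rcases h3 with h3 | h3 <;> rw [h3] at e
    exacts [c1 (by simpa using e), ne (by simpa using e), ne (by simpa using e), c1 (e.trans z2)]
  have hy : y * y ∈ center Y := mem_center_iff.2 fun g => by
    have := DFunLike.congr_fun h.sq g
    rw [← map_mul] at this
    exact (mul_inv_eq_iff_eq_mul.1 this).symm
  obtain ⟨k, hk⟩ : Odd (orderOf (y * y)) := Nat.not_even_iff_odd.1 fun e => by
    obtain ⟨c, e'⟩ := exists_prime_orderOf_dvd_card' (G := zpowers (y * y)) 2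
      (Nat.card_zpowers (y * y) ▸ e.two_dvd)
    exact hc c (zpowers_le.2 hy c.2) (by rw [orderOf_coe, e'])
  have e : MulAut.conj y = MulAut.conj (y * (y * y) ^ k) := MulEquiv.ext fun g => by
    have := mem_center_iff.1 (pow_mem hy k) g
    simp only [MulAut.conj_apply, mul_inv_rev, mul_assoc]
    rw [← mul_assoc ((y * y) ^ k) g, ← this, mul_assoc, mul_inv_cancel_left]
  have oz : orderOf (y * (y * y) ^ k) = 2 := orderOf_eq_prime (by
    rw [← pow_orderOf_eq_one (y * y), hk, ← pow_two, ← pow_mul, ← pow_succ', ← pow_mul, ← pow_mul]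
    congr 1; ring) fun k => h.ne (by rw [e, k, map_one])
  generalize y * (y * y) ^ k = z at e oz
  obtain ⟨L, L', k⟩ := Hx.hy (H z oz) le_rfl oz
  have hA : A ≤ centralizer {z} := fun a ha => mem_centralizer_singleton_iff.2
    (mul_inv_eq_iff_eq_mul.1 (e ▸ h.fix a ha : MulAut.conj z a = a)).symm
  have key : ∀ {L L'}, Hy 5 z L L' → A ≤ centralizer (L : Set Y) := fun k =>
    (h.kit.eq_or _ k.a.qs (fun m hm => by
      rw [e]
      exact mul_inv_eq_iff_eq_mul.2 (mem_centralizer_singleton_iff.1 (k.le hm)).symm)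
      (hA.trans k.na)).resolve_left fun e' => inv_nc h (e' ▸ k.a.mem) oz fun g hg =>
        mem_centralizer_singleton_iff.1 (hA hg)
  exact not_cen h.qs (perf_le k.idx h.qs hA) (key k) (key k.symm)

theorem key1 : ∀ π ∈ L24, ∀ ρ ∈ L24, π * ρ ≠ d2 ∧ π * ρ ≠ d1 * d2 ∧
    (π * π = zb → ρ * ρ = zb → π * ρ ≠ d1) := by decide +kernel

/-- the elements of `L24` inverted by `γ` -/
def inL (γ : S7) : List S7 := L24.filter fun π => γ * π * γ⁻¹ = π⁻¹

theorem mem_inL {γ π : S7} (a : π ∈ L24) (b : γ * π * γ⁻¹ = π⁻¹) : π ∈ inL γ :=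
  List.mem_filter.2 ⟨a, decide_eq_true b⟩

theorem key2 : (inL d1).length ≤ 18 ∧ (inL d2).length ≤ 18 ∧ (inL (d1 * d2)).length ≤ 18 := by
  decide +kernel

theorem key3 : sign zb = 1 ∧ zb * zb = 1 ∧ sign wb = 1 ∧ sign d1 = 1 ∧ d1 * d1 = 1 ∧ sign d2 = 1 ∧
    zb ≠ 1 ∧ wb * zb = zb * wb ∧ d1 * zb = zb * d1 ∧ d2 * zb = zb * d2 ∧ 1 * 1 ≠ d1 ∧
    1 * zb ≠ d1 ∧ zb * 1 ≠ d1 ∧ zb * zb ≠ d1 := by decide +kernel

set_option maxHeartbeats 800000 in
theorem part2 (h : Cf σ A) (H : ∀ z : Y, orderOf z = 2 → Hx 25 z) : False := by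
  classical
  have hodd := h.par (part1 h fun z oz => by
    obtain ⟨F₁, F₂, _, _, _, _, L, L', _, _, a, b, k⟩ := H z oz
    exact ⟨F₁, F₂, _, _, _, _, L, L', ‹_›, ‹_›, by omega, by omega, k⟩)
  have odd : ∀ c ∈ centralizer (A : Set Y), c * c = 1 → c = 1 := fun c hc k => by
    by_contra e
    have := orderOf_dvd_natCard (⟨c, hc⟩ : centralizer (A : Set Y))
    rw [← orderOf_coe, orderOf_eq_prime (p := 2) (by rw [pow_two, k]) e] at this
    exact hodd.not_two_dvd_nat this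
  obtain ⟨ψ, hs, hk⟩ := exists_psi h
  obtain ⟨Ψ, hΨ⟩ : ∃ Ψ : Y → S7, ∀ y (hy : y ∈ normalizer (A : Set Y)), Ψ y = ψ ⟨y, hy⟩ :=
    ⟨fun y => if hy : _ then ψ ⟨y, hy⟩ else 1, fun y hy => dif_pos hy⟩
  have mul : ∀ {x y}, σ x = x → σ y = y → Ψ (x * y) = Ψ x * Ψ y := fun a b => by
    rw [hΨ _ (h.nor _ a), hΨ _ (h.nor _ b), hΨ _ (mul_mem (h.nor _ a) (h.nor _ b)), ← map_mul]; rfl
  have inv : ∀ {x}, σ x = x → Ψ x⁻¹ = (Ψ x)⁻¹ := fun a => by
    rw [hΨ _ (h.nor _ a), hΨ _ (inv_mem (h.nor _ a)), ← map_inv]; rfl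
  have pw : ∀ {x} (n : ℕ), σ x = x → Ψ (x ^ n) = Ψ x ^ n := fun n a => by
    rw [hΨ _ (h.nor _ a), hΨ _ (pow_mem (h.nor _ a) n), ← map_pow]; rfl
  have one : Ψ 1 = 1 := by rw [hΨ _ (one_mem _)]; exact map_one ψ
  have ker : ∀ {x}, σ x = x → Ψ x = 1 → x ∈ centralizer (A : Set Y) := fun a b =>
    hk ⟨_, h.nor _ a⟩ (hΨ _ _ ▸ b)
  have fm : ∀ {x y}, σ x = x → σ y = y → σ (x * y) = x * y := fun a b => by rw [map_mul, a, b]
  have fi : ∀ {x}, σ x = x → σ x⁻¹ = x⁻¹ := fun a => by rw [map_inv, a]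
  have cnj : ∀ {x y}, σ x = x → σ y = y → Ψ (x * y * x⁻¹) = Ψ x * Ψ y * (Ψ x)⁻¹ := fun a b => by
    rw [mul (fm a b) (fi a), mul a b, inv a]
  have k3 : ∀ a ∈ A, Ψ a = 1 → a ^ 3 = 1 := fun a ha k => by
    have m := ker (h.fix a ha) k
    have := orderOf_dvd_natCard (⟨⟨a, ha⟩, mem_center_iff.2 fun g => Subtype.ext (m g g.2)⟩ : center A)
    rw [← orderOf_coe, ← orderOf_coe] at this
    refine orderOf_dvd_iff_pow_eq_one.1 (this.trans ?_)
    rcases h.kit.card with k | k <;> simp [k.2]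
  have lift : ∀ π, sign π = 1 → ∃ a ∈ A, Ψ a = π := fun π hπ =>
    have ⟨a, ha, e⟩ := hs π hπ
    ⟨a, ha, (hΨ _ _).trans e⟩
  have lift2 : ∀ π, sign π = 1 → π * π = 1 → ∃ a ∈ A, Ψ a = π ∧ a * a = 1 := fun π hπ k => by
    obtain ⟨a, ha, e⟩ := lift π hπ
    have f := h.fix a ha
    refine ⟨a ^ 3, pow_mem ha 3, by rw [pw 3 f, e, pow_three, k, mul_one], ?_⟩
    rw [← (Commute.refl a).mul_pow, k3 _ (mul_mem ha ha) (by rw [mul f f, e, k])]
  obtain ⟨p1, p2, p3, p4, p5, p6, p7, p8, p9, p10, p11, p12, p13, p14⟩ := key3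
  obtain ⟨z, hz, ez, z2⟩ := lift2 zb p1 p2
  obtain ⟨w, hw, ew⟩ := lift wb p3
  obtain ⟨g₁, hg₁, e₁, g2⟩ := lift2 d1 p4 p5
  obtain ⟨g₂, hg₂, e₂⟩ := lift d2 p6
  have fz := h.fix z hz
  have fw := h.fix w hw
  have z1 : z ≠ 1 := fun e => p7 (ez.symm.trans (e ▸ one))
  have oz : orderOf z = 2 := orderOf_eq_prime (by rw [pow_two, z2]) z1
  have cz : ∀ a ∈ A, Ψ a * zb = zb * Ψ a → a ∈ centralizer {z} := fun a ha k => by
    have f := h.fix a ha
    have m := mul_mem (mul_mem (mul_mem ha hz) (inv_mem ha)) hz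
    have e : Ψ (a * z * a⁻¹ * z) = 1 := by
      rw [mul (fm (fm f fz) (fi f)) fz, cnj f fz, ez, k, mul_inv_cancel_right, p2]
    have c := ker (h.fix _ m) e z hz
    have e2 := odd _ (ker (h.fix _ m) e) (by
      calc _ = a * z * a⁻¹ * (z * (a * z * a⁻¹ * z)) := mul_assoc _ _ _
        _ = a * z * a⁻¹ * (a * z * a⁻¹) * (z * z) := by rw [c]; simp only [mul_assoc]
        _ = 1 := by rw [conj_mul, z2]; group)
    exact mem_centralizer_singleton_iff.2 (mul_inv_eq_iff_eq_mul.1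
      ((eq_inv_of_mul_eq_one_left e2).trans (inv_eq_of_mul_eq_one_right z2)))
  have zc : ∀ {u}, σ u = u → u ∈ centralizer {z} → Ψ u * zb = zb * Ψ u := fun a c => by
    rw [← ez, ← mul a fz, ← mul fz a, mem_centralizer_singleton_iff.1 c]
  have F5 : ∀ {u}, σ u = u → u ∈ centralizer {z} → u ^ 5 = 1 → u ∈ centralizer (A : Set Y) :=
    fun a c b => ker a ((big _ (zc a c)).1 (by rw [← pw 5 a, b, one]))
  have ss : ∀ x, σ (σ x) = x := fun x => by rw [← MulAut.mul_apply, h.sq]; rfl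
  have sN : ∀ n ∈ centralizer {z}, σ n ∈ centralizer {z} := fun n hn =>
    mem_centralizer_singleton_iff.2 (by
      have := congrArg σ (mem_centralizer_singleton_iff.1 hn)
      rwa [map_mul, map_mul, fz] at this)
  have swap : ∀ {L L'}, Hy 25 z L L' → L.map σ.toMonoidHom ≠ L' := fun {L L'} k e => by
    have sm : ∀ l ∈ L, σ l ∈ L' := fun l hl => e ▸ mem_map_of_mem _ hl
    have c : ∀ x ∈ L, ∀ y ∈ L, Commute x (σ y) := fun x hx y hy => k.comm x hx _ (sm y hy)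
    have dm : ∀ x ∈ L, ∀ y ∈ L, x * y * σ (x * y) = x * σ x * (y * σ y) := fun x hx y hy => by
      rw [map_mul, (c y hy x hx).mul_mul_mul_comm]
    have d5 : ∀ u ∈ L, u ^ 5 = 1 → u * σ u ∈ centralizer (A : Set Y) := fun u hu a =>
      F5 (by rw [map_mul, ss, (c u hu u hu).eq]) (mul_mem (k.le hu) (k.symm.le (sm u hu)))
        (by rw [(c u hu u hu).mul_pow, ← map_pow, a, map_one, mul_one])
    obtain ⟨u, hu, v, hv, a, b, j⟩ := k.a.uv
    have hj := mul_mem (mul_mem hu (inv_mem hv)) hu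
    have m : u * v⁻¹ * u * σ (u * v⁻¹ * u) ∈ centralizer (A : Set Y) := by
      rw [dm _ (mul_mem hu (inv_mem hv)) u hu, dm u hu _ (inv_mem hv)]
      exact mul_mem (mul_mem (d5 u hu a) (d5 _ (inv_mem hv) (by rw [inv_pow, b, inv_one]))) (d5 u hu a)
    have e1 := odd _ m (by rw [← dm _ hj _ hj, j, fz, z2])
    rcases k.inf _ hj (eq_inv_of_mul_eq_one_left e1 ▸ inv_mem (sm _ hj)) with e | e <;> rw [e] at j
    exacts [z1 (by simpa using j.symm), z1 (j.symm.trans z2)]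
  have perm : ∀ {L L'}, Hy 25 z L L' → L.map σ.toMonoidHom = L := fun {L L'} k => by
    have q := H14.quasi_of_mulEquiv k.a.qs (σ.subgroupMap L)
    have le : L.map σ.toMonoidHom ≤ centralizer {z} := by
      rintro _ ⟨l, hl, rfl⟩
      exact sN l (k.le hl)
    have nr : centralizer {z} ≤ normalizer (L.map σ.toMonoidHom : Set Y) := fun n hn =>
      map_le_normalizer_map σ.toMonoidHom k.na ⟨σ n, sN n hn, ss n⟩
    exact (qq q k.a.qs (le.trans k.na) (k.le.trans nr)).resolve_right fun a =>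
      (qq q k.b.qs (le.trans k.nb) (k.symm.le.trans nr)).elim (swap k)
        (not_cen q (perf_le k.idx q le) a)
  have wN := cz w hw (ew ▸ p8)
  have two : ∀ {L L'}, Hy 25 z L L' → (∀ t ∈ L, σ t = t → Ψ t ∈ L24) ∧
      (∀ l ∈ L, ∀ t ∈ L, σ l = l * z → σ t = t → l * t * l⁻¹ = t⁻¹) ∧
      ∃ S : Finset Y, 25 ≤ S.card + 2 ∧ ∀ t ∈ S, t ∈ L ∧ σ t = t := fun {L L'} k => by
    rcases k.a.di σ h.sq (perm k) with ⟨u, hu, v, hv, a, b, c, d, j⟩ | ⟨a, b⟩
    · have m := F5 a (k.le hu) c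
      have m := mul_mem (mul_mem m (inv_mem (F5 b (k.le hv) d))) m
      exact absurd (odd z (j ▸ mul_mem m m) z2) z1
    refine ⟨fun t ht f => (big _ (zc f (k.le ht))).2 ?_, b⟩
    have f' := fm (fm fw f) (fi fw)
    rw [← ew, ← cnj fw f, ← mul f f', ← mul f' f,
      a t ht _ (conj_mem_of_mem_normalizer (k.na wN) ht) f f']
  obtain ⟨L, L', k⟩ := Hx.hy (H z oz) (by norm_num) oz
  obtain ⟨g, hg, hL, hc⟩ : ∃ g ∈ A, g ∈ L ⊔ L' ∧
      (Ψ g = d1 ∧ g * g = 1 ∨ Ψ g = d2 ∨ Ψ g = d1 * d2) := by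
    by_cases a : g₁ ∈ L ⊔ L'
    · exact ⟨_, hg₁, a, .inl ⟨e₁, g2⟩⟩
    by_cases b : g₂ ∈ L ⊔ L'
    · exact ⟨_, hg₂, b, .inr (.inl e₂)⟩
    exact ⟨_, mul_mem hg₁ hg₂, (mul_rel k.idx (cz _ hg₁ (e₁ ▸ p9))
      (cz _ hg₂ (e₂ ▸ p10))).2 (iff_of_false a b),
      .inr (.inr (by rw [mul (h.fix _ hg₁) (h.fix _ hg₂), e₁, e₂]))⟩
  have fg := h.fix g hg
  obtain ⟨a, ha, b, hb, rfl⟩ := k.dec hL
  have e : a⁻¹ * σ a = b * (σ b)⁻¹ := by
    rw [map_mul] at fg
    rw [eq_mul_inv_of_mul_eq fg]; group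
  have cab : Commute a b := k.comm a ha b hb
  rcases k.inf _ (mul_mem (inv_mem ha) ((perm k).le (mem_map_of_mem _ ha))) (e ▸ mul_mem hb
    (inv_mem ((perm k.symm).le (mem_map_of_mem _ hb)))) with ε | ε
  · have fa : σ a = a := (inv_mul_eq_one.1 ε).symm
    have fb : σ b = b := (mul_inv_eq_one.1 (e ▸ ε)).symm
    obtain ⟨k1, k2, k4⟩ := key1 _ ((two k).1 a ha fa) _ ((two k.symm).1 b hb fb)
    rw [mul fa fb] at hc
    obtain ⟨c1, c2⟩ := (hc.resolve_right fun c => c.elim k1 k2)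
    rw [cab.symm.mul_mul_mul_comm] at c2
    rcases k.inf _ (mul_mem ha ha) (eq_inv_of_mul_eq_one_left c2 ▸ inv_mem (mul_mem hb hb))
      with s | s
    · rw [s, one_mul] at c2
      rcases k.a.inv a ha s with c' | c' <;> rcases k.b.inv b hb c2 with c | c <;>
        simp only [c, c', one, ez] at c1
      exacts [p11 c1, p12 c1, p13 c1, p14 c1]
    · rw [s] at c2
      exact k4 (by rw [← mul fa fa, s, ez]) (by
        rw [← mul fb fb, (eq_inv_of_mul_eq_one_right c2).trans (inv_eq_of_mul_eq_one_right z2), ez]) c1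
  · obtain ⟨k1, k2, S, k4, k5⟩ := two k
    have gi : ∀ t ∈ L, σ t = t → a * b * t * (a * b)⁻¹ = t⁻¹ := fun t ht f => by
      rw [← k2 a ha t ht (eq_mul_of_inv_mul_eq ε) f, mul_assoc a, ← k.comm t ht b hb]; group
    have := Finset.card_le_card_of_injOn (s := S) (t := (inL (Ψ (a * b))).toFinset) Ψ
      (fun t ht => by
        obtain ⟨m, f⟩ := k5 t ht
        exact Finset.mem_coe.2 (List.mem_toFinset.2 (mem_inL (k1 t m f)
          (by rw [← cnj fg f, gi t m f, inv f])))) fun t ht t' ht' e => by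
      obtain ⟨m, f⟩ := k5 t ht
      obtain ⟨m', f'⟩ := k5 t' ht'
      have f2 := fm (fi f) f'
      have c := ker f2 (by rw [mul (fi f) f', inv f, e, inv_mul_cancel])
      have := gi _ (mul_mem (inv_mem m) m') f2
      rw [c _ hg, mul_inv_cancel_right] at this
      exact inv_mul_eq_one.1 (odd _ c (eq_inv_iff_mul_eq_one.1 this))
    have := this.trans (List.toFinset_card_le _)
    obtain ⟨q1, q2, q3⟩ := key2
    rcases hc with ⟨c, -⟩ | c | c <;> rw [c] at this <;> omega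

theorem jobHx : JobHx := fun _ _ _ _ _ h => ⟨part1 h, part2 h⟩

end H37.A7
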