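import Cfsg.Agent.H37.FiLine
import Cfsg.Agent.H23.FiRow
import Cfsg.Agent.H80.P22
/-! Lines in the group of type M(22): width. -/
set_option Elab.async false
set_option maxRecDepth 100000
set_option autoImplicit false
namespace H37.L22
open H71 H80 H74 H23.Fi Subgroup 

noncomputable def wB : ℕ :=
  (H80.maskL (decB 20 (nat_lit 0x100a5b00a5900a2c009c2009c0009930092c0092b008ba008b9008560080e007d7007cf007a9007a1007810077e0076500762007340072e007290072700720006fe006b9006b0006af0067e0067d0066200632005ec005b0005af0057f0057c005780055200550005400052d00527005100050900501004fd004f8004f6004f3004e9004c700482004790047800447004460042b003fb003b500379003780034800345003410031b0031900309002f6002f0002d9002d2002ca002c6002c1002bf002bc002b7002b6002b5002af0028d002480023f0023e0020d0020c001f1001c10017b0013f0013e0010e0010b00107000e1000df000cf000bc000b60009f00098000900008c0008700085000820007900076000460003900034000320002d0002b000270002400023000200001f000180001500014000120000a)))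
noncomputable def wW : List (List ℕ) :=
  [(dec 24), (dec 22), (dec 28), (dec 16), (dec 17), (dec (nat_lit 0x17543457)), (dec (nat_lit 0x15432345))]
theorem wi : H41.invChk M22 A22 wW wB = true := by decide +kernel
noncomputable def wr : NP :=
  ⟨⟨[], 8⟩, 24⟩
theorem wo : wr.ok M22 A22 = true := by decide +kernel
noncomputable def waB : ℕ :=
  (H80.maskL (decB 20 (nat_lit 0x1007d7007cf007a9007a1007810077e0076500762007340072e0072900727006b9006af00662005ec005b00057f00510004f6004f300482004780042b003b50037900348002d9002bf002bc002b7002b6002b5002480023e001f10017b0013f0010e0009f000850008200079000760002b)))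
noncomputable def waW : List (List ℕ) :=
  [(dec 22), (dec 16), (dec 17), (dec (nat_lit 0x15432345)), (dec (nat_lit 0x17837432347387))]
theorem wai : H41.invChk M22 A22 waW waB = true := by decide +kernel
noncomputable def war : NP :=
  ⟨⟨[], 6⟩, 43⟩
theorem wao : war.ok M22 A22 = true := by decide +kernel
noncomputable def waaB : ℕ :=
  (H80.maskL (decB 20 (nat_lit 0x1006b90057f005100048200348002d9002b7002b6002b5002480010e0009f)))
noncomputable def waaW : List (List ℕ) :=
  [(dec 16), (dec 17), (dec (nat_lit 0x17837432347387)), (dec (nat_lit 0x1c8543765432345673458c))]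
theorem waai : H41.invChk M22 A22 waaW waaB = true := by decide +kernel
noncomputable def waar : NP :=
  ⟨⟨[], 0⟩, 693⟩
theorem waao : waar.ok M22 A22 = true := by decide +kernel
noncomputable def waaaB : ℕ :=
  (H80.maskL (decB 20 (nat_lit 0x1002480010e0009f)))
theorem waaaL : subB waaaB (H80.maskL [159, 270, 584]) = true := by decide +kernel
theorem waan : subB (H41.nbr A22 F22 waaB waar) waaaB = true := by decide +kernel
theorem waag : growW A22 waaW (decB 8 (nat_lit 0x1010301020001)) (subB (H80.dif waaB 0)) (one waar.p) = true := by decide +kernel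
theorem waaw {G : Type*} [Group G] {θ : ℕ → G} {S : Set G} (R : Real M22 θ S) :
    H41.WB M22 θ waaB 4 :=
  H41.WB.step bm22 R waao waai waag ((H41.WB.of_list [159, 270, 584] waaaL).mono waan (k' := 3) (by decide)) (H41.WB.zero _)
theorem wan : subB (H41.nbr A22 F22 waB war) waaB = true := by decide +kernel
theorem wag : growW A22 waW (decB 8 (nat_lit 0x10204020301020401020003)) (subB (H80.dif waB 0)) (one war.p) = true := by decide +kernel
theorem waw {G : Type*} [Group G] {θ : ℕ → G} {S : Set G} (R : Real M22 θ S) :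
    H41.WB M22 θ waB 5 :=
  H41.WB.step bm22 R wao wai wag ((waaw R).mono wan (k' := 4) (by decide)) (H41.WB.zero _)
theorem wn : subB (H41.nbr A22 F22 wB wr) waB = true := by decide +kernel
theorem wg : growW A22 wW (decB 8 (nat_lit 0x10502040603020104060100050002)) (subB (H80.dif wB 0)) (one wr.p) = true := by decide +kernel
theorem ww {G : Type*} [Group G] {θ : ℕ → G} {S : Set G} (R : Real M22 θ S) :
    H41.WB M22 θ wB 6 :=
  H41.WB.step bm22 R wo wi wg ((waw R).mono wn (k' := 5) (by decide)) (H41.WB.zero _)
theorem e1 : Nat.beq (prpN A22 F22 M22.n [pd22, pc22]) wB = true := by decide +kernel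
noncomputable def loX : List NP :=
  [⟨⟨[], 8⟩, 24⟩, ⟨⟨[], 6⟩, 43⟩, ⟨⟨[], 0⟩, 693⟩, ⟨⟨(dec (nat_lit 0x1347387)), 2⟩, 159⟩, ⟨⟨(dec (nat_lit 0x1345673458c)), 2⟩, 270⟩, ⟨⟨(dec (nat_lit 0x1123456c543218c)), 0⟩, 584⟩]
theorem lo : H41.lowChk M22 A22 F22 loX wB = true := by decide +kernel
theorem sz : sizeChk 12 (H80.dif (full M22.n) (pd22.toPW.prp A22 F22)) 2816 = true := by decide +kernel
theorem nc : tb (pd22.toPW.prp A22 F22) pc22.p = false := by decide +kernel
theorem line : LineD M22 A22 12 F22 pd22 pc22 2816 :=
  ⟨bm22, pd22_ok, pc22_ok, nc, ⟨_, _, pt22c⟩, sz⟩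

variable {G : Type*} [Group G] {D : Set G} {Θ : ℕ → G}

theorem width (h : IsFi M22 ord22 D Θ) {a b : G} (ha : a ∈ D) (hb : b ∈ D) (hab : ¬ Commute a b) :
    Cfsg.commutingWidth (D ∩ (centralizer ((zpowers (a * b) : Subgroup G) : Set G) : Set G)) = 6 := by
  obtain ⟨Θ', h', rfl, rfl⟩ := line.exists_numbering h ha hb hab
  have R := h'.real
  have key := fun p hp => (line.mem_line h.tt R (p := p) hp).trans (by rw [beq_eq e1])
  exact H41.width_eq bm22 R Set.inter_subset_left (fun p hp => (key p hp).1)
    (fun p hp => (key p hp).2) (ww R) lo rfl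
noncomputable def r1 : NP :=
  ⟨⟨[], 8⟩, 24⟩
noncomputable def r2 : NP :=
  ⟨⟨[], 12⟩, 45⟩
theorem r1o : r1.ok M22 A22 = true := by decide +kernel
theorem r2o : r2.ok M22 A22 = true := by decide +kernel
theorem t1 : transChk A22 M22.L [(dec 24), (dec 22), (dec 28), (dec 16), (dec 17), (dec (nat_lit 0x17543457)), (dec (nat_lit 0x15432345))] (decB 8 (nat_lit 0x10502040603020104060100050002)) [0, 3] [24] wB = true := by decide +kernel
theorem t2 : transChk A22 M22.L [(dec 24), (dec 22), (dec 16), (dec 17), (dec (nat_lit 0x15432345)), (dec (nat_lit 0x17837432347387))] (decB 8 (nat_lit 0x1010402030503040203010400)) [0, 3, 24] [45] (H80.dif wB (r1.toPW.prp A22 F22)) = true := by decide +kernel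
theorem m1 : tb wB 24 = true := by decide +kernel
theorem m2 : tb wB 45 = true := by decide +kernel
theorem m3 : tb (r1.toPW.prp A22 F22) 45 = false := by decide +kernel

end H37.L22
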