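import Cfsg.Agent.H24.CxKit0
import Cfsg.Agent.H3.RuE

/-! Tower CX, job ST: the Sylow subgroup in the bad case. -/

set_option autoImplicit false
set_option linter.unusedSectionVars false

namespace H37.Cx

open Subgroup Cfsg H98 H24.Cx

universe u

local instance : Fact (Nat.Prime 2) := ⟨Nat.prime_two⟩

variable {G W : Type u} [Group G] [Finite G] [AddCommGroup W] [DistribMulAction G W]
  {Γ Y E A : Subgroup G} {D : AddSubgroup W} {t s : G} {v u : W}

theorem tv_ex (h : IsTv D t v) : ∃ w ∈ D, w + w = 0 ∧ t • w = w + v := by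
  obtain ⟨w, a, b, c⟩ := h.ex
  exact ⟨w, a, b, (h.act w a).resolve_left c⟩

theorem tv_two (h : IsTv D t v) : v + v = 0 := by
  obtain ⟨w, -, b, c⟩ := tv_ex h
  have := congrArg (t • ·) b
  simp only [smul_add, smul_zero, c] at this
  rw [← this, add_add_add_comm, b, zero_add]

theorem tv_fix (h : IsTv D t v) : t • v = v :=
  (h.act v h.mem).resolve_right fun e => h.ne ((smul_eq_zero_iff_eq t).1 (e.trans (tv_two h)))

theorem tv_sq (h : IsTv D t v) : ∀ w ∈ D, (t * t) • w = w := fun w hw => by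
  rcases h.act w hw with e | e <;> rw [mul_smul, e]
  · exact e
  · rw [smul_add, e, tv_fix h, add_assoc, tv_two h, add_zero]

theorem tv_eq (h : IsTv D t v) (h' : IsTv D s u) (e : ∀ w ∈ D, s • w = t • w) : u = v := by
  obtain ⟨w, a, -, c⟩ := tv_ex h
  rcases h'.act w a with k | k <;> rw [e w a, c] at k
  · exact (h.ne (by simpa using k)).elim
  · exact (add_left_cancel k).symm

/-- The orbit sum argument. -/
theorem np_fix (hD : Mod 2 Γ D) (hA : A ≤ Γ) (h2 : IsPGroup 2 A) (hN : NP 2 D A) (hv : v ∈ D)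
    (v2 : v + v = 0) (h1 : s • v ≠ v) (h3 : ∀ g ∈ A, g • v ≠ v → s • g • v = g • v) :
    A ≤ MulAction.stabilizer G v := by
  classical
  by_contra hn
  obtain ⟨B, a, b, c⟩ := H3.Ru.exists_relIndex_two h2 hn
  obtain ⟨x, hx, xB⟩ : ∃ x ∈ A, x ∉ B := by
    by_contra! k
    simp [relIndex_eq_one.2 (show A ≤ B from k)] at c
  let O := (Set.finite_range fun b : B => b.1 • v).toFinset
  have mO : ∀ {y}, y ∈ O ↔ ∃ b ∈ B, b • v = y := by simp [O]
  have k := hN B b c (∑ y ∈ O, y) ⟨sum_mem fun y hy => by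
    obtain ⟨g, hg, rfl⟩ := mO.1 hy
    exact hD.inv g (hA (b hg)) v hv, fun g hg => by
      rw [Finset.smul_sum]
      refine Finset.sum_equiv (MulAction.toPerm g) (fun y => ?_) fun _ _ => rfl
      rw [mO, mO]
      exact ⟨fun ⟨d, e, f⟩ => ⟨g * d, mul_mem hg e, by rw [mul_smul, f]; rfl⟩, fun ⟨d, e, f⟩ =>
        ⟨g⁻¹ * d, mul_mem (inv_mem hg) e, by rw [mul_smul, f]; exact inv_smul_smul g y⟩⟩⟩ (by
      rw [two_nsmul, ← Finset.sum_add_distrib]
      refine Finset.sum_eq_zero fun y hy => ?_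
      obtain ⟨g, -, rfl⟩ := mO.1 hy
      rw [← smul_add, v2, smul_zero]) x hx
  rw [Finset.sum_range_succ, Finset.sum_range_one, pow_zero, pow_one, one_smul] at k
  have k1 : s • x • ∑ y ∈ O, y = x • ∑ y ∈ O, y := by
    rw [Finset.smul_sum, Finset.smul_sum]
    refine Finset.sum_congr rfl fun y hy => ?_
    obtain ⟨g, hg, rfl⟩ := mO.1 hy
    rw [← mul_smul x]
    exact h3 _ (mul_mem hx (b hg)) fun e =>
      xB ((mul_mem_cancel_right hg).1 (a ⟨e, mul_mem hx (b hg)⟩))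
  rw [eq_neg_of_add_eq_zero_right k, smul_neg, neg_inj, Finset.smul_sum, ← sub_eq_zero,
    ← Finset.sum_sub_distrib, Finset.sum_eq_single_of_mem v (mO.2 ⟨1, one_mem _, one_smul _ _⟩)
      fun y hy e => by
        obtain ⟨g, hg, rfl⟩ := mO.1 hy
        rw [h3 g (b hg) e, sub_self]] at k1
  exact h1 (sub_eq_zero.1 k1)

theorem rel_sup (hE : Rel 2 Γ Y E) (h : TvN Γ E D t v) :
    Rel 2 (Γ ⊓ normalizer (E : Set G)) E (zpowers t ⊔ E) :=
  ⟨le_sup_right, sup_le (zpowers_le.2 h.mem) (le_inf hE.le le_normalizer),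
    h.two.to_sup_of_normal_right' hE.isP (zpowers_le.2 h.mem.2)⟩

theorem jobST : JobST.{u} := fun jO G W _ _ _ _ Γ Y E D h2 hE hJ hB => by
  obtain ⟨t, v, ht⟩ := hB.ex
  obtain ⟨t', v', ht', hb⟩ := hB.braid t v ht
  have rJ := rel_sup hE ht
  set J := zpowers t ⊔ E with hJd
  obtain ⟨S', hS', l1⟩ := exists_isSyl_le rJ.isP rJ.le
  obtain ⟨S, hS, l2⟩ := exists_isSyl_le hS'.isPGroup (hS'.le.trans inf_le_left)
  have rS : Rel 2 (Γ ⊓ normalizer (E : Set G)) E S' := ⟨rJ.ge.trans l1, hS'.le, hS'.isPGroup⟩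
  have tJ : t ∈ J := mem_sup_left (mem_zpowers t)
  have fx : ∀ s ∈ E, ∀ u, IsTv D s u → t' • u = u := fun s hs u k =>
    jO G W Γ Y _ D h2 (hE.of_loc (rel_sup hE ht')) (hB.low _ (rel_sup hE ht')) t'
      (mem_sup_left (mem_zpowers _)) s (mem_sup_right hs) v' u ht'.tv k
  have cl : ∀ s ∈ S', ∀ u, IsTv D s u → (s ∈ E ↔ u ≠ v) ∧ s ∈ J := fun s hs u k => by
    by_cases e : s ∈ E
    · exact ⟨iff_of_true e fun l => hb (l ▸ fx s e u k), mem_sup_right e⟩
    have m := hB.same S' rS t (l1 tJ) s hs v u ht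
      ⟨hS'.le hs, e, hS'.isPGroup.to_le (zpowers_le.2 hs), k⟩
    refine ⟨iff_of_false e (not_not.2 (tv_eq ht.tv k fun w hw => ?_)), ?_⟩
    · rw [eq_comm, ← inv_smul_eq_iff, ← mul_smul, h2.triv _ m w hw]
    · exact inv_mem_iff.1 ((mul_mem_cancel_right tJ).1 (mem_sup_right (hE.ge m)))
  have gen : ∀ P, E ≤ P → P ≤ S' → Y ⊔ closure {s | s ∈ P ∧ ∃ u, IsTv D s u ∧ u ≠ v} = E :=
    fun P a b => le_antisymm (sup_le hE.ge ((closure_le _).2 fun s ⟨c, u, d, e⟩ =>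
      (cl s (b c) u d).1.2 e)) (hJ.ge.trans (JJ_le_iff.2 ⟨le_sup_left, by
        rintro A (k | ⟨-, s, u, k, rfl⟩) l
        · exact (hB.low E hE.pair.rel A l k).trans le_sup_left
        · have m := zpowers_le.1 l
          exact zpowers_le.2 (mem_sup_right (subset_closure
            ⟨a m, u, k, (cl s (b (a m)) u k).1.1 m⟩))⟩))
  set S1 := S ⊓ normalizer (J : Set G) with hS1
  have JS : J ≤ S1 := le_inf (l1.trans l2) le_normalizer
  have r1 : Rel 2 Γ Y S1 := ⟨hE.ge.trans (rJ.ge.trans JS), inf_le_left.trans hS.le,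
    hS.isPGroup.to_le inf_le_left⟩
  have st : ∀ g ∈ S1, g • v = v → g ∈ S' := fun g hg e => by
    refine (hS'.eq_of_le (hS.isPGroup.to_le (inf_le_left : S ⊓ normalizer (E : Set G) ≤ S))
      (le_inf l2 (hS'.le.trans inf_le_right)) (inf_le_inf_right _ hS.le)).le
      ⟨hg.1, mem_normalizer_of_cj_le ?_⟩
    conv_lhs => rw [← gen J rJ.ge l1]
    rw [cj_sup, H98.cj, H98.cj, MonoidHom.map_closure]
    refine sup_le ((cj_eq_self (h2.pair.nor (r1.le hg))).le.trans hE.ge) ((closure_le _).2 ?_)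
    rintro _ ⟨s, ⟨a, u, b, c⟩, rfl⟩
    exact (cl _ (l1 (conj_mem_of_mem_normalizer hg.2 a)) _ (b.conj h2.mod (r1.le hg))).1.2
      fun k => c (smul_left_cancel g (k.trans e.symm))
  have lw : Low D Y S1 := fun A a k => hB.low S' rS A (fun g hg => st g (a hg)
    (np_fix h2.mod (a.trans r1.le) (r1.isP.to_le a) k ht.tv.mem (tv_two ht.tv) hb
      (fun g hg e => fx _ ((cl _ (l1 (conj_mem_of_mem_normalizer (a hg).2 tJ)) _
        (ht.tv.conj h2.mod (r1.le (a hg)))).1.2 e) _ (ht.tv.conj h2.mod (r1.le (a hg)))) hg)) k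
  have tv : ∀ s ∈ S1, ∀ u, IsTv D s u → s ∈ S' := fun s hs u k =>
    st s hs (jO G W Γ Y S1 D h2 r1 lw s hs t (JS tJ) u v k ht.tv)
  have jj : JJ (AP 2 D) Y S1 = J := le_antisymm (JJ_le_iff.2 ⟨hE.ge.trans rJ.ge, by
    rintro A (k | ⟨-, s, u, k, rfl⟩) l
    · exact (lw A l k).trans (hE.ge.trans rJ.ge)
    · exact zpowers_le.2 (cl s (tv s (zpowers_le.1 l) u k) u k).2⟩)
    (sup_le (le_JJ' (.inr ⟨rfl, t, v, ht.tv, rfl⟩) (le_sup_left.trans JS) _)
      (hJ.ge.trans (JJ_mono (rJ.ge.trans JS))))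
  have e1 : S1 = S := by
    by_contra k
    refine (lt_inf_normalizer hS.isPGroup (lt_of_le_of_ne inf_le_left k)).not_ge fun g hg =>
      ⟨hg.1, cj_eq_self_iff.1 ?_⟩
    rw [← jj, ← JJ_cj h2.pair h2.mod.inv_AP (hS.le hg.1), cj_eq_self hg.2]
  rw [e1] at JS lw tv jj
  refine ⟨S, t, v, hS, rJ.ge.trans JS, JS tJ, ht, lw, ?_, fun s hs u k => (cl s (tv s hs u k) u k).1,
    le_antisymm (sup_le hE.ge ((closure_le _).2 fun s ⟨c, u, d, e⟩ => (cl s (tv s c u d) u d).1.2 e))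
      ((gen E le_rfl rS.ge).ge.trans (sup_le_sup_left (Subgroup.closure_mono fun s k =>
        And.intro (JS (rJ.ge k.1)) k.2) _))⟩
  have t2 : t * t ∈ E := hE.ge (h2.syl _ (mul_mem ht.mem.1 ht.mem.1) (tv_sq ht.tv)
    (ht.two.to_le (zpowers_le.2 (mul_mem (mem_zpowers t) (mem_zpowers t)))))
  rw [jj, ← (E.subgroupOf J).card_mul_index, Nat.card_congr (subgroupOfEquivOfLe rJ.ge).toEquiv,
    mul_comm, index_eq_two_iff.2 ⟨⟨t, tJ⟩, fun b => ?_⟩]
  obtain ⟨x, hx, e, he, k⟩ := (mem_sup_right_norm (zpowers_le.2 ht.mem.2)).1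
    ((sup_comm _ E).le b.2)
  simp only [mem_subgroupOf, coe_mul, k, mul_assoc, mul_mem_cancel_left hx]
  obtain ⟨i, rfl⟩ := mem_zpowers_iff.1 he
  obtain ⟨i, rfl | rfl⟩ := i.even_or_odd'
  · rw [zpow_mul, zpow_two, mul_mem_cancel_left (zpow_mem t2 i)]
    exact .inr ⟨zpow_mem t2 i, ht.out⟩
  · rw [zpow_add, zpow_mul, zpow_two, zpow_one, mul_assoc, mul_mem_cancel_left (zpow_mem t2 i),
      mul_mem_cancel_left (zpow_mem t2 i)]
    exact .inl ⟨t2, ht.out⟩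

end H37.Cx
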