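import Cfsg.Agent.H20.DGSpec

/-! Tower DG (S3579): job FX. -/

set_option autoImplicit false

namespace H37.DgFX

open Subgroup MulAction Cfsg H98 H20.DG

universe u v

theorem card_eq {G : Type u} [Group G] (A S : Subgroup G) :
    Nat.card A = S.relIndex A * Nat.card ↥(A ⊓ S) := by
  rw [← inf_relIndex_left, ← Nat.card_congr (subgroupOfEquivOfLe (inf_le_left : A ⊓ S ≤ A)).toEquiv,
    relIndex, index_mul_card]

theorem jobFX : JobFX.{u, v} := by
  intro G Ω _ _ _ _ p q P A O hy ca hA ω hω b hb hR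
  obtain ⟨y, hyP, e⟩ := (ca.orb ω hω b).1 hb
  by_cases hyA : y ∈ A
  · exact ⟨y, hyA, e⟩
  exfalso
  have c1 := card_eq A (stabilizer G ω)
  have c2 := card_eq A (stabilizer G b)
  rw [ca.inO ω hω] at c1
  rw [ca.inO b hb] at c2
  have e1 : A ⊓ stabilizer G ω = A ⊓ stabilizer G b := eq_of_le_of_card_ge (le_inf inf_le_left hR)
    (Nat.eq_of_mul_eq_mul_left hy.pp.pos (c2.symm.trans c1)).le
  have hc : ∀ z ∈ P, cj z (A ⊓ stabilizer G ω) = A ⊓ stabilizer G (z • ω) := fun z hz => by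
    rw [cj_inf, cj_eq_self (ca.nor hz), cj_stab]
  have n1 : y ∈ normalizer ((A ⊓ stabilizer G ω : Subgroup G) : Set G) :=
    cj_eq_self_iff.1 (by rw [hc y hyP, e, e1])
  have n2 : A ≤ normalizer ((A ⊓ stabilizer G ω : Subgroup G) : Set G) :=
    le_normalizer_of_le_centralizer fun x hx =>
      mem_centralizer_iff.2 fun r hr => ca.el.1 r hr.1 x hx
  have n3 : P ≤ normalizer ((A ⊓ stabilizer G ω : Subgroup G) : Set G) := by
    have i := relIndex_mul_relIndex A _ P (le_inf ca.le n2) inf_le_left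
    rw [ca.idx] at i
    rcases (Nat.dvd_prime hy.pp).1 (Dvd.intro _ i) with k | k
    · exact absurd (relIndex_eq_one.1 k ⟨hyP, n1⟩) hyA
    · rw [k] at i
      exact (relIndex_eq_one.1 (Nat.eq_of_mul_eq_mul_left hy.pp.pos
        (i.trans (mul_one p).symm))).trans inf_le_right
  have e2 : A ⊓ stabilizer G ω = ⊥ := eq_bot_iff.2 fun r hr => hy.faith r fun a => by
    by_cases ha : a ∈ O
    · obtain ⟨z, hz, rfl⟩ := (ca.orb ω hω a).1 ha
      have := hc z hz
      rw [cj_eq_self (n3 hz)] at this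
      exact (this.le hr).2
    · exact (ca.fix a).2 ha hr.1
  rw [e2, card_bot, mul_one] at c1
  exact hA c1

end H37.DgFX
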