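import Cfsg.Agent.H20.DGSpec

/-! Tower DG (S3579): job J3. -/

set_option autoImplicit false

namespace H37.DgJ3

open Subgroup MulAction Cfsg H98 H20.DG

universe u v

theorem same_orb {G : Type u} {Ω : Type v} [Group G] [Finite G] [Finite Ω] [MulAction G Ω] {p : ℕ}
    (hp : p.Prime) {R B : Subgroup G} {a : Ω} (hR : IsPGroup p R) (hle : R ≤ B)
    (hB : (stabilizer G a).relIndex B = p) (hn : ¬ R ≤ stabilizer G a) {x : G} (hx : x ∈ B) :
    ∃ r ∈ R, r • a = x • a := by
  have : Fact p.Prime := ⟨hp⟩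
  obtain ⟨k, hk⟩ := hR.index ((stabilizer G a).subgroupOf R)
  have h1 : p ≤ (stabilizer G a).relIndex R := by
    rcases k with _ | k
    · exact absurd (relIndex_eq_one.1 hk) hn
    · exact Nat.le_of_dvd (Nat.pos_of_ne_zero index_ne_zero_of_finite)
        (by rw [relIndex, hk]; exact dvd_pow_self p k.succ_ne_zero)
  have e : Ob R a = Ob B a := Set.eq_of_subset_of_ncard_le
    (fun b ⟨g, hg, e⟩ => ⟨g, hle hg, e⟩) (by rw [ncard_Ob, ncard_Ob, hB]; exact h1)
  have : x • a ∈ Ob R a := e ▸ ⟨x, hx, rfl⟩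
  exact this

theorem el_sup {G : Type u} [Group G] {p : ℕ} {A Q : Subgroup G} (hA : El p A) (hQ : El p Q)
    (h : ∀ x ∈ A, ∀ y ∈ Q, x * y = y * x) : El p (A ⊔ Q) := by
  have hn : Q ≤ normalizer (A : Set G) :=
    le_normalizer_of_le_centralizer fun y hy => mem_centralizer_iff.2 fun x hx => h x hx y hy
  have dec : ∀ c ∈ A ⊔ Q, ∃ x ∈ A, ∃ y ∈ Q, x * y = c := fun c hc => by
    have := coe_mul_of_right_le_normalizer_left A Q hn
    have hc' : c ∈ ((A ⊔ Q : Subgroup G) : Set G) := hc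
    rw [this] at hc'
    exact hc'
  constructor
  · intro c hc d hd
    obtain ⟨x, hx, y, hy, rfl⟩ := dec c hc
    obtain ⟨x', hx', y', hy', rfl⟩ := dec d hd
    have c1 : Commute x x' := hA.1 x hx x' hx'
    have c2 : Commute x y' := h x hx y' hy'
    have c3 : Commute y x' := (h x' hx' y hy).symm
    have c4 : Commute y y' := hQ.1 y hy y' hy'
    exact ((c1.mul_right c2).mul_left (c3.mul_right c4)).eq
  · intro c hc
    obtain ⟨x, hx, y, hy, rfl⟩ := dec c hc
    rw [Commute.mul_pow (h x hx y hy), hA.2 x hx, hQ.2 y hy, one_mul]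

theorem jobJ3 : JobJ3.{u, v} := by
  intro fx G Ω _ _ _ _ p q P A O ω g hy ca hA hω hg hR
  have : Fact p.Prime := ⟨hy.pp⟩
  have hQ : El p (cj g A) := ca.el.cj g
  have fQ : ∀ a : Ω, g⁻¹ • a ∉ O → cj g A ≤ stabilizer G a := fun a ha => by
    have := cj_mono g ((ca.fix _).2 ha)
    rwa [cj_stab, smul_inv_smul] at this
  constructor
  · intro x hx y hy' a ha
    by_cases h : A ⊓ stabilizer G ω ≤ stabilizer G a
    · have h1 : x • a = a := (ca.fix a).2
        (fun k => ha (.inl (fx G Ω p q P A O hy ca hA ω hω a k h))) hx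
      have h2 : y • a = a := fQ a (fun k => ha (.inr ⟨h, k⟩)) hy'
      rw [mul_smul, mul_smul, h1, h2, h1]
    · have h1 : a ∈ O := by_contra fun k => h (inf_le_left.trans ((ca.fix a).2 k))
      have h2 : g⁻¹ • a ∈ O := by_contra fun k => h (hR.trans (fQ a k))
      have hp : IsPGroup p ↥(A ⊓ stabilizer G ω) := ca.el.isPGroup.to_le inf_le_left
      have i2 : (stabilizer G a).relIndex (cj g A) = p := by
        have e : stabilizer G a = cj g (stabilizer G (g⁻¹ • a)) := by
          rw [cj_stab, smul_inv_smul]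
        rw [e, ← ca.inO _ h2]
        exact relIndex_map_map_of_injective _ _ (MulAut.conj g).injective
      obtain ⟨r, hr, e1⟩ := same_orb hy.pp hp inf_le_left (ca.inO a h1) h hx
      obtain ⟨s, hs, e2⟩ := same_orb hy.pp hp hR i2 h hy'
      rw [mul_smul, mul_smul, ← e2, ← e1, ← mul_smul x, ca.el.1 x hx s hs.1, mul_smul, ← e1,
        ← mul_smul y, hQ.1 y hy' r (hR hr), mul_smul, ← e2, ← mul_smul, ← mul_smul,
        ca.el.1 s hs.1 r hr.1]
  · by_contra hn
    push Not at hn
    have hS := el_sup ca.el hQ hn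
    obtain ⟨h, -, hh⟩ := ca.syl.exists_cj_le hS.isPGroup le_top
    have c1 : Nat.card P = p * Nat.card A := by
      rw [← ca.idx, ← Nat.card_congr (subgroupOfEquivOfLe ca.le).toEquiv, relIndex, index_mul_card]
    have c2 : Nat.card A ≤ Nat.card ↥(A ⊔ cj g A) := card_le_of_le le_sup_left
    have k := ca.w _ hh (hS.cj h) (by
      rw [card_cj, c1, pow_two, mul_assoc]
      exact Nat.mul_le_mul_left p (c2.trans (Nat.le_mul_of_pos_left _ hy.pp.pos)))
    have c3 : Nat.card ↥(A ⊔ cj g A) ≤ Nat.card (cj g A) := by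
      rw [card_cj, ← card_cj h]
      exact card_le_of_le k
    have e := eq_of_le_of_card_ge (le_sup_right : cj g A ≤ A ⊔ cj g A) c3
    exact (ca.fix ω).1 ((le_sup_left.trans e.ge).trans (fQ ω hg)) hω

end H37.DgJ3
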