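import Cfsg.Agent.H37.E6Ba

/-! Chapter E6 of `blueprints/PS3B.md`, job B: `C(b) ∩ K ≤ Σ Y`. -/

set_option autoImplicit false
set_option linter.unusedSectionVars false
set_option maxRecDepth 100000
set_option synthInstance.maxSize 2048

open Cfsg Subgroup H98 H42.L3 H7.PS H39.F22 H39.E6 H78.F22 H33.E6
open H56.L3 (Ce Nz)
open H28.PS (SL3 Zt)
open H84.PS (V2)
open H4.F22 (pf im pf_eq pf_mul pf_inv pf_pow pf_one pf_conj pf_mem of_im im_sup im_zpowers pf_Ce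
  pf_nr)
open scoped Matrix

namespace H37.E6B

universe u

theorem syl_of {Γ : Type*} [Group Γ] [Finite Γ] {z : Γ} {Q : Subgroup Γ} (ho : orderOf z = 3)
    (hz : z ∈ Q) (h3 : ∀ a ∈ Q, a ^ 3 = 1) (hc : cn Q ≤ zpowers z) : ¬ 3 ∣ (Ce z).index := by
  obtain ⟨T, hT, QT⟩ := exists_isSyl_le (p := 3)
    (isPGroup_iff_forall.2 fun a ha => ⟨1, by rw [pow_one, h3 a ha]⟩) (le_top : Q ≤ ⊤)
  obtain ⟨⟨y, hy⟩, n⟩ := (ne_bot_iff_exists_ne_one).1 (inf_centralizer_ne_bot hT.isPGroup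
    hT.isPGroup le_normalizer fun k => by
      have := QT hz
      rw [k, mem_bot] at this
      rw [this, orderOf_one] at ho
      exact absurd ho (by decide))
  have h1 : T ≤ Ce z := fun a ha => by
    have h2 : a * y = y * a := hy.2 a ha
    rcases mem_cases ho (hc (centralizer_anti QT hy.2)) with k | k | k
    · exact (n (Subtype.ext k)).elim
    · exact mem_Ce.2 (k ▸ h2)
    · exact Ce_symm (inv_mem_iff.1 (mem_Ce.2 (k ▸ h2.symm)))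
  refine fun k => hT.not_dvd_relIndex ?_
  rw [relIndex_top_right]
  exact k.trans (index_dvd_of_le h1)

variable {G Γ : Type*} [Group G] [Finite G] [Group Γ] [Finite Γ] {E : Dat G} {a g k y : G}
  {T : Subgroup G} {p : Ce E.b →* Γ}

variable (e : E0 E)
include e

/-- a subgroup of order `81` of `S0` that is elementary abelian modulo `⟨y⟩` -/
theorem eqI (n : NJ E) (hT : T ≤ E.S0) (y3 : orderOf y = 3) (ny : y ∉ zpowers E.z)
    (h1 : ∀ a ∈ T, ∀ b ∈ T, a * b * a⁻¹ * b⁻¹ ∈ zpowers y) (h2 : ∀ a ∈ T, a ^ 3 ∈ zpowers y)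
    (k : Nat.card T = 81) : T = E.I := by
  have h := e.h3
  have q12 : E.Q 1 ⊔ E.Q 2 ≤ E.D.QQ := sup_le (Qle 1) (Qle 2)
  have t3 : ∀ a ∈ T, a ^ 3 = 1 := fun a ha => by
    obtain ⟨q, hq, j, rfl⟩ := (memS h e.hj).1 (hT ha)
    refine zpow_inf y3 ny (h2 _ ha) (cube_z h (q12 hq) (zp_mem' e.hj.tB j) ?_)
    rw [zp, ← pow_mul, mul_comm, pow_mul, e.hj.t3, one_pow]
  obtain ⟨s, hs, ns⟩ := SetLike.not_le_iff_exists.1 fun l => ab12 e l (fun a ha b hb => by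
    have := zpow_inf y3 ny (h1 b hb a ha) (comQ h (q12 (l hb)) (q12 (l ha)))
    rwa [mul_inv_eq_one, mul_inv_eq_iff_eq_mul] at this) k
  refine eq_of_le_of_card_ge (le_inf (fun y hy => ?_) (hT.trans (S0K e))) ((cardI n).trans k.symm).le
  by_cases l : y ∈ E.Q 1 ⊔ E.Q 2
  · exact (mul_mem_cancel_right (S3J e (hT hs) (t3 s hs) ns)).1 (S3J e (hT (mul_mem hy hs))
      (t3 _ (mul_mem hy hs)) fun l' => ns ((mul_mem_cancel_left l).1 l'))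
  · exact S3J e (hT hy) (t3 y hy) l

variable (c : Cv E.b p)
include c

theorem nz (hg : g ∈ Ce E.b) (n : pf p g ∈ Nz (pf p E.z)) : g ∈ Nz E.z := by
  have h1 := mem_Nz.1 n
  have hz : zpowers E.z ≤ Ce E.b := zpowers_le.2 (zC e)
  rw [← pf_conj hg (zC e), ← im_zpowers (zC e)] at h1
  obtain ⟨u, hu, k⟩ := of_im h1
  obtain ⟨v, hv, k⟩ := c.of_eq (mul_mem (mul_mem hg (zC e)) (inv_mem hg)) (hz hu) k.symm
  rw [mem_Nz, k, zt_b e hu hv (k ▸ Zt_conj g), mul_one]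
  exact hu

theorem ce (hg : g ∈ Ce E.b) (n : pf p g ∈ Ce (pf p E.z)) : g ∈ Ce E.z := by
  obtain ⟨v, hv, k⟩ := c.of_comm (zC e) hg n
  rw [mem_Ce', k, zt_b e (mem_zpowers _) hv (k ▸ Zt_conj g), mul_one]

theorem cer (hg : g ∈ Ce E.b) (n : pf p g ∈ Ce (pf p (E.r 0))) : g ∈ E.K := by
  obtain ⟨v, hv, k⟩ := c.of_comm (rC e) hg n
  have h1 : E.r 0 * v * (E.r 0 * v) = 1 := by
    rw [← k, conj_mul, e.hj.rsq, mul_one, mul_inv_cancel]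
  have h2 : v * v = 1 := by
    rw [← h1, mul_assoc, ← mul_assoc v, ← comm_of_mem (rC e) hv, ← mul_assoc, ← mul_assoc,
      e.hj.rsq, one_mul]
  rw [mem_Ce', k, show v = 1 by rw [← cube_of_mem (ob e) hv, pow_three', h2, one_mul], mul_one]

theorem msec (hk : k ∈ E.D.B ⊓ Ce E.b) : E.D.m 0 (c.sec (pf p k)) = E.D.m 0 k := by
  obtain ⟨v, hv, n⟩ := c.of_eq (c.sec_mem _) hk.2 (c.pf_sec (pf p k))
  rw [n, m_mul e.h3 hk.1 (QB e.h3 (vQ e hv)), mQ e.h3 (vQ e hv), mul_one]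

/-- the action on the first factor -/
noncomputable def pi : im p (E.D.B ⊓ Ce E.b) →* SL3 :=
  MonoidHom.mk' (fun γ => E.D.m 0 (c.sec γ)) fun ⟨_, h1⟩ ⟨_, h2⟩ => by
    obtain ⟨a, ha, rfl⟩ := of_im h1
    obtain ⟨b, hb, rfl⟩ := of_im h2
    show E.D.m 0 (c.sec (pf p a * pf p b)) = E.D.m 0 (c.sec (pf p a)) * E.D.m 0 (c.sec (pf p b))
    rw [← pf_mul ha.2 hb.2, msec e c (mul_mem ha hb), msec e c ha, msec e c hb, m_mul e.h3 ha.1 hb.1]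

theorem pi_eq (hk : k ∈ E.D.B ⊓ Ce E.b) (n : pf p k ∈ im p (E.D.B ⊓ Ce E.b)) :
    pi e c ⟨pf p k, n⟩ = E.D.m 0 k := msec e c hk

theorem imQr : im p (E.D.QQ ⊓ Ce E.b) ⊓ Ce (pf p (E.r 0)) = im p ((E.Q 1 ⊔ E.Q 2) ⊓ Ce E.b) := by
  refine le_antisymm (fun γ hγ => ?_) fun γ hγ => ?_
  · obtain ⟨a, ha, rfl⟩ := of_im hγ.1
    exact pf_mem inf_le_right ⟨(Q12 e.h3 (ty e)).2 ⟨ha.1, cer e c ha.2 hγ.2⟩, ha.2⟩
  · obtain ⟨a, ha, rfl⟩ := of_im hγ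
    have := (Q12 e.h3 (ty e)).1 ha.1
    exact ⟨pf_mem inf_le_right ⟨this.1, ha.2⟩, pf_Ce ha.2 (rC e) this.2⟩

theorem h0 : H47.O8.H0 (pf p E.z) (pf p (E.r 0)) (im p (E.D.QQ ⊓ Ce E.b))
    (im p (E.D.B ⊓ Ce E.b)) (pi e c) := by
  have h := e.h3
  have bb : E.b ∈ Ce E.b := mem_Ce.2 rfl
  have oz : orderOf (pf p E.z) = 3 := orderOf_eq_prime
    (by rw [← pf_pow (zC e), z_cube h.ord, pf_one]) fun n => Zt_ne h (y := E.z) ⟨1, .inl (by simp)⟩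
      (zb e (mem_zpowers _) ((c.one_iff (zC e)).1 n))
  have zq : pf p E.z ∈ im p (E.D.QQ ⊓ Ce E.b) :=
    pf_mem inf_le_right ⟨zQ h (mem_zpowers _), zC e⟩
  have zz : ∀ u ∈ zpowers E.z, pf p u ∈ zpowers (pf p E.z) := fun u hu =>
    im_zpowers (p := p) (zC e) ▸ pf_mem (zpowers_le.2 (zC e)) hu
  have ex : ∀ a ∈ im p (E.D.QQ ⊓ Ce E.b), a ^ 3 = 1 := fun γ hγ => by
    obtain ⟨a, ha, rfl⟩ := of_im hγ
    rw [← pf_pow ha.2, cubeQ h ha.1, pf_one]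
  have cm : ∀ a ∈ Ce E.b, ∀ b ∈ Ce E.b, pf p a * pf p b * (pf p a)⁻¹ * (pf p b)⁻¹ =
      pf p (a * b * a⁻¹ * b⁻¹) := fun a ha b hb => by
    rw [pf_mul (mul_mem (mul_mem ha hb) (inv_mem ha)) (inv_mem hb), pf_conj ha hb, pf_inv hb]
  have cen : cn (im p (E.D.QQ ⊓ Ce E.b)) ≤ zpowers (pf p E.z) := fun γ hγ => by
    obtain ⟨g, hg, rfl⟩ := c.ex γ
    have h1 := pf_mem (p := p) (sup_le (zpowers_le.2 (zC e)) (zpowers_le.2 bb)) (cenb e hg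
      fun a ha => c.of_comm ha.2 hg (mem_Ce.2 (hγ _ (pf_mem inf_le_right ha)).symm))
    rwa [im_sup (zpowers_le.2 (zC e)) (zpowers_le.2 bb), im_zpowers (zC e), im_zpowers bb, c.pf_d,
      zpowers_one_eq_bot, sup_bot_eq] at h1
  have nb : ∀ g ∈ Ce E.b, g ∈ nr (Ce E.b) := fun g hg => le_normalizer hg
  have q12 : E.Q 1 ⊔ E.Q 2 ≤ E.D.QQ := sup_le (Qle 1) (Qle 2)
  refine ⟨oz, zq, ?_, ex, fun γ hγ δ hδ => ?_, cen, fun γ hγ => ?_,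
    map_mono (subgroupOf_mono _ (inf_le_inf_right _ (QB h))), fun γ hγ => ?_, fun γ hγ => ?_,
    fun A => ?_, fun ⟨γ, hγ⟩ => ?_, fun γ hγ ⟨n, hn⟩ => ?_, syl_of oz zq ex cen, ?_,
    ⟨pf_mem inf_le_right ⟨(ty e 0).B, rC e⟩, (pi_eq e c ⟨(ty e 0).B, rC e⟩ _).trans (ty e 0).neg⟩,
    ?_, fun ⟨γ, hγ⟩ n δ hδ => ?_⟩
  · have := c.card_im (X := E.D.QQ ⊓ Ce E.b) inf_le_right ⟨bQ e, bb⟩
    rw [H21.F22.cardU h (bQ e) (bz e), ob e] at this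
    omega
  · obtain ⟨a, ha, rfl⟩ := of_im hγ
    obtain ⟨b, hb, rfl⟩ := of_im hδ
    exact cm a ha.2 b hb.2 ▸ zz _ (comQ h ha.1 hb.1)
  · obtain ⟨g, hg, rfl⟩ := c.ex γ
    exact pf_nr hg inf_le_right (le_normalizer_inf (zpowers_le.2 (NQ h (nz e c hg hγ)))
      (zpowers_le.2 (nb g hg)) (mem_zpowers g))
  · obtain ⟨a, ha, rfl⟩ := of_im hγ
    exact pf_Ce ha.2 (zC e) (Bz ha.1)
  · obtain ⟨g, hg, rfl⟩ := c.ex γ
    have n := nz e c hg hγ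
    refine pf_nr hg inf_le_right (mem_normalizer_fintype fun a ha =>
      mem_inf.2 ⟨?_, mul_mem (mul_mem hg ha.2) (inv_mem hg)⟩)
    have h1 : g * a * g⁻¹ ∈ Ce E.z := mem_Ce.2 (by
      calc _ = g * (a * (g⁻¹ * E.z * g⁻¹⁻¹)) * g⁻¹ := by group
        _ = _ := by rw [comm_of_mem (Bz ha.1) (mem_Nz.1 (inv_mem n))]; group)
    refine B_of h h1 ?_
    rw [sg_mul h (mul_mem n (CeN (Bz ha.1))) (inv_mem n), sg_mul h n (CeN (Bz ha.1)), sg_B h ha.1,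
      sg_inv h n, mul_one, mul_inv_cancel]
  · obtain ⟨n, -, hn⟩ := sl_gen _ A (e.hj.tm 0)
    obtain ⟨q, hq, k⟩ := Ronto e 0 _ hn
    have h1 : q * E.t ^ n ∈ E.D.B ⊓ Ce E.b := mem_inf.2 ⟨mul_mem (RB e hq) (pow_mem e.hj.tB n),
      mul_mem (cnC e (Rc e hq (by decide)) (Rc e hq (by decide))) (pow_mem (tC e) n)⟩
    refine ⟨⟨_, pf_mem inf_le_right h1⟩, (pi_eq e c h1 _).trans ?_⟩
    rw [m_mul h (RB e hq) (pow_mem e.hj.tB n), m_pow h e.hj.tB, k, inv_mul_cancel_right]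
  · obtain ⟨a, ha, rfl⟩ := of_im hγ
    rw [pi_eq e c ha]
    exact ⟨fun n => pf_mem inf_le_right ⟨kerQ e ha.1 ha.2 n, ha.2⟩,
      fun n => mQ h (c.mem_im inf_le_right ⟨bQ e, bb⟩ ha.2 n).1 0⟩
  · obtain ⟨g, hg, rfl⟩ := c.ex γ
    have hz := ce e c hg hγ
    rw [← pf_pow hg, c.one_iff (pow_mem hg _)] at hn
    have h1 := sg_B h (QB h (vQ e hn))
    rw [sg_pow h (CeN hz)] at h1
    have h2 := (s3_fix _ (sg0 e (CeN hz) hg)).1
    refine pf_mem inf_le_right ⟨B_of h hz ?_, hg⟩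
    exact orderOf_eq_one_iff.1 (Nat.eq_one_of_dvd_coprimes
      ((by decide : Nat.Coprime 2 3).pow_right n) (orderOf_dvd_of_pow_eq_one (by rw [pow_two, h2]))
      (orderOf_dvd_of_pow_eq_one h1))
  · rw [← pf_mul (rC e) (rC e), e.hj.rsq, pf_one]
  · have h1 := c.card_im (X := (E.Q 1 ⊔ E.Q 2) ⊓ Ce E.b) inf_le_right
      ⟨mul_mem (mem_sup_left (e.hj.cQ 1)) (mem_sup_right (e.hj.cQ 2)), bb⟩
    obtain ⟨n, -, h2, h3⟩ := H21.F22.idx3 h q12 (bQ e)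
    have h4 := H12.card_sup_mul_card_inf ((h.QQ 1 2 (by decide)).trans (centralizer_le_normalizer _))
    rw [le_antisymm (fun _ e => infQ h (by decide) e.1 e.2) (le_inf (co h 1).zle (co h 2).zle :
      zpowers E.D.z ≤ E.D.Q 1 ⊓ E.D.Q 2), Nat.card_zpowers, h.ord, (co h 1).card,
      (co h 2).card] at h4
    change Nat.card ↥(E.Q 1 ⊔ E.Q 2) * _ = _ at h4
    rw [h2 fun l => b1 e fun a ha => mem_Ce.1 (l (mem_sup_left ha)), h1, ob e] at h3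
    rw [imQr e c]
    omega
  · obtain ⟨a, ha, rfl⟩ := of_im hγ
    rw [imQr e c] at hδ
    obtain ⟨b, hb, rfl⟩ := of_im hδ
    rw [pi_eq e c ha] at n
    have h1 := m12 e ha.1 ha.2 n
    have h2 := conj_mem_of_mem_normalizer (HQ h (Bz ha.1)) (q12 hb.1)
    refine cm a ha.2 b hb.2 ▸ zz _ (cnQ h fun i => L_zero h (mul_mem h2 (inv_mem (q12 hb.1))) ?_)
    rw [L_mul h h2 (inv_mem (q12 hb.1)), L_inv h (q12 hb.1), L_conj h ha.1 (q12 hb.1)]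
    rcases f3 i with rfl | rfl | rfl
    · rw [L_cn h (sup_le (h.QQ 1 0 (by decide)) (h.QQ 2 0 (by decide)) hb.1)]; simp
    · rw [h1.1]; simp
    · rw [h1.2]; simp

omit e c in
theorem jobB : JobB.{u} := fun o8 G _ _ E e n rf sf g hg => by
  have h := e.h3
  obtain ⟨N, _, c⟩ := exists_cv E.b
  generalize QuotientGroup.mk' N = p at c
  have bb : E.b ∈ Ce E.b := mem_Ce.2 rfl
  obtain ⟨x, hx, k⟩ := n.bz
  have xQ : x * E.z * x⁻¹ ∈ E.D.QQ := k ▸ mul_mem (mul_mem (mul_mem (zQ h (mem_zpowers _))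
    (cQQ e 0)) (cQQ e 1)) (inv_mem (cQQ e 2))
  have xC := mul_mem (mul_mem hx (zC e)) (inv_mem hx)
  obtain ⟨D, Sg, h1, h2, h3, h4, h5, h6, h7, h8⟩ := o8 _ _ _ (pf p x) _ _ _ (h0 e c)
    (pf_conj (p := p) hx (zC e) ▸ pf_mem inf_le_right ⟨xQ, xC⟩) fun l => by
      have := L_cn h (z_cn h (mem_Nz.1 (nz e c hx (mem_Nz.2 l))) 0)
      rw [k, L_mul h (mul_mem (mul_mem (zQ h (mem_zpowers _)) (cQQ e 0)) (cQQ e 1))
        (inv_mem (cQQ e 2)), L_mul h (mul_mem (zQ h (mem_zpowers _)) (cQQ e 0)) (cQQ e 1),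
        L_mul h (zQ h (mem_zpowers _)) (cQQ e 0), L_inv h (cQQ e 2), L_Q h (e.hj.cQ 0),
        Lc e (by decide), Lc e (by decide), L_cn h (z_cn h (mem_zpowers _) 0)] at this
      exact lc e 0 (by simpa using this)
  have DK : pre p D ≤ E.K ⊓ Ce E.z := fun a ha =>
    ⟨cer e c (pre_le ha) (h1 (mem_pre.1 ha).2).1, ce e c (pre_le ha) (h1 (mem_pre.1 ha).2).2⟩
  have cD : Nat.card (pre p D) = 81 := by
    rw [c.card_im pre_le c.d_pre, c.im_pre, ob e, h4]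
  obtain ⟨k, hk, kD⟩ := ((syl h e.hv e.hj).of_le (K := E.K ⊓ Ce E.z) (le_inf (S0K e) (sup_le
    ((sup_le (Qle 1) (Qle 2)).trans fun _ l => Bz (QB h l)) (zpowers_le.2 (Bz e.hj.tB))))
    inf_le_left).exists_cj_le (IsPGroup.of_card (n := 4) cD) DK
  have kI : cj k (pre p D) = E.I := by
    refine eqI e (y := k * E.b * k⁻¹) n kD ((orderOf_injective (MulAut.conj k).toMonoidHom
      (MulAut.conj k).injective _).trans (ob e)) (fun l => bz e ?_) ?_ ?_ (by rw [card_cj, cD])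
    · rwa [← cj_eq_self (CeN hk.2), conj_mem_cj_iff] at l
    · rintro _ ⟨a, ha, rfl⟩ _ ⟨b, hb, rfl⟩
      rw [← cj_zp, ← map_inv, ← map_inv, ← map_mul, ← map_mul, ← map_mul]
      obtain ⟨v, hv, l⟩ := c.of_comm (pre_le hb) (pre_le ha)
        (mem_Ce.2 (h2 (mem_pre.1 hb).2 _ (mem_pre.1 ha).2))
      exact mem_map_of_mem _ (by rwa [l, comm_of_mem (pre_le hb) hv, mul_inv_cancel_right])
    · rintro _ ⟨a, ha, rfl⟩
      rw [← cj_zp, ← map_pow]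
      exact mem_map_of_mem _ ((c.one_iff (pow_mem (pre_le ha) 3)).1 (by
        rw [pf_pow (pre_le ha), h3 _ (mem_pre.1 ha).2]))
  haveI : Fact (Nat.Prime 2) := ⟨Nat.prime_two⟩
  obtain ⟨S, hS⟩ := exists_isSyl 2 (pre p Sg)
  have SC : S ≤ Ce E.b := hS.le.trans pre_le
  have iS : im p S = Sg := by
    have := ((hS.subgroupOf pre_le).map p).eq_of_isPGroup (c.im_pre (Y := Sg) ▸ h6 :)
    exact this.trans c.im_pre
  have nS : pre p Sg ≤ nr S := fun a ha => by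
    obtain ⟨s, hs, l⟩ := of_im (iS ▸ (mem_pre.1 ha).2 : pf p a ∈ im p S)
    obtain ⟨v, hv, rfl⟩ := c.of_eq (pre_le ha) (SC hs) l.symm
    exact mul_mem (le_normalizer hs) (centralizer_le_normalizer _ fun y hy =>
      comm_of_mem (SC hy) hv)
  have DS : pre p D ≤ nr S := fun a ha => by
    have l := hS.cj_of_mem_normalizer (nr_pre (pre_le ha) (h7 (mem_pre.1 ha).2))
    exact cj_eq_self_iff.1 (l.eq_of_le hS.isPGroup
      (hS.le_of_le_normalizer' l.isPGroup l.le (l.le.trans nS)) hS.le).symm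
  have SK : S ≤ E.K := fun a ha => cer e c (SC ha) (h5 (mem_pre.1 (hS.le ha)).2)
  have IS : E.I ≤ nr (cj k S) := kI ▸ (cj_mono k DS).trans (cj_normalizer k S).le
  have cI : ∀ j, j ≠ 0 → E.c j ∈ E.I := fun j l =>
    ⟨cJ' e j, mem_Ce.2 (e.hj.rc 0 j l _ (e.hj.cQ j))⟩
  have SS : cj k S ≤ E.Sg := sf.U0 _ ⟨cj_le_of_le_of_mem SK hk.1, by
    obtain ⟨m, hm⟩ := hS.isPGroup.exists_card_eq
    rw [card_cj, hm]
    exact (by decide : Nat.Coprime 2 3).pow_left m,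
    IS ⟨zJ' e, Ce_symm (Bz (ty e 0).B)⟩, IS (cI 1 (by decide))⟩ (IS (cI 2 (by decide)))
  have kH : k ∈ E.Sg ⊔ E.Y := by
    obtain ⟨q, hq, l⟩ := rf.cz k ⟨CeN hk.2, hk.1⟩
    have l' : q ∈ E.Sg := Subgroup.subset_closure ⟨1, one_mem _, by rwa [cj_one]⟩
    exact (mul_mem_cancel_left (inv_mem (mem_sup_left l'))).1 (mem_sup_right l)
  obtain ⟨σ, hσ, l⟩ := h8 (pf p g) (pf_Ce hg.1 (rC e) hg.2)
  obtain ⟨s, hs, rfl⟩ := of_im (iS ▸ hσ : σ ∈ im p S)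
  rw [← pf_inv (SC hs), ← pf_mul (inv_mem (SC hs)) hg.1] at l
  have l1 : k * (s⁻¹ * g) * k⁻¹ ∈ nr E.I := kI ▸ (cj_normalizer k _).le
    (conj_mem_cj (nr_pre (mul_mem (inv_mem (SC hs)) hg.1) l))
  have l2 : k * (s⁻¹ * g) * k⁻¹ ∈ E.Sg ⊔ E.Y := (rf.nIY _ (mem_inf.2 ⟨mul_mem (mul_mem hk.1
    (mul_mem (inv_mem (SK hs)) hg.2)) (inv_mem hk.1), l1⟩)).elim mem_sup_right fun l =>
      (mul_mem_cancel_right (mem_sup_left sf.rm)).1 (mem_sup_right l)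
  have l3 : g = k⁻¹ * (k * s * k⁻¹ * (k * (s⁻¹ * g) * k⁻¹)) * k := by group
  exact l3 ▸ mul_mem (mul_mem (inv_mem kH) (mul_mem (mem_sup_left (SS (conj_mem_cj hs))) l2)) kH

end H37.E6B
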