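import Cfsg.Agent.H33.E6N1
import Cfsg.Agent.H21.F22V
import Cfsg.Agent.H4.F22L

/-! Chapter E6 of `blueprints/PS3B.md`, job B: the quotient `C(b) / ⟨b⟩`. -/

set_option autoImplicit false
set_option linter.unusedSectionVars false
set_option maxRecDepth 100000
set_option synthInstance.maxSize 2048

open Cfsg Subgroup H98 H42.L3 H7.PS H39.F22 H39.E6 H78.F22 H33.E6
open H56.L3 (Ce Nz)
open H28.PS (SL3 Zt)
open H84.PS (V2)
open H4.F22 (pf im pf_eq pf_mul pf_inv pf_pow pf_one pf_conj pf_mem of_im im_sup im_zpowers pf_Ce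
  pf_nr)
open scoped Matrix

namespace H37.E6B

section Quot

variable {G Γ : Type*} [Group G] [Group Γ] {d a b c : G} {p : Ce d →* Γ} {X : Subgroup G}
  {Y : Subgroup Γ}

/-- `p` is the quotient map of `C(d)` by `⟨d⟩` -/
structure Cv (d : G) (p : Ce d →* Γ) : Prop where
  surj : Function.Surjective p
  ker : ∀ g, p g = 1 ↔ (g : G) ∈ zpowers d

theorem exists_cv (d : G) : ∃ (N : Subgroup (Ce d)) (_ : N.Normal), Cv d (QuotientGroup.mk' N) :=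
  haveI : ((zpowers d).subgroupOf (Ce d)).Normal :=
    (normal_subgroupOf_iff (zpowers_le.2 (mem_Ce.2 rfl))).2
      fun u g hu hg => by rwa [comm_of_mem hg hu, mul_inv_cancel_right]
  ⟨(zpowers d).subgroupOf (Ce d), this, QuotientGroup.mk'_surjective _,
    fun g => QuotientGroup.eq_one_iff g⟩

/-- the preimage of a subgroup -/
def pre (p : Ce d →* Γ) (Y : Subgroup Γ) : Subgroup G := (Y.comap p).map (Ce d).subtype

theorem mem_pre : a ∈ pre p Y ↔ a ∈ Ce d ∧ pf p a ∈ Y := by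
  refine ⟨?_, fun ⟨h, e⟩ => ⟨⟨a, h⟩, ?_, rfl⟩⟩
  · rintro ⟨x, hx, rfl⟩
    exact ⟨x.2, (pf_eq (p := p) x.2).symm ▸ (hx : p x ∈ Y)⟩
  · exact (pf_eq (p := p) h ▸ e : p ⟨a, h⟩ ∈ Y)

theorem pre_le : pre p Y ≤ Ce d := fun _ h => (mem_pre.1 h).1

theorem nr_pre [Finite G] (hc : c ∈ Ce d) (e : pf p c ∈ nr Y) : c ∈ nr (pre p Y) :=
  mem_normalizer_fintype fun x hx => mem_pre.2 ⟨mul_mem (mul_mem hc (pre_le hx)) (inv_mem hc),
    pf_conj (p := p) hc (pre_le hx) ▸ conj_mem_of_mem_normalizer e (mem_pre.1 hx).2⟩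

namespace Cv

variable (h : Cv d p)
include h

/-- a lift -/
noncomputable def sec (γ : Γ) : G := (h.surj γ).choose

theorem sec_mem (γ : Γ) : h.sec γ ∈ Ce d := (h.surj γ).choose.2

theorem pf_sec (γ : Γ) : pf p (h.sec γ) = γ := (pf_eq _).trans (h.surj γ).choose_spec

theorem ex (γ : Γ) : ∃ c ∈ Ce d, pf p c = γ := ⟨_, h.sec_mem γ, h.pf_sec γ⟩

theorem one_iff (ha : a ∈ Ce d) : pf p a = 1 ↔ a ∈ zpowers d := by rw [pf_eq ha, h.ker]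

theorem pf_d : pf p d = 1 := (h.one_iff (mem_Ce.2 rfl)).2 (mem_zpowers d)

theorem of_eq (ha : a ∈ Ce d) (hb : b ∈ Ce d) (e : pf p a = pf p b) : ∃ v ∈ zpowers d, a = b * v :=
  ⟨b⁻¹ * a, (h.one_iff (mul_mem (inv_mem hb) ha)).1 (by
    rw [pf_mul (inv_mem hb) ha, pf_inv hb, e, inv_mul_cancel]), by group⟩

theorem of_comm (ha : a ∈ Ce d) (hc : c ∈ Ce d) (e : pf p c ∈ Ce (pf p a)) :
    ∃ v ∈ zpowers d, c * a * c⁻¹ = a * v :=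
  h.of_eq (mul_mem (mul_mem hc ha) (inv_mem hc)) ha (by rw [pf_conj hc ha, mem_Ce'.1 e])

theorem mem_im (hX : X ≤ Ce d) (hd : d ∈ X) (ha : a ∈ Ce d) (e : pf p a ∈ im p X) : a ∈ X := by
  obtain ⟨x, hx, k⟩ := of_im e
  obtain ⟨v, hv, rfl⟩ := h.of_eq ha (hX hx) k.symm
  exact mul_mem hx (zpowers_le.2 hd hv)

theorem d_pre : d ∈ pre p Y := mem_pre.2 ⟨mem_Ce.2 rfl, h.pf_d ▸ one_mem _⟩

theorem im_pre : im p (pre p Y) = Y := le_antisymm (fun γ hγ => by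
    obtain ⟨x, hx, rfl⟩ := of_im hγ
    exact (mem_pre.1 hx).2) fun γ hγ => by
  obtain ⟨x, hx, rfl⟩ := h.ex γ
  exact pf_mem pre_le (mem_pre.2 ⟨hx, hγ⟩)

theorem card_im (hX : X ≤ Ce d) (hd : d ∈ X) : Nat.card X = orderOf d * Nat.card (im p X) := by
  have h1 : p.ker = (zpowers d).subgroupOf (Ce d) := Subgroup.ext h.ker
  rw [← relIndex_ker, h1, relIndex_subgroupOf hX, relIndex, ← Nat.card_zpowers,
    ← Nat.card_congr (subgroupOfEquivOfLe (zpowers_le.2 hd)).toEquiv, card_mul_index]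

end Cv

end Quot

theorem Ce_le_Nz {G : Type*} [Group G] [Finite G] {x : G} : Ce x ≤ Nz x := fun _ h =>
  mem_Nz.2 (by rw [mem_Ce'.1 h]; exact mem_zpowers x)

theorem sl_sum : ∀ M : SL3, M ^ 3 = 1 → ∀ v : V2, v + M.1 *ᵥ v + (M * M).1 *ᵥ v = 0 := by
  decide +kernel

theorem sl_gen : ∀ T A : SL3, T ^ 4 ≠ 1 → ∃ n < 3, (A * (T ^ n)⁻¹) ^ 4 = 1 := by decide +kernel

theorem s3_fix : ∀ σ : Equiv.Perm (Fin 3), σ 0 = 0 → σ * σ = 1 ∧ (σ 1 = 1 → σ = 1) ∧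
    (σ 1 = 1 ∨ σ 1 = 2 ∧ σ 2 = 1) := by decide +kernel

variable {G : Type*} [Group G] [Finite G] {E : Dat G} {a g k q s u v y : G} {T : Subgroup G}

theorem cube_z {D : D3 G} (h : H3 D) (hq : q ∈ D.QQ) (hs : s ∈ D.B) (s3 : s ^ 3 = 1) :
    (q * s) ^ 3 ∈ zpowers D.z := by
  have n := HQ h (Bz hs)
  have h1 := conj_mem_of_mem_normalizer n hq
  have h2 := conj_mem_of_mem_normalizer (mul_mem n n) hq
  have e : (q * s) ^ 3 = q * (s * q * s⁻¹) * (s * s * q * (s * s)⁻¹) := by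
    calc _ = q * (s * q * s⁻¹) * (s * s * q * (s * s)⁻¹) * s ^ 3 := by
            simp only [pow_three']; group
      _ = _ := by rw [s3, mul_one]
  rw [e]
  refine cnQ h fun i => L_zero h (mul_mem (mul_mem hq h1) h2) ?_
  rw [L_mul h (mul_mem hq h1) h2, L_mul h hq h1, L_conj h hs hq, L_conj h (mul_mem hs hs) hq,
    m_mul h hs hs]
  exact sl_sum _ (m3 h hs s3 i) _

variable (e : E0 E)
include e

theorem cQQ (i : Fin 3) : E.c i ∈ E.D.QQ := Qle i (e.hj.cQ i)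

theorem bQ : E.b ∈ E.D.QQ := mul_mem (cQQ e 1) (cQQ e 2)

theorem lc (i : Fin 3) : E.D.l i (E.c i) ≠ 0 := H84.PS.lne (co e.h3 i) (e.hj.cQ i) (e.hj.cz i)

theorem Lc {i j : Fin 3} (n : i ≠ j) : L E.D i (E.c j) = 0 :=
  L_cn e.h3 (e.h3.QQ j i n.symm (e.hj.cQ j))

theorem Lb0 : L E.D 0 E.b = 0 := by
  rw [L_mul e.h3 (cQQ e 1) (cQQ e 2), Lc e (by decide), Lc e (by decide), add_zero]

theorem Lb1 : L E.D 1 E.b = E.D.l 1 (E.c 1) := by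
  rw [L_mul e.h3 (cQQ e 1) (cQQ e 2), L_Q e.h3 (e.hj.cQ 1), Lc e (by decide), add_zero]

theorem Lb2 : L E.D 2 E.b = E.D.l 2 (E.c 2) := by
  rw [L_mul e.h3 (cQQ e 1) (cQQ e 2), L_Q e.h3 (e.hj.cQ 2), Lc e (by decide), zero_add]

theorem b0 : E.b ∈ cn (E.Q 0) := L_zero e.h3 (bQ e) (Lb0 e)

theorem b1 : E.b ∉ cn (E.Q 1) := fun n => lc e 1 ((Lb1 e).symm.trans (L_cn e.h3 n))

theorem b2 : E.b ∉ cn (E.Q 2) := fun n => lc e 2 ((Lb2 e).symm.trans (L_cn e.h3 n))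

theorem bz : E.b ∉ zpowers E.z := fun n => b1 e (z_cn e.h3 n 1)

theorem ob : orderOf E.b = 3 :=
  orderOf_eq_prime (cubeQ e.h3 (bQ e)) fun n => bz e (n ▸ one_mem _)

theorem zb (hu : u ∈ zpowers E.z) (hv : u ∈ zpowers E.b) : u = 1 := zpow_inf (ob e) (bz e) hv hu

theorem zC : E.z ∈ Ce E.b := Ce_symm (Bz (QB e.h3 (bQ e)))

theorem cC (i : Fin 3) : E.c i ∈ Ce E.b :=
  Ce_symm (mul_mem ((jfr e.h3 e.hj).cc e.h3 1 i) ((jfr e.h3 e.hj).cc e.h3 2 i))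

theorem tC : E.t ∈ Ce E.b :=
  Ce_symm (mul_mem (mem_Ce.2 (e.hj.tc 1).symm) (mem_Ce.2 (e.hj.tc 2).symm))

theorem cnC (h1 : a ∈ cn (E.Q 1)) (h2 : a ∈ cn (E.Q 2)) : a ∈ Ce E.b :=
  Ce_symm (mul_mem (mem_Ce.2 (h1 _ (e.hj.cQ 1))) (mem_Ce.2 (h2 _ (e.hj.cQ 2))))

theorem rC : E.r 0 ∈ Ce E.b := cnC e (e.hj.rc 0 1 (by decide)) (e.hj.rc 0 2 (by decide))

theorem Q0C : E.Q 0 ≤ Ce E.b := fun x hx => mem_Ce.2 (b0 e x hx)

/-- the only elements of type `Z` in `⟨z, b⟩` lie in `⟨z⟩` -/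
theorem zt_b (hu : u ∈ zpowers E.z) (hv : v ∈ zpowers E.b) (n : Zt E.z (u * v)) : v = 1 := by
  obtain ⟨i, rfl⟩ := exists_zp e.h3.ord hu
  obtain ⟨j, rfl⟩ := exists_zp (ob e) hv
  have h1 : zp E.z i * zp E.b j = el E.z E.t E.c 0 i ![0, j, j] := by
    rw [el_eq, zp_zero, one_mul, cc]
    simp only [Matrix.cons_val_zero, Matrix.cons_val_one, Matrix.cons_val, zp_zero, one_mul]
    exact congrArg _ (Commute.mul_pow (mem_Ce.1 ((jfr e.h3 e.hj).cc e.h3 1 2)) _)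
  have h2 := ((e.hj.zset _ _ _).1 (h1 ▸ n)).2
  simp only [Matrix.cons_val_zero, Matrix.cons_val_one, Matrix.cons_val] at h2
  rw [(by decide : ∀ i j : ZMod 3, 0 * 0 + j * j + j * j + 1 * 0 * i = 0 → j = 0) i j h2, zp_zero]

theorem sg0 (hg : g ∈ Nz E.z) (hb : g ∈ Ce E.b) : sg E.D g 0 = 0 := by
  have := sg_cn e.h3 hg (b0 e)
  rw [mem_Ce'.1 hb] at this
  rcases f3 (sg E.D g 0) with k | k | k
  · exact k
  · exact (b1 e (k ▸ this)).elim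
  · exact (b2 e (k ▸ this)).elim

theorem m12 (hg : g ∈ E.D.B) (hb : g ∈ Ce E.b) (k : E.D.m 0 g ^ 4 = 1) :
    E.D.m 1 g = 1 ∧ E.D.m 2 g = 1 := by
  have hP : E.D.P g := by_contra fun n => ((hw_of0 e.h3 e.hv).bs g hg n).1 0 k
  have h1 := fun i => L_conj e.h3 hg (bQ e) i
  rw [mem_Ce'.1 hb] at h1
  exact ⟨(sl_q8 _ (hP.2 1)).2 _ (lc e 1) (Lb1 e ▸ (h1 1).symm),
    (sl_q8 _ (hP.2 2)).2 _ (lc e 2) (Lb2 e ▸ (h1 2).symm)⟩

theorem kerQ (hg : g ∈ E.D.B) (hb : g ∈ Ce E.b) (k : E.D.m 0 g = 1) : g ∈ E.D.QQ :=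
  have h1 := m12 e hg hb (by rw [k, one_pow])
  e.h3.ker g hg fun i => by
    rcases f3 i with rfl | rfl | rfl
    exacts [k, h1.1, h1.2]

theorem Lv (hv : v ∈ zpowers E.b) : ∃ j : ZMod 3, v = zp E.b j ∧ L E.D 0 v = 0 ∧
    L E.D 1 v = j • E.D.l 1 (E.c 1) ∧ L E.D 2 v = j • E.D.l 2 (E.c 2) := by
  obtain ⟨j, rfl⟩ := exists_zp (ob e) hv
  exact ⟨j, rfl, by rw [L_zp e.h3 (bQ e), Lb0 e, smul_zero], by rw [L_zp e.h3 (bQ e), Lb1 e],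
    by rw [L_zp e.h3 (bQ e), Lb2 e]⟩

theorem vQ (hv : v ∈ zpowers E.b) : v ∈ E.D.QQ := zpowers_le.2 (bQ e) hv

/-- an element that centralizes `C_Q(b)` modulo `⟨b⟩` -/
theorem cenb (hb : g ∈ Ce E.b)
    (n : ∀ a ∈ E.D.QQ ⊓ Ce E.b, ∃ v ∈ zpowers E.b, g * a * g⁻¹ = a * v) :
    g ∈ zpowers E.z ⊔ zpowers E.b := by
  have h := e.h3
  have sm : ∀ (j : ZMod 3) (w : V2), w ≠ 0 → (j • w = 0 → j = 0) ∧ (w + j • w = 0 → j = -1) := by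
    decide
  have hz : g ∈ Ce E.z := by
    obtain ⟨v, hv, k⟩ := n _ ⟨zQ h (mem_zpowers _), zC e⟩
    rw [zt_b e (mem_zpowers _) hv (k ▸ Zt_conj g), mul_one] at k
    exact mem_Ce'.2 k
  have s0 := s3_fix _ (sg0 e (CeN hz) hb)
  have sp : ∀ i j, sg E.D g i = j → ∀ a ∈ E.Q i, g * a * g⁻¹ ∈ E.Q j := fun i j k a ha =>
    (k ▸ sg_spec h (CeN hz) i).le (conj_mem_cj ha)
  have hB : g ∈ E.D.B := by
    refine B_of h hz (s0.2.1 (s0.2.2.resolve_right fun k => ?_))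
    obtain ⟨v, hv, k1⟩ := n _ ⟨cQQ e 1, cC e 1⟩
    obtain ⟨j, -, -, l1, l2⟩ := Lv e hv
    have h1 := L_cn h (h.QQ 2 1 (by decide) (sp 1 2 k.1 _ (e.hj.cQ 1)))
    have h2 := L_cn h (h.QQ 1 2 (by decide) (sp 2 1 k.2 _ (e.hj.cQ 2)))
    rw [k1, L_mul h (cQQ e 1) (vQ e hv), L_Q h (e.hj.cQ 1), l1] at h1
    have h3 : g * E.c 2 * g⁻¹ = v⁻¹ * (E.c 1)⁻¹ * E.b := by
      rw [← mul_inv_rev, ← k1, ← mem_Ce'.1 hb]; group
    rw [h3, L_mul h (mul_mem (inv_mem (vQ e hv)) (inv_mem (cQQ e 1))) (bQ e),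
      L_mul h (inv_mem (vQ e hv)) (inv_mem (cQQ e 1)), L_inv h (vQ e hv), L_inv h (cQQ e 1),
      Lb2 e, l2, Lc e (by decide), (sm _ _ (lc e 1)).2 h1] at h2
    exact (by decide : ∀ w : V2, w ≠ 0 → -((-1 : ZMod 3) • w) + -0 + w ≠ 0) _ (lc e 2) h2
  have hQ : g ∈ E.D.QQ := kerQ e hB hb ((co h 0).m_cn fun a ha => by
    obtain ⟨v, hv, k⟩ := n a ⟨Qle 0 ha, Q0C e ha⟩
    obtain ⟨j, rfl, -, l1, -⟩ := Lv e hv
    have h1 := (mul_mem_cancel_left ha).1 (k ▸ (co h 0).conj_mem (BN hB 0) ha)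
    rw [(sm _ _ (lc e 1)).1 (l1.symm.trans (L_cn h (h.QQ 0 1 (by decide) h1))), zp_zero,
      mul_one] at k
    exact (mul_inv_eq_iff_eq_mul.1 k).symm)
  have hc : g ∈ cn (E.D.QQ ⊓ Ce E.b) := fun a ha => by
    obtain ⟨v, hv, k⟩ := n a ha
    have h1 := comQ h hQ ha.1
    rw [k, comm_of_mem ha.2 hv, mul_inv_cancel_right] at h1
    rw [zb e h1 hv, mul_one] at k
    exact (mul_inv_eq_iff_eq_mul.1 k).symm
  have h1 := H21.F22.iso h (X := E.D.QQ ⊓ Ce E.b) inf_le_left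
  have h2 := H12.card_sup_mul_card_inf (zpowers_le.2 (Ce_le_Nz (zC e)) :
    zpowers E.z ≤ nr (zpowers E.b))
  rw [H21.F22.cardU h (bQ e) (bz e)] at h1
  rw [(eq_bot_iff.2 fun _ k => zb e k.1 k.2 : zpowers E.z ⊓ zpowers E.b = ⊥), card_bot,
    Nat.card_zpowers, Nat.card_zpowers, h.ord, ob e] at h2
  have h3 : zpowers E.z ⊔ zpowers E.b ≤ E.D.QQ ⊓ cn (E.D.QQ ⊓ Ce E.b) := sup_le
    (zpowers_le.2 ⟨zQ h (mem_zpowers _), fun a ha => mem_Ce.1 (Bz (QB h ha.1))⟩)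
    (zpowers_le.2 ⟨bQ e, fun a ha => mem_Ce.1 ha.2⟩)
  exact (eq_of_le_of_card_ge h3 (by omega)).ge ⟨hQ, hc⟩

end H37.E6B
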