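import Cfsg.Agent.H44.DP0EPSpec
import Cfsg.Agent.S3224

/-! S3275, chapter EP: jobs E5 and E8. -/

set_option autoImplicit false

namespace H37.EpE58

open Subgroup Cfsg H98 H48.DP H44.EP

universe u

theorem card_le_four {S : Type*} [Group S] [Finite S] {x : S} (h : Nat.card S = 2 * orderOf x)
    (A : Subgroup S) (hA : ∀ a ∈ A, a ^ 2 = 1) : Nat.card A ≤ 4 := by
  have h1 : (zpowers x).index = 2 := Nat.eq_of_mul_eq_mul_right (orderOf_pos x)
    (by rw [← h, ← Nat.card_zpowers, index_mul_card])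
  have := normal_of_index_eq_two h1
  have h2 := Nat.le_of_dvd two_pos (h1 ▸ relIndex_dvd_index_of_normal (zpowers x) A)
  have := isCyclic_of_le (inf_le_left : zpowers x ⊓ A ≤ zpowers x)
  have h3 : Nat.card (zpowers x ⊓ A : Subgroup S) ≤ 2 := Nat.le_of_dvd two_pos
    (IsCyclic.exponent_eq_card (α := (zpowers x ⊓ A : Subgroup S)) ▸
      Monoid.exponent_dvd_of_forall_pow_eq_one fun g => Subtype.ext (hA g g.2.2))
  rw [← card_mul_index ((zpowers x).subgroupOf A), ← inf_subgroupOf_right,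
    Nat.card_congr (subgroupOfEquivOfLe inf_le_right).toEquiv, inf_subgroupOf_right]
  exact Nat.mul_le_mul h3 h2

theorem rank_of_cen {G : Type u} [Group G] [Finite G] {S : Subgroup G} (hS : IsSyl 2 S ⊤) {w : S}
    (hw : orderOf w = 2) (h4 : Nat.card (centralizer ({w} : Set S)) = 4) : PRankLE 2 2 G :=
  fun A _ a2 => by
  obtain ⟨g, -, h5⟩ := hS.exists_cj_le (Q := A) (fun a => ⟨1, Subtype.ext (a2 a a.2)⟩) le_top
  rw [← card_cj g A, ← Nat.card_congr (subgroupOfEquivOfLe h5).toEquiv]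
  have hA : ∀ a ∈ (cj g A).subgroupOf S, a ^ 2 = 1 := fun a ha => Subtype.ext (by
    obtain ⟨b, hb, e⟩ := ha
    rw [coe_pow, show (a : G) = g * b * g⁻¹ from e.symm, conj_pow, a2 b hb]; simp)
  rcases Cfsg.Agent.S3224.result hS.isPGroup w hw h4 with ⟨n, ⟨e⟩⟩ | ⟨n, -, h6, x, -, h7, -⟩ | e
  · exact card_le_four (x := e.symm (.r 1)) (by
      rw [e.symm.orderOf_eq, DihedralGroup.orderOf_r_one, Nat.card_congr e.toEquiv,
        DihedralGroup.nat_card]) _ hA
  · exact card_le_four (x := x) (by rw [h6, h7, pow_succ']) _ hA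
  · exact (card_le_card_group _).trans e.le

theorem jobE8 : H44.EP.E8.{u} := by
  intro G _ _ T v hT hv ov h4
  refine rank_of_cen hT (w := ⟨v, hv⟩) (by rw [← orderOf_coe]; exact ov) ?_
  have e : centralizer ({⟨v, hv⟩} : Set T) = (T ⊓ C1 v).subgroupOf T := by
    ext c
    rw [inf_subgroupOf_left, mem_subgroupOf, mem_C1, mem_centralizer_singleton_iff]
    exact ⟨fun h => (congrArg Subtype.val h).symm, fun h => Subtype.ext h.symm⟩
  rw [e, Nat.card_congr (subgroupOfEquivOfLe inf_le_left).toEquiv, h4]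

theorem No_ne {G : Type u} [Group G] [Finite G] (h : Hyp G) {K : Subgroup G} (hK : IsPGroup 2 K)
    (hne : K ≠ ⊥) : No K ≠ ⊤ := fun e => by
  have : Fact (Nat.Prime 2) := ⟨Nat.prime_two⟩
  have := h.simple
  rcases (normal_of_top_le_normalizer e.ge).eq_bot_or_eq_top with e' | e'
  · exact hne e'
  · have h3 := isPGroup_top_iff.1 (e' ▸ hK)
    rcases (inferInstance : (center G).Normal).eq_bot_or_eq_top with e | e
    · have := h3.center_nontrivial
      rw [e] at this
      exact not_nontrivial _ this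
    · exact h.nc ⟨⟨fun a b => (mem_center_iff.1 (e ▸ mem_top b : b ∈ center G) a)⟩⟩

theorem jobE5 : H44.EP.E5.{u} := by
  intro st G _ _ h S X y hS hne hf yS y3 hX hXS a ha b hb aS bS
  have : Fact (Nat.Prime 2) := ⟨Nat.prime_two⟩
  obtain ⟨T, hT, hle⟩ := exists_isSyl_le (hX.to_sup_of_normal_right' hS hXS)
    (sup_le hXS le_normalizer)
  have hXT : X ≤ T := le_sup_left.trans hle
  have hST : S ≤ T := le_sup_right.trans hle
  have e : O2 (No S) = S := hf.big y yS y3 _ (isPGroup_pCoreOf _)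
    (le_pCoreOf hS le_normalizer le_rfl) (self_le_normalizer_pCoreOf _ yS)
  rcases st G h T (No S) (No_ne h hS hne) hf.c3 hT with k | ⟨y', n, d⟩ | ⟨P, R, L, lt, k1, k2⟩
  · exact absurd (hf.big y yS y3 T hT.isPGroup hST (k yS) ▸ hXT ha) aS
  · have i := d.idx
    rw [e] at i
    exact mul_mem_of_idx i.le (hXT ha) (hXT hb) aS bS
  · have e' : O2 L = S := (lt.o2_eq k1 k2 hT).trans e
    obtain ⟨x, xP, x3⟩ := lt.h1.s3.exists_three
    have e2 : O2 P = S := hf.big x (k1 (lt.h1.leL xP)) x3 _ (isPGroup_pCoreOf _)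
      (e'.ge.trans lt.h1.le) (self_le_normalizer_pCoreOf _ xP)
    exact absurd (e2.le.trans e'.ge) lt.h1.not_le

end H37.EpE58
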