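/- Tower FB, job SV: solvability from a normal `p`-complement with a small fixed point group. -/
import Cfsg.Agent.H11.FBSpec
import Cfsg.Agent.S4319

set_option autoImplicit false

namespace H37.FbSV

open Subgroup H11.FB

universe u

theorem core {X : Type u} [Group X] [Finite X] (N : Subgroup X) [N.Normal] {h : X} {p : ℕ}
    (hp : p.Prime) (hc : (Nat.card N).Coprime p) (ho : orderOf h = p)
    (pw : ∀ x : X, ∃ k : ℕ, x ^ p ^ k ∈ N)
    (hf : Odd (Nat.card (N ⊓ centralizer {h} : Subgroup X)) ∨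
      IsPGroup 2 (N ⊓ centralizer {h} : Subgroup X)) : Group.IsSolvable X := by
  have := Fact.mk hp
  let : MulDistribMulAction (zpowers h) N :=
    MulDistribMulAction.compHom N ((MulAut.conjNormal (H := N)).comp (zpowers h).subtype)
  have sm : ∀ (a : zpowers h) (n : N), ((a • n : N) : X) = a * n * (a : X)⁻¹ := fun _ _ => rfl
  have e : (FixedPoints.subgroup (zpowers h) N).map N.subtype = N ⊓ centralizer {h} := by
    ext x
    constructor
    · rintro ⟨n, hn, rfl⟩
      have := congrArg Subtype.val (hn ⟨h, mem_zpowers h⟩)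
      rw [sm] at this
      exact ⟨n.2, mem_centralizer_singleton_iff.2 (mul_inv_eq_iff_eq_mul.1 this).symm⟩
    · rintro ⟨h1, h2⟩
      refine ⟨⟨x, h1⟩, fun a => Subtype.ext ?_, rfl⟩
      obtain ⟨a, k, rfl⟩ := a
      rw [sm]
      have : Commute h x := (mem_centralizer_singleton_iff.1 h2).symm
      exact mul_inv_eq_iff_eq_mul.2 (this.zpow_left k).eq
  have i := (FixedPoints.subgroup (zpowers h) N).equivMapOfInjective N.subtype N.subtype_injective
  rw [e] at i
  have : Group.IsSolvable N := by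
    refine Cfsg.Agent.S4319.result (A := zpowers h) (by rwa [Nat.card_zpowers, ho]) ?_
    rcases hf with hf | hf
    · exact Or.inr (by rwa [Nat.card_congr i.toEquiv])
    · exact Or.inl (hf.of_equiv i.symm).isNilpotent
  have hq : IsPGroup p (X ⧸ N) := fun g => by
    obtain ⟨x, rfl⟩ := QuotientGroup.mk_surjective g
    obtain ⟨k, hk⟩ := pw x
    exact ⟨k, by rw [← QuotientGroup.mk_pow, QuotientGroup.eq_one_iff]; exact hk⟩
  have := hq.isNilpotent
  exact Group.isSolvable_of_ker_le_range N.subtype (QuotientGroup.mk' N) (by simp)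

theorem jobSV : JobSV.{u} := by
  intro G _ _ X X₁ h p hp c hh ho hf
  have : (X₁.subgroupOf X).Normal := ⟨fun n hn g => c.nm g g.2 n hn⟩
  have e : ((X₁.subgroupOf X) ⊓ centralizer {(⟨h, hh⟩ : X)}).map X.subtype =
      X₁ ⊓ centralizer {h} := by
    ext x
    constructor
    · rintro ⟨n, ⟨h1, h2⟩, rfl⟩
      exact ⟨h1, mem_centralizer_singleton_iff.2
        (congrArg Subtype.val (mem_centralizer_singleton_iff.1 h2))⟩
    · rintro ⟨h1, h2⟩
      exact ⟨⟨x, c.le h1⟩, ⟨h1, mem_centralizer_singleton_iff.2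
        (Subtype.ext (mem_centralizer_singleton_iff.1 h2))⟩, rfl⟩
  have i := ((X₁.subgroupOf X) ⊓ centralizer {(⟨h, hh⟩ : X)}).equivMapOfInjective X.subtype
    X.subtype_injective
  rw [e] at i
  refine core (X₁.subgroupOf X) (h := ⟨h, hh⟩) hp ?_ (by rw [orderOf_mk, ho]) (fun x => c.pw x x.2) ?_
  · rw [Nat.card_congr (subgroupOfEquivOfLe c.le).toEquiv]; exact c.cop
  · rcases hf with hf | hf
    · exact Or.inl (by rwa [Nat.card_congr i.toEquiv])
    · exact Or.inr (hf.of_equiv i.symm)

end H37.FbSV
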