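import Cfsg.Agent.H36.JSSC

/-! Tower JS, job E, part 1: `g` normalizes the odd part of `C(Q)`; fusion of `z`. -/

set_option autoImplicit false
set_option linter.unusedSectionVars false
set_option maxRecDepth 100000

namespace H37.JS

open Cfsg Subgroup H98 H1.Gold H8.JS H36.JS
open H4.M2 (X g y p q r s t z a h)

universe u

def iv (b : Fin 128) : Fin 128 := qm b (qm b b)
def cjc (b c : Fin 128) : Fin 128 := qm (qm b c) (iv b)
def tab (T : ℕ) (c : Fin 128) : Fin 128 := Fin.ofNat 128 (T >>> (7 * c.val))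
def la := tab 228774246137442348167704613154665070364852835035016028976372621757080473892032218853899920618357767401454648846491624590797577583483581408823914950883175460490905440923862994635628266620150994835246038640616996431831668925298885266654260511267690609937194211404752797824
def ly := tab 228756216036381368297390364085687905870980318196255354869831591066368810538232950707910294034204949582049997589720752035509161950807652979720882483636838846794831942582884164106267302084435582169405151789416699730697995938813222503348207032497060233653732001381286445184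
def lv := tab 395139820105996757824380501100501765750075427508006427993553899726117632709399734037695461570237977887685944286010986384675042553547388672368592220137975270240035398855372939518476093257516308674384467512718341809057795673300228272039773240203152988043013584132848009344
def lx := tab 457597492873446550216784685431785008153069079384364739085914445226751888508971056664680479013657393265575614174915253021839149099450211158029940397506286781329825639592302110513727854708522972782200843153947294922938150554939008162855683862680281414004107781672339275904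
theorem ea : lin 1 11 69 72 16 32 = la := funext (by decide +kernel)
theorem ey : lin 1 2 8 76 16 32 = ly := funext (by decide +kernel)
theorem ev : lin 1 35 4 8 81 32 = lv := funext (by decide +kernel)
theorem ex : lin 1 18 4 8 16 97 = lx := funext (by decide +kernel)
def fs : List (Fin 128 → Fin 128) := [cjc 32 ∘ lv, cjc 16 ∘ lx,
  (((((cjc 72 ∘ la) ∘ ly) ∘ la) ∘ ly) ∘ ly), cjc 12 ∘ la]

theorem cA : ∀ f ∈ fs, ∀ c : Fin 128, qm 1 c ≠ qm c 1 → ∃ d ∈ [0, 1, 64, 65],
    qm (f c) (iv c) = qm (qm (f 2) (iv 2)) d := by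
  simp only [fs, List.forall_mem_cons, List.not_mem_nil, false_imp_iff, implies_true, and_true]
  refine ⟨?_, ?_, ?_, ?_⟩ <;> decide +kernel

theorem cB : ∀ c : Fin 128, (∀ u ∈ [1, 33, 16, 69, 73], qm u 2 = qm 2 u ↔ qm u c = qm c u) →
    ∃ d ∈ [0, 1, 64, 65], c = qm 2 d := by decide +kernel

theorem cC : ∀ w : Fin 128, ∀ d ∈ [0, 1, 64, 65], qm (qm w d) d = w := by decide +kernel

theorem cD : ∀ u ∈ [33, 16, 69, 73], ∃ f ∈ fs, u = qm (f 2) (iv 2) := by decide +kernel

theorem cE : ∀ b : Fin 128, qm b (iv b) = 0 := by decide +kernel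

theorem cF : ∀ c : Fin 128, (∃ b, (qm b b = 0 ∧ b ≠ 0 ∧ b ≠ 64) ∧ qm (qm b c) (qm b c) = 0 ∧
    qm b c ≠ 0 ∧ qm b c ≠ 64) ∧ ∃ b, qm b b ≠ 0 ∧ qm (qm b c) (qm b c) ≠ 0 := by decide +kernel

theorem code {φ : Fin 128 → Fin 128} (hm : ∀ b c, φ (qm b c) = qm (φ b) (φ c))
    (hi : Function.Injective φ) (h1 : φ 1 = 1) (h64 : φ 64 = 64)
    (hf : ∀ f ∈ fs, ∀ c, φ (f c) = f (φ c)) (od : ∀ c, φ (φ c) = c → φ c = c) :
    ∀ c ∈ [1, 2, 4, 8, 16, 32], φ c = c := by
  have hV : ∀ d ∈ [0, 1, 64, 65], φ d = d := by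
    have a := hm 64 64
    have b := hm 1 64
    rw [h64] at a b
    rw [h1] at b
    simpa using ⟨a, h1, h64, b⟩
  have st : ∀ w, (∃ d ∈ [0, 1, 64, 65], φ w = qm w d) → φ w = w := fun w ⟨d, hd, k⟩ =>
    od w (by rw [k, hm, k, hV d hd, cC w d hd])
  have k1 : ∀ u ∈ [33, 16, 69, 73], φ u = u := fun u hu => by
    obtain ⟨f, m, rfl⟩ := cD u hu
    refine st _ ?_
    rw [hm, hf f m, show φ (iv 2) = iv (φ 2) by simp only [iv, hm]]
    refine cA f m _ fun k => ?_
    rw [← h1, ← hm, ← hm] at k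
    exact absurd (hi k) (by decide)
  have k2 : φ 2 = 2 := st 2 (cB _ fun u hu => by
    have : φ u = u := (List.mem_cons.1 hu).elim (fun k => k ▸ h1) (k1 u)
    conv_rhs => rw [← this, ← hm, ← hm, hi.eq_iff])
  have a := hm 65 69
  have b := hm 65 73
  have c := hm 1 33
  rw [hV 65 (by simp)] at a b
  rw [k1 69 (by simp)] at a
  rw [k1 73 (by simp)] at b
  rw [h1, k1 33 (by simp)] at c
  simpa using ⟨h1, k2, a, b, k1 16 (by simp), c⟩

variable {G : Type u} [Group G] [Finite G] {j : X →* G} {e v x b n n' : G} {O : Subgroup G}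

theorem q2 : qq j v x 2 = j q := by simp [qq, show ∀ i, bt 2 i = 2 >>> i % 2 from fun _ => rfl]
theorem q4 : qq j v x 4 = j k1 := by simp [qq, show ∀ i, bt 4 i = 4 >>> i % 2 from fun _ => rfl]
theorem q8 : qq j v x 8 = j k2 := by simp [qq, show ∀ i, bt 8 i = 8 >>> i % 2 from fun _ => rfl]
theorem q16 : qq j v x 16 = x := by simp [qq, show ∀ i, bt 16 i = 16 >>> i % 2 from fun _ => rfl]

theorem act_mul {f f' : Fin 128 → Fin 128} (k : Act j v x n f) (k' : Act j v x n' f') :
    Act j v x (n * n') (f ∘ f') := fun c => by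
  rw [Function.comp, ← k, ← k']; group

theorem odd_fix {o u : G} {m : ℕ} (hm : Odd m) (ho : o ^ m = 1)
    (k : o * (o * u * o⁻¹) * o⁻¹ = u) : o * u * o⁻¹ = u := by
  obtain ⟨i, rfl⟩ := hm
  have c : Commute (o ^ 2) u := by
    rw [pow_two]
    exact mul_inv_eq_iff_eq_mul.1 (by simpa only [mul_inv_rev, mul_assoc] using k)
  have : o = ((o ^ 2) ^ i)⁻¹ := eq_inv_of_mul_eq_one_right (by rw [← pow_mul, ← pow_succ, ho])
  rw [this, (c.pow_left i).inv_left.eq, mul_inv_cancel_right]

variable (hQ : QD j e v x)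
include hQ

theorem act_q (b : Fin 128) : Act j v x (qq j v x b) (cjc b) := fun c => by
  rw [cjc, ← hQ.mul, ← hQ.mul, inv_eq_of_mul_eq_one_right (by rw [hQ.mul, cE, q0] :
    qq j v x b * qq j v x (iv b) = 1)]

theorem gO (D : SD j e O v x) (hc : cen1 (j z) ≤ nor (QQ j v x)) {o : G}
    (ho : o ∈ cen (QQ j v x)) {m : ℕ} (hm : Odd m) (om : o ^ m = 1) :
    (j g)⁻¹ * o * (j g)⁻¹⁻¹ ∈ cen (QQ j v x) := by
  rw [inv_inv]
  set o' := (j g)⁻¹ * o * j g with ho'
  have cm : ∀ u ∈ QQ j v x, Commute o' (uz j u) := fun u hu => by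
    have := ho u hu
    calc o' * uz j u = (j g)⁻¹ * (o * u) * j g := by rw [ho', uz]; group
      _ = _ := by rw [← this, ho', uz]; group
  have cj : ∀ w w' : X, j w ∈ QQ j v x → g⁻¹ * w * g = w' → Commute o' (j w') := fun w w' k l => by
    rw [← l, map_mul, map_mul, map_inv]; exact cm _ k
  have cz := cj p z (q1 (j := j) ▸ qm_mem hQ 1) (by decide +kernel)
  have cp : Commute o' (j p) := by
    have := (cj z (p * z) hQ.xs.z_mem (by decide +kernel)).mul_right cz
    rwa [map_mul, mul_assoc, zz hQ, mul_one] at this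
  obtain ⟨-, l0, l1, l2, l3, l4, l5, A⟩ := hQ.all o' (hc (mc.2 cz))
  generalize lin l0 l1 l2 l3 l4 l5 = φ at A
  have om' : o' ^ m = 1 := by
    rw [ho', ← inv_inv (j g), inv_inv (j g)⁻¹, conj_pow, om]; simp
  have ac : ∀ {κ f}, Commute o' κ → Act j v x κ f → ∀ c, φ (f c) = f (φ c) := fun {κ f} k B c =>
    hQ.inj (by
      rw [← A, ← B, ← B, ← A]
      calc _ = o' * κ * qq j v x c * (o' * κ)⁻¹ := by group
        _ = _ := by rw [k.eq]; group)
  have key := code (φ := φ) (fun b c => hQ.inj (by rw [← hQ.mul, ← A, ← A, ← A, ← hQ.mul, conj_mul]))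
    (fun b c k => hQ.inj (by
      have := congrArg (qq j v x) k
      rw [← A, ← A] at this
      simpa using this))
    (hQ.inj (by rw [← A, q1, cp.eq, mul_inv_cancel_right]))
    (hQ.inj (by rw [← A, q64, cz.eq, mul_inv_cancel_right])) (by
      simp only [fs, List.forall_mem_cons, List.not_mem_nil, false_imp_iff, implies_true, and_true]
      have aa := ea ▸ hQ.aa
      have ay := ey ▸ hQ.ay
      refine ⟨ac ?_ (act_mul (act_q hQ 32) (ev ▸ hQ.av)), ac ?_ (act_mul (act_q hQ 16) (ex ▸ hQ.ax)),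
        ac ?_ (act_mul (act_mul (act_mul (act_mul (act_mul (act_q hQ 72) aa) ay) aa) ay) ay),
        ac ?_ (act_mul (act_q hQ 12) aa)⟩
      · rw [q32, eq_inv_of_mul_eq_one_left D.vv]
        exact (cm v (subset_closure (by simp))).inv_right
      · rw [q16, eq_inv_of_mul_eq_one_left D.xx]
        exact (cm x (subset_closure (by simp))).inv_right
      · rw [show (72 : Fin 128) = qm 8 64 by decide, ← hQ.mul, q8, q64]
        simp only [← map_mul]
        exact cj k1 _ (q4 (j := j) ▸ qm_mem hQ 4) (by unfold k1 k2; decide +kernel)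
      · rw [show (12 : Fin 128) = qm 4 8 by decide, ← hQ.mul, q4, q8]
        simp only [← map_mul]
        exact cj k2 _ (q8 (j := j) ▸ qm_mem hQ 8) (by unfold k1 k2; decide +kernel))
    fun c k => hQ.inj (by
      rw [← A]
      exact odd_fix hm om' (by rw [A, A, k]))
  have k : ∀ c ∈ [1, 2, 4, 8, 16, 32], qq j v x c ∈ cen1 o' := fun c hc =>
    mc.2 (mul_inv_eq_iff_eq_mul.1 (by rw [A, key c hc])).symm
  simp only [List.forall_mem_cons, q1, q2, q4, q8, q16, q32] at k
  exact fun u hu => mc.1 ((closure_le (cen1 o')).2 (by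
    simpa [Set.subset_def, or_imp, forall_and] using k) hu)

theorem fus (S : St j e O) (U : UD j e v x) (hc : cen1 (j z) ≤ nor (QQ j v x))
    (n1 : ¬ IsConj e (j a)) (n3 : ¬ IsConj e (e * j a)) (hb : b ∈ nor (QQ j v x))
    (k : IsConj (j z) b) : ∃ n ∈ nor (QQ j v x) ⊔ zpowers (j g), n * b * n⁻¹ = j z := by
  obtain ⟨γ, rfl⟩ := isConj_iff.1 k
  refine (U.cl _ hb (by rw [conj_mul, zz hQ]; simp) (by simpa using hQ.xs.z_ne)).resolve_right ?_
  rintro ⟨n, -, k⟩
  rw [show n * (γ * j z * γ⁻¹) * n⁻¹ = n * γ * j z * (n * γ)⁻¹ by group] at k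
  generalize n * γ = δ at k
  have ce : e * (δ * j z * δ⁻¹) = δ * j z * δ⁻¹ * e := by
    simp only [List.mem_cons, List.not_mem_nil, or_false] at k
    rcases k with k | k | k <;> rw [k]
    exacts [S.ec a, by rw [mul_assoc, S.ec a]]
  have m : δ⁻¹ * e * δ ∈ nor (QQ j v x) := hc (mc.2 (by
    calc _ = δ⁻¹ * (e * (δ * j z * δ⁻¹)) * δ := by group
      _ = _ := by rw [ce]; group))
  have c0 : ∀ n : G, IsConj e (n * (δ⁻¹ * e * δ) * n⁻¹) := fun n =>
    isConj_iff.2 ⟨n * δ⁻¹, by group⟩
  rcases U.cl _ m (by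
    calc _ = δ⁻¹ * (e * e) * δ := by group
      _ = 1 := by rw [S.e2]; group) (fun l => S.e1 (by
    calc e = δ * (δ⁻¹ * e * δ) * δ⁻¹ := by group
      _ = 1 := by rw [l]; group)) with ⟨n, -, l⟩ | ⟨n, hn, l⟩
  · exact S.nz (l ▸ c0 n)
  simp only [List.mem_cons, List.not_mem_nil, or_false] at k l
  rcases l with l | l | l
  swap
  · exact n1 (l ▸ c0 n)
  swap
  · exact n3 (l ▸ c0 n)
  obtain ⟨θ, hθ⟩ := S.act (δ * n⁻¹) (mul_inv_eq_iff_eq_mul.1 (by
    conv_lhs => rw [← l]
    group))
  have := hθ z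
  rw [show δ * n⁻¹ * j z * (δ * n⁻¹)⁻¹ = δ * (n⁻¹ * j z * n⁻¹⁻¹) * δ⁻¹ by group,
    fixz (nz hQ (inv_mem hn))] at this
  rw [this] at k
  rcases k with k | k | k
  exacts [S.ne' _ k, nza (S.inj k ▸ autz θ),
    S.ne' (θ z * a⁻¹) (by rw [map_mul, k, map_inv, mul_inv_cancel_right])]

end H37.JS
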