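import Cfsg.Agent.H63.KgvSpec

/-! Power sums of the roots by the logarithmic derivative (slot KGV-JPW1). -/

set_option autoImplicit false

namespace H37.KgvPW1

open Polynomial H63.Kgv

variable {F : Type} [Field F]

theorem cc_rev {f : F[X]} (hf : f.Monic) :
    PowerSeries.constantCoeff ((f.reverse : F[X]) : PowerSeries F) = 1 := by
  rw [Polynomial.constantCoeff_coe, coeff_zero_reverse]; exact hf

theorem inv_rev {f : F[X]} (hf : f.Monic) :
    ((f.reverse : F[X]) : PowerSeries F) * ((f.reverse : F[X]) : PowerSeries F)⁻¹ = 1 :=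
  PowerSeries.mul_inv_cancel _ (by rw [cc_rev hf]; exact one_ne_zero)

theorem pw_mul (r : ℕ) (f g : F[X]) (hf : f.Monic) (hg : g.Monic) :
    pw r (f * g) = pw r f + pw r g := by
  unfold pw
  rw [← map_add, reverse_mul_of_domain, derivative_mul]
  congr 1
  have h1 := inv_rev hf
  have h2 := inv_rev hg
  rw [Polynomial.coe_add, Polynomial.coe_mul, Polynomial.coe_mul, Polynomial.coe_mul,
    PowerSeries.mul_inv_rev]
  linear_combination
    (-(PowerSeries.X * ((derivative f.reverse : F[X]) : PowerSeries F)) *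
      ((f.reverse : F[X]) : PowerSeries F)⁻¹) * h2 +
    (-(PowerSeries.X * ((derivative g.reverse : F[X]) : PowerSeries F)) *
      ((g.reverse : F[X]) : PowerSeries F)⁻¹) * h1

theorem pw_one (r : ℕ) : pw r (1 : F[X]) = 0 := by
  have h := pw_mul r (1 : F[X]) 1 monic_one monic_one
  rw [mul_one] at h
  exact left_eq_add.mp h

theorem mu_lam (ψ : AddChar F ℂ) (χ : MulChar F ℂ) (r : ℕ) : Mu (lam ψ χ r) := by
  refine ⟨?_, fun f g hf hg => ?_⟩
  · simp [lam, pw_one]
  · unfold lam
    rw [pw_mul r f g hf hg, AddChar.map_add_eq_mul, hf.natDegree_mul hg, mul_coeff_zero, pow_add]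
    have : χ ((-1) ^ f.natDegree * (-1) ^ g.natDegree * (f.coeff 0 * g.coeff 0)) =
        χ ((-1) ^ f.natDegree * f.coeff 0) * χ ((-1) ^ g.natDegree * g.coeff 0) := by
      rw [← map_mul]; congr 1; ring
    rw [this]; ring

theorem pw_add_C (r : ℕ) (f : F[X]) (c : F) (hr : 0 < r) (hf : f.Monic) (hd : f.natDegree = r) :
    pw r (f + C c) = pw r f - r * c := by
  have hm : (f + C c).Monic := by
    refine hf.add_of_left (lt_of_le_of_lt degree_C_le ?_)
    rw [← natDegree_pos_iff_degree_pos, hd]; exact hr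
  have h1 := inv_rev hf
  have h2 := inv_rev hm
  have h3 := cc_rev hm
  obtain ⟨s, rfl⟩ : ∃ s, r = s + 1 := ⟨r - 1, by omega⟩
  have e : (f + C c).reverse = f.reverse + C c * X ^ (s + 1) := by rw [reverse_add_C, hd]
  have ed : derivative (f + C c).reverse =
      derivative f.reverse + C (c * ((s + 1 : ℕ) : F)) * X ^ s := by
    rw [e, derivative_add, derivative_C_mul_X_pow]; simp
  have eS : (((f + C c).reverse : F[X]) : PowerSeries F) =
      ((f.reverse : F[X]) : PowerSeries F) + PowerSeries.C c * PowerSeries.X ^ (s + 1) := by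
    rw [e, Polynomial.coe_add, Polynomial.coe_mul, Polynomial.coe_pow, Polynomial.coe_C,
      Polynomial.coe_X]
  have eD : ((derivative (f + C c).reverse : F[X]) : PowerSeries F) =
      ((derivative f.reverse : F[X]) : PowerSeries F) +
        PowerSeries.C (c * ((s + 1 : ℕ) : F)) * PowerSeries.X ^ s := by
    rw [ed, Polynomial.coe_add, Polynomial.coe_mul, Polynomial.coe_pow, Polynomial.coe_C,
      Polynomial.coe_X]
  unfold pw
  rw [eD]
  generalize hT : (((f + C c).reverse : F[X]) : PowerSeries F)⁻¹ = T at h2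
  have hT1 : PowerSeries.constantCoeff T = 1 := by
    have := congrArg PowerSeries.constantCoeff h2
    rw [map_mul, h3, one_mul, map_one] at this
    exact this
  rw [eS] at h2
  generalize ((f.reverse : F[X]) : PowerSeries F)⁻¹ = U at h1 ⊢
  generalize ((f.reverse : F[X]) : PowerSeries F) = R at h1 h2
  generalize ((derivative f.reverse : F[X]) : PowerSeries F) = D
  have key : -(PowerSeries.X * (D + PowerSeries.C (c * ((s + 1 : ℕ) : F)) * PowerSeries.X ^ s)) * T =
      -(PowerSeries.X * D) * U + PowerSeries.X ^ (s + 1 + 1) * (PowerSeries.C c * D * U * T) -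
        PowerSeries.X ^ (s + 1) * (PowerSeries.C (c * ((s + 1 : ℕ) : F)) * T) := by
    linear_combination (PowerSeries.X * D * T) * h1 - (PowerSeries.X * D * U) * h2
  rw [key, map_sub, map_add, PowerSeries.coeff_X_pow_mul', PowerSeries.coeff_X_pow_mul',
    if_neg (by omega), if_pos le_rfl, Nat.sub_self, PowerSeries.coeff_C_mul,
    PowerSeries.coeff_zero_eq_constantCoeff, hT1]
  ring

theorem pw_first (f : F[X]) (hf : f.Monic) : pw 1 f = -f.nextCoeff := by
  unfold pw
  have hT1 : PowerSeries.constantCoeff (((f.reverse : F[X]) : PowerSeries F)⁻¹) = 1 := by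
    have := congrArg PowerSeries.constantCoeff (inv_rev hf)
    rw [map_mul, cc_rev hf, one_mul, map_one] at this
    exact this
  rw [neg_mul, map_neg, mul_assoc, PowerSeries.coeff_succ_X_mul,
    PowerSeries.coeff_zero_eq_constantCoeff, map_mul, hT1, Polynomial.constantCoeff_coe,
    coeff_derivative, coeff_one_reverse]
  simp

theorem pw_lin (r : ℕ) (a : F) (hr : 0 < r) : pw r (X - C a) = a ^ r := by
  obtain ⟨s, rfl⟩ : ∃ s, r = s + 1 := ⟨r - 1, by omega⟩
  have e1 : (X : F[X]).reverse = 1 := by
    have := reverse_X_mul (1 : F[X])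
    rw [mul_one] at this
    rw [this, ← C_1, reverse_C]
  have e : (X - C a : F[X]).reverse = 1 - C a * X := by
    rw [sub_eq_add_neg, ← C_neg, reverse_add_C, e1, natDegree_X, C_neg]; ring
  have eS : (((X - C a : F[X]).reverse : F[X]) : PowerSeries F) =
      1 - PowerSeries.C a * PowerSeries.X := by
    rw [e, Polynomial.coe_sub, Polynomial.coe_mul, Polynomial.coe_C, Polynomial.coe_X,
      Polynomial.coe_one]
  have eD : ((derivative (X - C a : F[X]).reverse : F[X]) : PowerSeries F) = -PowerSeries.C a := by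
    rw [e, derivative_sub, derivative_one, derivative_C_mul_X, zero_sub, Polynomial.coe_neg,
      Polynomial.coe_C]
  have hi : (1 - PowerSeries.C a * PowerSeries.X : PowerSeries F)⁻¹ =
      PowerSeries.mk fun n => a ^ n := by
    rw [PowerSeries.inv_eq_iff_mul_eq_one (by simp)]
    ext n
    rw [mul_sub, mul_one, map_sub, ← mul_assoc]
    cases n with
    | zero => simp
    | succ n =>
      rw [PowerSeries.coeff_succ_mul_X, PowerSeries.coeff_mul_C, PowerSeries.coeff_mk,
        PowerSeries.coeff_mk, PowerSeries.coeff_one, if_neg (Nat.succ_ne_zero n), pow_succ, sub_self]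
  unfold pw
  rw [eD, eS, hi, mul_neg, neg_neg, mul_assoc, PowerSeries.coeff_succ_X_mul,
    PowerSeries.coeff_C_mul, PowerSeries.coeff_mk, pow_succ']

theorem job : H63.Kgv.JPW1 := fun _ _ =>
  ⟨pw_mul, mu_lam, pw_add_C, pw_first, pw_lin⟩

end H37.KgvPW1
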