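import Cfsg.Agent.H47.O8Cm

/-! `JobU2` and `JobN2` of `H47.O8Sp` (blueprint `LOCAL3C.md`, §5.15, §5.17). -/

set_option autoImplicit false
set_option maxRecDepth 100000
open Cfsg Subgroup H14 H98 H44 H56.L3 H42.L3 H42.MC H26.MC H47.O8
open H47.MC (V Mat Nr Acts)
open scoped Matrix commutatorElement

namespace H37.O8

universe u

variable {G : Type u} [Group G] [Finite G]

/-- **W9** in a section `Y / N` -/
theorem w9q (w : JobW9.{u}) {Y N : Subgroup G} (hN : N ≤ Y) (hY : Y ≤ nr N) (β : SD J3 K6 →* G)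
    (hr : ∀ m, β m ∈ Y) (hi : ∀ m, β m ∈ N → m = 1) (hz : ∀ m, β m ∈ Ce (β (vc 1 1 1)))
    (ha : ∀ g ∈ Y, ⁅β (vc 1 1 1), g⁆ ∈ N → ∃ m, (β m)⁻¹ * g ∈ N)
    (hs : ∀ K, N ≤ K → K ≤ Y → (N.relIndex K).Coprime 3 → JI β ≤ nr K → K ≤ N)
    (hm : ∃ m, β m ^ 3 = 1 ∧ ∀ g ∈ Y, g * β m * g⁻¹ ∉ JI β ⊔ N) {g : G} (hg : g ∈ Y) :
    H98.cj g (JI β) ≤ JI β ⊔ N := by
  have := normal_subgroupOf_of_le_normalizer hY
  let π := QuotientGroup.mk' (N.subgroupOf Y)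
  let β' := π.comp (β.codRestrict Y hr)
  have k1 : ∀ y : Y, π y = 1 ↔ (y : G) ∈ N := fun y => QuotientGroup.eq_one_iff y
  have k2 : ∀ m (y : Y), β' m = π y ↔ (β m)⁻¹ * y ∈ N := fun m y => QuotientGroup.eq
  have jY : JI β ≤ Y := by rintro _ ⟨m, -, rfl⟩; exact hr m
  have key : ∀ y : Y, π y ∈ JI β' ↔ (y : G) ∈ JI β ⊔ N := fun y => by
    rw [mem_sup_left_norm (jY.trans hY)]
    exact ⟨fun ⟨m, h1, h2⟩ => ⟨_, ⟨m, h1, rfl⟩, _, (k2 m y).1 h2, by simp⟩,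
      fun ⟨_, ⟨m, h1, rfl⟩, n, h2, e⟩ => ⟨m, h1, (k2 m y).2 (by simpa [e] using h2)⟩⟩
  have hn := w _ β' ((injective_iff_map_eq_one _).2 fun m e => hi m ((k1 _).1 e)) ?_ ?_ ?_
  · rintro _ ⟨j, hj, rfl⟩
    exact (key (⟨g, hg⟩ * ⟨j, jY hj⟩ * ⟨g, hg⟩⁻¹)).1
      (hn.conj_mem _ ((key ⟨j, jY hj⟩).2 (mem_sup_left hj)) (π ⟨g, hg⟩))
  · refine le_antisymm (fun y hy => ?_) ?_
    · obtain ⟨y, rfl⟩ := QuotientGroup.mk'_surjective _ y
      obtain ⟨m, e⟩ := ha y y.2 ((k1 ⁅(⟨_, hr (vc 1 1 1)⟩ : Y), y⁆).1 (by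
        rw [map_commutatorElement, commutatorElement_eq_one_iff_mul_comm]
        exact (mem_Ce.1 hy).symm))
      exact ⟨m, (k2 m y).2 e⟩
    · rintro _ ⟨m, rfl⟩
      exact mem_Ce.2 (congrArg π (Subtype.ext (mem_Ce.1 (hz m)) :
        (⟨_, hr m⟩ * ⟨_, hr _⟩ : Y) = ⟨_, hr _⟩ * ⟨_, hr m⟩))
  · intro K h3 hK
    have e : ((K.comap π).map Y.subtype).subgroupOf Y = K.comap π :=
      comap_map_eq_self_of_injective Y.subtype_injective _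
    have h4 := hs ((K.comap π).map Y.subtype)
      (fun n hn => ⟨⟨n, hN hn⟩, show π _ ∈ K from (k1 ⟨n, hN hn⟩).2 hn ▸ one_mem _, rfl⟩)
      (map_subtype_le _) (by
        have e' := relIndex_ker (K := K.comap π) π
        rw [QuotientGroup.ker_mk', map_comap_eq_self_of_surjective
          (QuotientGroup.mk'_surjective _)] at e'
        rwa [← relIndex_subgroupOf (map_subtype_le _), e, e'])
      fun j hj => mem_normalizer_of_cj_le (by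
        rintro _ ⟨_, ⟨y, hy, rfl⟩, rfl⟩
        exact ⟨⟨j, jY hj⟩ * y * ⟨j, jY hj⟩⁻¹,
          hK _ ((key ⟨j, jY hj⟩).2 (mem_sup_left hj)) _ hy, rfl⟩)
    refine eq_bot_iff.2 fun y hy => ?_
    obtain ⟨y, rfl⟩ := QuotientGroup.mk'_surjective _ y
    exact (k1 y).2 (h4 ⟨y, hy, rfl⟩)
  · obtain ⟨m, h1, h2⟩ := hm
    refine ⟨m, ?_, fun y hy => ?_⟩
    · exact (k1 (⟨_, hr m⟩ ^ 3)).2 (by rw [coe_pow]; exact h1 ▸ one_mem _)
    · obtain ⟨y, rfl⟩ := QuotientGroup.mk'_surjective _ y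
      exact h2 y y.2 ((key (y * ⟨_, hr m⟩ * y⁻¹)).1 hy)

/-- `Sig` modulo a central `3`-subgroup -/
theorem le_of_sig {J K Z : Subgroup G} (sig : Sig J) (hZ : Z ≤ K) (hc : K ≤ cn Z)
    (h3 : IsPGroup 3 Z) (hi : (Z.relIndex K).Coprime 3) (hn : J ≤ nr K) : K ≤ Z := by
  have := normal_subgroupOf_of_le_normalizer (hc.trans (centralizer_le_normalizer _))
  obtain ⟨k, hk⟩ := (isPGroup_subgroupOf h3 K).exists_card_eq
  have h4 : (Nat.card (Z.subgroupOf K)).Coprime (Z.relIndex K) := hk ▸ hi.symm.pow_left k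
  obtain ⟨H, hH⟩ := exists_right_complement'_of_coprime h4
  have cH : Nat.card H = Z.relIndex K := hH.symm.index_eq_card.symm
  have dec : ∀ g : K, ∃ z ∈ Z.subgroupOf K, ∃ y ∈ H, g = z * y := fun g =>
    let ⟨p, e⟩ := hH.2 g; ⟨p.1, p.1.2, p.2, p.2.2, e.symm⟩
  have pw : ∀ y ∈ H, y ^ Z.relIndex K = 1 := fun y hy =>
    congrArg Subtype.val (cH ▸ pow_card_eq_one' (x := (⟨y, hy⟩ : H)))
  have h5 : H.map K.subtype = ⊥ := sig _ (by rwa [card_map_of_injective K.subtype_injective, cH]) (by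
    rintro j hj _ ⟨y, hy, rfl⟩
    obtain ⟨z, hz, y', hy', e⟩ := dec ⟨_, conj_mem_of_mem_normalizer (hn hj) y.2⟩
    have h6 : (z * y') ^ Z.relIndex K = 1 := Subtype.ext (by
      rw [← e, coe_pow, conj_pow, ← coe_pow, pw y hy]; simp)
    rw [(show Commute z y' from Subtype.ext (hc y'.2 z hz)).mul_pow, pw y' hy', mul_one] at h6
    rw [show z = 1 from orderOf_eq_one_iff.1 (Nat.eq_one_of_dvd_coprimes h4
      (orderOf_dvd_natCard _ hz) (orderOf_dvd_of_pow_eq_one h6)), one_mul] at e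
    exact ⟨y', hy', (congrArg Subtype.val e).symm⟩)
  intro g hg
  obtain ⟨z, hz, y, hy, e⟩ := dec ⟨g, hg⟩
  rw [show g = z * y from congrArg Subtype.val e, show (y : G) = 1 from mem_bot.1 (h5.le ⟨y, hy, rfl⟩),
    mul_one]
  exact hz

/-- the matrices of `⟨q₁, c⟩` -/
def mK (k : K6) : Mat := ![1, mC, mQ1, !![2, 1, 1, 1; 1, 2, 1, 1; 1, 1, 2, 1; 1, 1, 1, 2],
  !![2, 1, 1, 2; 1, 2, 1, 2; 1, 1, 2, 2; 2, 2, 2, 2],
  !![2, 1, 1, 2; 1, 2, 1, 2; 1, 1, 2, 2; 1, 1, 1, 1]] (show Fin 6 from k)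

/-- coordinates on `D` -/
def fD (j : J3) : V := j.1 • uu 1 + j.2.1 • uu 2 + j.2.2 • uu 0

theorem mK_mul : ∀ k l, mK (k * l) = mK k * mK l := by
  simp only [mul_eq]; decide +kernel

theorem mK_facts : ∀ k, Iso (mK k) ∧ mK k * mT = mT * mK k ∧ mK k *ᵥ vz = vz ∧ mK k *ᵥ vu = vu ∧
    (mK k = 1 → k = 1) ∧ ∀ j, fD (k • j) = mK k *ᵥ fD j := by
  simp only [mul_eq, mulVec_eq]; decide +kernel

theorem fD_add (i j : J3) : fD (i + j) = fD i + fD j := by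
  simp only [fD, Prod.fst_add, Prod.snd_add, add_smul]; abel

theorem comm_of_pm {M : Mat} (h : Iso M) (e : M *ᵥ vu = vu) : M * mT = mT * M :=
  Matrix.toLin'.injective (LinearMap.ext fun x => by
    have k : ∀ x : V, mT *ᵥ x = x - dot x vu • vu := by decide +kernel
    simp only [Matrix.toLin'_apply, ← Matrix.mulVec_mulVec]
    rw [k, k, Matrix.mulVec_sub, Matrix.mulVec_smul, ← h.dot x, e])

/-- the reflection in `r` -/
def rf (r : V) : Mat := fun i j => (if i = j then 1 else 0) + nrm r * r i * r j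

variable {d : Dat G} {c : G}

theorem exists_B6 (h : Loc d) (hc : Hat d c mC) : ∃ β, B6 d β := by
  choose w hw using fun k => h.exAll hc (mK_facts k).1
  have w1 : w 1 = 1 := h.eq_one (hw 1) rfl
  let β : SD J3 K6 →* G := MonoidHom.mk' (fun m => d.v (fD m.j) * w m.k) fun a b => by
    rw [vmul h.co (hw _).1, SD.mul_j, SD.mul_k, fD_add, (mK_facts _).2.2.2.2.2,
      h.uniq (hw _) ((hw _).mul (hw _)) (mK_mul _ _)]
  have hβ : ∀ m, β m = d.v (fD m.j) * w m.k := fun _ => rfl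
  have fT : ∀ j, mT *ᵥ fD j = fD j := by decide +kernel
  have fs : ∀ x, mT *ᵥ x = x → ∃ j, fD j = x := by decide +kernel
  refine ⟨β, (injective_iff_map_eq_one _).2 fun m e => ?_, ext fun g => ?_, ?_,
    le_antisymm ?_ fun g hg => ?_⟩
  · obtain ⟨a, -, b⟩ := h.dec (hw m.k) Hat.one (x' := 0) (e.trans (by simp [v_zero h.co]))
    exact SD.ext ((by decide +kernel : ∀ j, fD j = 0 → j = 0) _ a) ((mK_facts _).2.2.2.2.1 b)
  · rw [mem_JI, h.mem_D]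
    constructor
    · rintro ⟨m, e, rfl⟩
      exact ⟨_, fT m.j, by rw [hβ, e, w1, mul_one]⟩
    · rintro ⟨x, hx, rfl⟩
      obtain ⟨j, rfl⟩ := fs x hx
      exact ⟨⟨j, 1⟩, rfl, by rw [hβ, w1, mul_one]⟩
  · rw [hβ, show (vc 1 1 1 : SD J3 K6).k = 1 from rfl, w1, mul_one]
    exact congrArg d.v (by decide +kernel)
  · rintro _ ⟨m, rfl⟩
    obtain ⟨-, a, b, e, -⟩ := mK_facts m.k
    exact mul_mem ⟨⟨Loc.D_B (h.v_D (fT _)), J_le_Ce h.co _ (v_mem h.co _)⟩,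
      J_le_Ce h.co _ (v_mem h.co _)⟩ ⟨⟨h.hat_B (hw _) a, (acts_mem_Ce h.co (hw _).1).2 b⟩,
      (acts_mem_Ce h.co (hw _).1).2 e⟩
  · obtain ⟨x, k, M, h1, h2, h3, h4, rfl⟩ := h.mem_B hg.1.1
    have h5 : ∀ y, d.v x * k ∈ Ce (d.v y) → act M y = y := fun y e => mulVec_eq M y ▸
      (acts_mem_Ce h.co h2.1).1 ((Subgroup.mul_mem_cancel_left _ (J_le_Ce h.co _ (v_mem h.co _))).1 e)
    obtain ⟨l, rfl⟩ := forall_T' (P := fun M => act M vz = vz → act M vu = vu → ∃ l, M = mK l)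
      (by decide +kernel) h3 h4 (h5 _ hg.1.2) (h5 _ hg.2)
    obtain ⟨j, rfl⟩ := fs x h1
    exact ⟨⟨j, l⟩, by rw [hβ, h.uniq (hw l) h2 rfl]⟩

variable {β : SD J3 K6 →* G}

theorem B6.q1 (h : Loc d) (b : B6 d β) : ∃ m, β m = d.q1 :=
  b.range.ge ⟨⟨h.q1_B, (acts_mem_Ce h.co h.a1).2 (by decide +kernel)⟩,
    (acts_mem_Ce h.co h.a1).2 (by decide +kernel)⟩

omit [Finite G] in
theorem q1_J (h : Loc d) (fq : FQ d) (g : G) : g * d.q1 * g⁻¹ ∉ d.J := by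
  simpa [v_zero h.co] using fq.xJ 1 0 0 (by decide) rfl g

theorem cu2 (w : JobW9.{u}) (h : Loc d) (fx : Fx d) (fq : FQ d) (hc : Hat d c mC) (b : B6 d β) :
    CU2 d := by
  have r : ∀ m, β m ∈ d.B ⊓ Ce d.z ⊓ Ce (d.v vu) := fun m => b.range.le ⟨m, rfl⟩
  have sp : ∀ x : V, ∃ a : ZMod 3, mT *ᵥ (x - a • vu) = x - a • vu := by decide +kernel
  have eJ : JI β ⊔ zpowers (d.v vu) = d.J := by
    rw [b.ji]
    refine le_antisymm (sup_le inf_le_left (zpowers_le.2 (v_mem h.co _))) fun g hg => ?_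
    obtain ⟨x, rfl⟩ := (h.mem g).1 hg
    obtain ⟨a, ha⟩ := sp x
    rw [← sub_add_cancel x (a • vu), h.add]
    exact mul_mem_sup (h.v_D ha) (smul_mem_zp h.co a vu)
  have key : Ce (d.v vu) ≤ Nr d.J := fun g hg => mem_normalizer_of_cj_le (by
    rw [← eJ, cj_sup, cj_eq_self (Ce_le_nr hg)]
    refine sup_le (w9q w (zpowers_le.2 (mem_Ce.2 rfl)) Ce_le_nr β (fun m => (r m).2)
      (fun m e => ?_) (fun m => b.a ▸ (r m).1.2) (fun g hg e => ?_) (fun K h1 h2 h3 h4 => ?_)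
      ?_ hg) le_sup_right
    · obtain ⟨a, e⟩ := (mem_zp_v h.co).1 e
      have := h.v_t.1 (e ▸ (r m).1.1.2)
      rw [(by decide +kernel : ∀ a : ZMod 3, mT *ᵥ (a • vu) = a • vu → a • vu = 0) a this,
        v_zero h.co] at e
      exact b.inj (e.symm.trans β.map_one.symm)
    · obtain ⟨a, e⟩ := (mem_zp_v h.co).1 e
      have h1 : g * d.z * g⁻¹ = d.v (-(a • vu) + vz) := by
        rw [h.add, v_neg h.co, e, b.a, commutatorElement_def]; group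
      have h2 := h.cls (isConj_iff.2 ⟨g, h1⟩)
      rw [(by decide +kernel : ∀ a : ZMod 3, nrm vz = nrm (-(a • vu) + vz) →
        -(a • vu) + vz = vz) a h2] at h1
      obtain ⟨x, k, M, h3, h4, rfl⟩ := h.hat_nr
        (h.y3 (by decide) (by decide) (by decide) ⟨mem_Ce'.2 h1, hg⟩)
      obtain ⟨a, ha⟩ := sp x
      have h5 : ∀ y, d.v x * k ∈ Ce (d.v y) → k ∈ Ce (d.v y) := fun y =>
        (Subgroup.mul_mem_cancel_left _ (J_le_Ce h.co _ (v_mem h.co _))).1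
      obtain ⟨m, e⟩ := b.range.ge (mul_mem ⟨⟨Loc.D_B (h.v_D ha), J_le_Ce h.co _ (v_mem h.co _)⟩,
        J_le_Ce h.co _ (v_mem h.co _)⟩ ⟨⟨h.hat_B h3 (comm_of_pm h4
          ((acts_mem_Ce h.co h3.1).1 (h5 _ hg))), h5 _ (mem_Ce'.2 h1)⟩, h5 _ hg⟩)
      refine ⟨m, ?_⟩
      rw [e, show (d.v (x - a • vu) * k)⁻¹ * (d.v x * k) = k⁻¹ * d.v (a • vu) * k⁻¹⁻¹ by
        nth_rw 2 [← sub_add_cancel x (a • vu)]
        rw [h.add]; group]
      exact conj_mem_of_mem_normalizer (Ce_le_nr (inv_mem (h5 _ hg))) (smul_mem_zp h.co a vu)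
    · refine le_of_sig fx.sig h1 (h2.trans cn_zp.ge) (isPGroup_zpowers (k := 1) (v_cube h.co _)) h3 ?_
      rw [← eJ]
      exact sup_le h4 (h1.trans le_normalizer)
    · obtain ⟨m, e⟩ := B6.q1 h b
      exact ⟨m, e ▸ h.q1_cube, fun g _ => by rw [e, eJ]; exact q1_J h fq g⟩)
  intro x hx
  obtain ⟨s, h1, h2⟩ := (by decide +kernel : ∀ x : V, H47.O8.nrm x = 2 → ∃ s : ZMod 3, Iso (rf (x + s • vu)) ∧
    (act (rf (x + s • vu)) vu = x ∨ act (rf (x + s • vu)) vu = -x)) x hx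
  obtain ⟨a, ha⟩ := h.exAll hc h1
  have h3 := cj_mono a key
  rw [cj_Ce, ha.1, cj_eq_self_of_mem (acts_nr h.co ha.1), mulVec_eq] at h3
  rcases h2 with e | e <;> rw [e] at h3
  · exact h3
  · rwa [v_neg h.co, Ce_inv] at h3

theorem jobU2 : JobU2.{u} := fun w _ _ _ _ _ h fx fq hc =>
  let ⟨β, b⟩ := exists_B6 h hc
  ⟨⟨β, b⟩, cu2 w h fx fq hc b⟩

theorem jobN2 : JobN2.{u} := fun w G _ _ d c β h fx fq fr hc b sg ex g hg => by
  have r : ∀ m, β m ∈ d.B ⊓ Ce d.z ⊓ Ce (d.v vu) := fun m => b.range.le ⟨m, rfl⟩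
  have c3 : (Nat.card d.Sg).Coprime 3 := by rw [ex.card]; decide
  have DS : d.D ≤ nr d.Sg := Loc.D_B.trans ex.nB
  have tu : d.t ∉ Ce (d.v vu) := fun e => absurd ((acts_mem_Ce h.co h.aT).1 e) (by decide +kernel)
  have syl : ∀ A ≤ d.D ⊔ d.Sg, IsPGroup 3 A → ∃ σ ∈ d.Sg, H98.cj σ A ≤ d.D := fun A h1 h2 => by
    obtain ⟨y, hy, e⟩ := (isSyl_sup_coprime h.D_three c3 DS).exists_cj_le h2 h1
    obtain ⟨a, ha, σ, hσ, rfl⟩ := (mem_sup_left_norm DS).1 hy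
    rw [← cj_cj, cj_le_iff, cj_eq_self_of_mem (inv_mem ha)] at e
    exact ⟨σ, hσ, e⟩
  suffices H98.cj g (JI β) ≤ JI β ⊔ d.Sg by
    obtain ⟨σ, hσ, e⟩ := syl _ (b.ji ▸ this) (isPGroup_cj g h.D_three)
    rw [cj_cj] at e
    exact ⟨σ⁻¹, inv_mem hσ, by rw [inv_inv]; exact h.nr_D (mem_normalizer_of_cj_le e)⟩
  refine w9q w (le_inf ex.le le_normalizer) inf_le_right β
    (fun m => ⟨(r m).1.1.2, ex.nB (r m).1.1⟩) (fun m e => ?_) (fun m => b.a ▸ (r m).1.2)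
    (fun g hg e => ?_) (fun K h1 h2 h3 h4 => ?_) ?_ hg
  · rcases h.mem_zt.1 (ex.inf ⟨e, (r m).1.1.1⟩) with e | e
    · exact b.inj (e.trans β.map_one.symm)
    · exact absurd (e ▸ (r m).2) tu
  · have zS : zpowers d.z ≤ nr d.Sg := (zpowers_le.2 (h.v_D (by decide +kernel))).trans DS
    have pw : ∀ n : ℕ, ⁅d.z ^ n, g⁆ ∈ d.Sg := fun n => by
      induction n with
      | zero => simp
      | succ n ih =>
        rw [show ⁅d.z ^ (n + 1), g⁆ = d.z * ⁅d.z ^ n, g⁆ * d.z⁻¹ * ⁅d.z, g⁆ by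
          simp only [commutatorElement_def]; group]
        exact mul_mem (conj_mem_of_mem_normalizer (zS (mem_zpowers _)) ih) (b.a ▸ e)
    obtain ⟨σ, hσ, h1⟩ := exists_mul_mem_centralizer (isPGroup_zpowers (k := 1) (v_cube h.co vz))
      ((Nat.Prime.coprime_iff_not_dvd Nat.prime_three).1 c3.symm) zS (y := g) fun a ha => by
        obtain ⟨a, rfl⟩ := (mem_zp_v h.co).1 ha
        exact v_smul h.co a vz ▸ pw _
    have h2 : σ * g ∈ Ce d.z := cn_zp.le h1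
    have h3 := mul_mem (ex.le hσ) hg.1
    obtain ⟨ρ, hρ, h4⟩ := fr.nz 0 _ ⟨h3, Ce_le_nr h2⟩
    have h5 : ρ⁻¹ * (σ * g) ∈ d.B ⊓ Ce d.z :=
      mem_inf.2 ⟨mem_inf.2 ⟨h4, Subgroup.mul_mem _ (Subgroup.inv_mem _ (fr.le 0 hρ)) h3⟩,
        Subgroup.mul_mem _ (Subgroup.inv_mem _ (h.R_z hρ)) h2⟩
    have h6 : (ρ⁻¹ * (σ * g))⁻¹ * g ∈ d.Sg := by
      simpa [mul_assoc] using conj_mem_of_mem_normalizer' hg.2 (mul_mem (inv_mem hσ) (RR_le d 0 hρ))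
    generalize ρ⁻¹ * (σ * g) = n at h5 h6
    obtain ⟨M, h7, h8⟩ := h.act n h5.1.1
    rcases comm_T h8 (acts_unique h.co (acts_mul h7 h.aT)
      (mem_Ce.1 h5.1.2 ▸ acts_mul h.aT h7)) with e | e
    · obtain ⟨m, e⟩ := b.range.ge ⟨h5, (acts_mem_Ce h.co h7).2 e⟩
      exact ⟨m, e ▸ h6⟩
    · obtain ⟨m, e⟩ := b.range.ge ⟨mul_mem h5 ⟨h.t_B, (acts_mem_Ce h.co h.aT).2 (by decide +kernel)⟩,
        (acts_mem_Ce h.co (acts_mul h7 h.aT)).2 (by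
          rw [← Matrix.mulVec_mulVec, show mT *ᵥ vu = -vu by decide +kernel, Matrix.mulVec_neg, e,
            neg_neg])⟩
      exact ⟨m, by rw [e, _root_.mul_inv_rev, mul_assoc]; exact mul_mem (inv_mem h.t_Sg) h6⟩
  · refine sg K _ (h2.trans inf_le_left) ?_ (b.ji ▸ h4) fun k => inf_le_right.trans (RR_le d k)
    rw [← relIndex_mul_card h1]
    exact Nat.Coprime.mul_left h3 c3
  · obtain ⟨m, e⟩ := B6.q1 h b
    refine ⟨m, e ▸ h.q1_cube, fun g _ hq => ?_⟩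
    rw [e, b.ji] at hq
    obtain ⟨σ, -, e⟩ := syl _ (zpowers_le.2 hq)
      (isPGroup_zpowers (k := 1) (by rw [pow_one, conj_pow, h.q1_cube]; simp))
    refine q1_J h fq (σ * g) ?_
    simpa [mul_assoc] using (e (conj_mem_cj (mem_zpowers _))).1

end H37.O8
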