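/- RIT, job P2: in the hexagon case two points have distance at most three. -/
import Cfsg.Agent.H66.RITSpec
import Cfsg.Agent.H26.R2H1a
import Cfsg.Agent.H1.R2F

set_option autoImplicit false

namespace H37.RitP2

open Cfsg Subgroup H98 H1.Gold H51.R2 H26.R2

universe u

variable {G : Type u} [Group G] {D : Set G} {X A B Y : Subgroup G} {q t : ℕ}

/-- A chain of four points, each centralising the one before. -/
theorem chain (hX : Pt D X) (hA : Pt D A) (hB : Pt D B) (hY : Pt D Y) (h1 : A ≤ cen X)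
    (h2 : B ≤ cen A) (h3 : Y ≤ cen B) : Nr D X Y ∨ ∃ A B, Path D X A B Y := by
  by_cases n : Nr D X Y
  · exact Or.inl n
  have n1 : ¬ B ≤ cen X := fun e => n ⟨B, hB, H51.R2.cen_symm e, h3⟩
  have n2 : ¬ Y ≤ cen A := fun e => n ⟨A, hA, H51.R2.cen_symm h1, e⟩
  refine Or.inr ⟨A, B, ⟨hX, hA, fun e => n1 (by rw [e]; exact h2), h1⟩,
    ⟨hA, hB, fun e => n1 (by rw [← e]; exact h1), h2⟩,
    ⟨hB, hY, fun e => n2 (by rw [← e]; exact h2), h3⟩, n1, n2⟩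

/-- A path that extends to a point near its start. -/
def Q (D : Set G) (X A B Y : Subgroup G) : Prop :=
  Path D X A B Y ∧ ∃ P, Col D Y P ∧ ¬ P ≤ cen B ∧ Nr D X P

theorem Q.cj (h : Hyp D) (g : G) (k : Q D X A B Y) :
    Q D (cj g X) (cj g A) (cj g B) (cj g Y) := by
  obtain ⟨p, P, c, n, r⟩ := k
  exact ⟨h.path_cj g p, _, h.col_cj g c, fun e => n (cj_le_cen_iff.1 e), h.nr_cj g r⟩

theorem on_line (a : FA D q) {W : Subgroup G} (l : Ln D W) (h1 : A ≤ W) (h2 : B ≤ W) :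
    B ≤ cen A := h2.trans ((a.ln_comm l).trans (H51.R2.cen_anti h1))

theorem all [Finite G] (h : Hyp D) (a : FA D q) (b : FB D) (c : FC D q t) (d : FD D) (e : FE D q t)
    (p : Path D X A B Y) : Q D X A B Y := by
  obtain ⟨x, hx⟩ := H1.R2.jobF G D q t h a b c d e
  have q0 : Q D (x 0) (x 1) (x 2) (x 3) :=
    ⟨hx.path 0, x 4, hx.col 3, hx.nc 2, x 5, (hx.col 5).pa, (hx.col 5).le, (hx.col 4).symm.le⟩
  obtain ⟨X1, B1, Y1, q1⟩ : ∃ X1 B1 Y1, Q D X1 A B1 Y1 := by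
    obtain ⟨g, eg⟩ := a.pt_cls q0.1.c2.pa p.c2.pa
    have := q0.cj h g
    rw [eg] at this
    exact ⟨_, _, _, this⟩
  obtain ⟨X2, B2, Y2, q2, e2⟩ : ∃ X2 B2 Y2, Q D X2 A B2 Y2 ∧ A ⊔ B2 = A ⊔ B := by
    obtain ⟨g, hg, eg⟩ := d.ftr q1.1.c2.fl p.c2.fl
    have := q1.cj h g
    rw [cj_of_cen hg] at this
    exact ⟨_, _, _, this, by rw [← eg, cj_sup, cj_of_cen hg]⟩
  obtain ⟨X3, Y3, q3⟩ : ∃ X3 Y3, Q D X3 A B Y3 := by
    obtain ⟨g, hg, eg⟩ := b.move p.c2.fl q2.1.c1.symm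
      (fun k => q2.1.n1 (on_line a p.c2.ln k (le_sup_right.trans e2.le)))
      ⟨q2.1.c2.pb, p.c2.ln, le_sup_right.trans e2.le⟩ p.c2.fr q2.1.c2.ne.symm p.c2.ne.symm
    have := q2.cj h g
    rw [cj_of_cen (q2.1.c1.symm.le hg), eg] at this
    exact ⟨_, _, this⟩
  have nl : ∀ {X A B Y : Subgroup G}, Path D X A B Y → A ⊔ X ≠ A ⊔ B := fun p k =>
    p.n1 (on_line a p.c2.ln (le_sup_right.trans k.le) le_sup_right)
  obtain ⟨X4, Y4, q4, e4⟩ : ∃ X4 Y4, Q D X4 A B Y4 ∧ A ⊔ X4 = A ⊔ X := by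
    obtain ⟨g, hg, eg⟩ := c.trans p.c2.fl p.c2.fr p.c2.ne q3.1.c1.symm.fl (nl q3.1) p.c1.symm.fl (nl p)
    have gA := cj_of_cen (H51.R2.cen_anti le_sup_left hg.2)
    have := q3.cj h g
    rw [gA, cj_of_cen (H51.R2.cen_anti le_sup_right hg.2)] at this
    exact ⟨_, _, this, by rw [← eg, cj_sup, gA]⟩
  obtain ⟨X5, Y5, q5, e5, e5'⟩ :
      ∃ X5 Y5, Q D X5 A B Y5 ∧ A ⊔ X5 = A ⊔ X ∧ B ⊔ Y5 = B ⊔ Y := by
    obtain ⟨g, hg, eg⟩ := c.trans p.c2.symm.fl p.c2.symm.fr p.c2.ne.symm q4.1.c3.fl (nl q4.1.symm)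
      p.c3.fl (nl p.symm)
    have gA := cj_of_cen (H51.R2.cen_anti le_sup_right hg.2)
    have gB := cj_of_cen (H51.R2.cen_anti le_sup_left hg.2)
    have := q4.cj h g
    rw [gA, gB] at this
    refine ⟨_, _, this, ?_, by rw [← eg, cj_sup, gB]⟩
    have k := cj_eq_self (a.M_fix q4.1.c1.symm.fl hg.1)
    rw [cj_sup, gA] at k
    exact k.trans e4
  obtain ⟨g, hg, eg⟩ := b.move p.c1.symm.fl p.c2
    (fun k => p.n1 (on_line a p.c1.symm.ln le_sup_right k))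
    ⟨q5.1.c1.pa, p.c1.symm.ln, le_sup_right.trans e5.le⟩ p.c1.symm.fr q5.1.c1.ne p.c1.ne
  have q6 := q5.cj h g
  rw [eg, cj_of_cen (p.c2.le hg), cj_eq_self_of_mem hg, cj_of_cen (q5.1.c3.symm.le hg)] at q6
  obtain ⟨g', hg', eg'⟩ := b.move p.c3.fl p.c2.symm
    (fun k => p.n2 (on_line a p.c3.ln k le_sup_right))
    ⟨q5.1.c3.pb, p.c3.ln, le_sup_right.trans e5'.le⟩ p.c3.fr q5.1.c3.ne.symm p.c3.ne.symm
  have q7 := q6.cj h g'
  rwa [eg', cj_of_cen (p.c1.le hg'), cj_eq_self_of_mem hg', cj_of_cen (p.c2.symm.le hg')] at q7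

theorem jobP2 : H66.RIT.JobP2.{u} := by
  intro G _ _ D q t h a b c d e X Y hX hY
  refine a.conn (fun Y => Nr D X Y ∨ ∃ A B, Path D X A B Y) hX
    (Or.inl ⟨X, hX, a.pt_comm hX, a.pt_comm hX⟩) ?_ Y hY
  rintro Y Y' k (⟨C, hC, h1, h2⟩ | ⟨A, B, p⟩)
  · exact chain hX hC k.pa k.pb (H51.R2.cen_symm h1) h2 k.le
  by_cases n : Y' ≤ cen B
  · exact chain hX p.c2.pa p.c2.pb k.pb p.c1.le p.c2.le n
  obtain ⟨-, P, kP, nP, C, hC, h1, h2⟩ := all h a b c d e p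
  have ne : ∀ {Z : Subgroup G}, ¬ Z ≤ cen B → Y ⊔ Z ≠ Y ⊔ B := fun nZ k' =>
    nZ (on_line a p.c3.symm.ln le_sup_right (le_sup_right.trans k'.le))
  obtain ⟨x, hx, ex⟩ := Cx.Xp_trans ⟨h, a, c, d, e⟩ p.symm kP.fl (ne nP) k.fl (ne n)
  have h3 := cj_le_cen (g := x) h1
  rw [cj_of_cen (Xp_le_r hx)] at h3
  exact chain hX (h.pt_cj x hC) (h.pt_cj x kP.pb) k.pb (H51.R2.cen_symm h3) (cj_le_cen h2)
    (on_line a k.ln ((cj_mono x le_sup_right).trans ex.le) le_sup_right)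

end H37.RitP2
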