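import Cfsg.Agent.H86.SPODef
import Cfsg.Agent.H64.YOTri

/-! STD-SP (row S3129), endgame: slot `KL` (triality). -/

set_option autoImplicit false
set_option linter.unusedSectionVars false

namespace H37.SPOKL

open H64.YE (Ac)
open H59.SO (Om Au E gam Lin TS Root Fr Par Par0)
open H86.SPO (Nv Ec Pr KG KR KN KL)
open H56 H58 QuadraticMap Module Subgroup

variable {F V : Type} [Field F] [Finite F] [CharP F 2] [AddCommGroup V] [Module F V]
  [FiniteDimensional F V] {Q : QuadraticForm F V}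

theorem lin (h : Par0 Q) (h8 : finrank F V ≠ 8) (β : Au Q) : Lin Q β := by
  rcases H91.SO.out_cases h with hs | ⟨e, -⟩
  · exact (H91.SO.range_gam h).ge (hs (H91.SO.out h β))
  · exact absurd e h8

theorem isPlus (kn : KN Q) {y : Om Q} (h2 : y * y = 1) (hn : ¬ Nv Q y) : IsPlus Q := by
  let T : V →ₗ[F] V := (y.1.1 : V →ₗ[F] V) + LinearMap.id
  have hT (x : V) : T x = y.1 x + x := rfl
  have hk (x : V) : x ∈ LinearMap.ker T ↔ y.1 x = x := by
    rw [LinearMap.mem_ker, hT, add_eq_zero_iff_eq_neg, H59.SO.neg2 F]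
  have e : LinearMap.range T = LinearMap.ker T := by
    ext x
    rw [hk, kn.im y h2 hn, LinearMap.mem_range]
    exact exists_congr fun _ => eq_comm
  refine ⟨LinearMap.ker T, ?_, fun u hu => ?_⟩
  · have := T.finrank_range_add_finrank_ker
    rw [e] at this
    omega
  · by_contra k
    exact hn ⟨u, k, (hk u).1 hu⟩

theorem ec0 (r : Fr Q) : Ec Q (E Q (r.e 0) (r.e 1 + r.f 1)) := by
  refine ⟨_, _, r.ne 0, r.qe 0, ?_, ?_, rfl⟩
  · rw [polar_add_right, r.ee, r.ef]; simp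
  · have := r.ef 1 1
    rw [polar, r.qe, r.qf] at this
    simp only [sub_zero, if_true] at this
    rw [this]; exact one_ne_zero

theorem ac (p : Par0 Q) (r : Fr Q) (kg : KG Q) (kr : KR Q) (y y' : Om Q) (hy : Ec Q y)
    (ha : Ac y y') (hn : Nv Q y') : Ec Q y' := by
  obtain ⟨β, rfl⟩ := ha
  by_cases hl : Lin Q β
  · obtain ⟨T, rfl⟩ := hl
    exact kg.eg T y hy
  have h8 : finrank F V = 8 := by_contra fun k => hl (lin p k β)
  obtain ⟨c, hc⟩ := isConj_iff.1 ((kg.ec _ y (ec0 r)).2 hy)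
  have e01 : polar Q (r.e 0) (r.f 1) = 0 := by rw [r.ef]; simp
  rw [H59.SO.E_add (r.qe 0) (r.ee 0 1) e01] at hc
  have rg : Root Q (β (c * E Q (r.e 0) (r.e 1) * c⁻¹)) :=
    H91.SO.root p β _ (H59.SO.Root.conj ⟨_, _, r.ts, rfl⟩ c)
  have rh : Root Q (β (c * E Q (r.e 0) (r.f 1) * c⁻¹)) :=
    H91.SO.root p β _ (H59.SO.Root.conj ⟨_, _, r.tsf (by decide), rfl⟩ c)
  have pr : β (c * E Q (r.e 0) (r.e 1) * c⁻¹) * β (c * E Q (r.e 0) (r.f 1) * c⁻¹) = β y := by
    rw [← map_mul, conj_mul, hc]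
  have cm : β (c * E Q (r.e 0) (r.e 1) * c⁻¹) * β (c * E Q (r.e 0) (r.f 1) * c⁻¹) =
      β (c * E Q (r.e 0) (r.f 1) * c⁻¹) * β (c * E Q (r.e 0) (r.e 1) * c⁻¹) := by
    rw [← map_mul, ← map_mul, conj_mul, conj_mul, H59.SO.E_comm]
  rcases kr.cl _ _ rg rh cm with k | k
  · rwa [pr] at k
  · have := kr.d8 h8 _ _ rg rh k (by rwa [pr])
    rw [pr] at this
    obtain ⟨u, a, h0, hu, hw, hq, rfl⟩ := hy
    exact absurd this (H91.SO.not_root p h0 hu hw hq β)

theorem jobKL : H86.SPO.JobKL := by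
  intro F V _ _ _ _ _ _ Q p r kg kr kn
  exact ⟨lin p.toPar0, fun h8 ⟨y, h2, hn⟩ => H64.YO.exists_not_lin p.toPar0 h8 (isPlus kn h2 hn),
    ac p.toPar0 r kg kr⟩

end H37.SPOKL
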