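import Cfsg.Agent.H65.SpAmal

/-! A central extension criterion for symplectic groups from the slim amalgam. -/

set_option autoImplicit false
set_option linter.unusedSectionVars false

namespace H37.SPPR

open H65.SpA Subgroup

variable {F V G : Type*} [Field F] [AddCommGroup V] [Module F V] [Group G] [DistribMulAction G V]
  [SMulCommClass G F V] {ω : LinearMap.BilinForm F V} {n : ℕ} {e f : ℕ → V}
  (fr : Frm G ω n e f)
include fr

theorem eq_one {g : G} (hg : g ∈ Fx G e f (fun _ => True) fun _ => True) : g = 1 :=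
  fr.ext _ _ fun x => by
    rw [one_smul]
    exact fr.fix (A := fun _ => False) (B := fun _ => False) hg ⟨by simp, by simp⟩ (by simp) (by simp)

theorem mem_Lg (g : G) : g ∈ Lg G e f n := by
  have h1 : ∀ l, n ≤ l → e l = 0 := fun l hl => by
    rw [fr.exp (e l)]
    refine Finset.sum_eq_zero fun m hm => ?_
    have := Finset.mem_range.1 hm
    simp [fr.ee, fr.zero_comm (fr.ef_ne l m (by omega))]
  have h2 : ∀ l, n ≤ l → f l = 0 := fun l hl => by
    rw [fr.exp (f l)]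
    refine Finset.sum_eq_zero fun m hm => ?_
    have := Finset.mem_range.1 hm
    simp [fr.ff, fr.ef_ne m l (by omega)]
  exact ⟨fun l hl => by rw [h1 l hl, smul_zero], fun l hl => by rw [h2 l hl, smul_zero]⟩

theorem gen_T {j : ℕ} (hj : j < n) {A : Subgroup G} (hA : ∀ c g, IsE ω g (e j) 0 c → g ∈ A) {g : G}
    (hg : g ∈ Fx G e f (fun _ => True) (· ≠ j)) : g ∈ A := by
  obtain ⟨v, hv, c, h⟩ := fr.dec hj hg trivial
  obtain rfl : v = 0 := fr.eq_zero (fun l => hv.1 l trivial) fun l => hv.2 l (em' _)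
  obtain ⟨t, ht⟩ := fr.eich (e j) 0 c (by simp)
  have h1 : t ∈ Fx G e f (fun _ => True) (· ≠ j) := ht.mem fr (fr.e_mem (by simp)) (zero_mem _)
  have h2 := mul_mem (inv_mem h1) hg
  have h3 : t⁻¹ * g = 1 := eq_one fr ⟨h2.1, fun l _ => by
    by_cases hl : l = j
    · rw [hl, mul_smul, ← h t ht, inv_smul_smul]
    · exact h2.2 l hl⟩
  rw [← inv_mul_eq_one.1 h3]
  exact hA c t ht

theorem gen_S {j : ℕ} (hj : j < n) {A : Subgroup G} (hA : ∀ c g, IsE ω g (e j) 0 c → g ∈ A)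
    (hB : ∀ c g, IsE ω g (f j) 0 c → g ∈ A) : Sg G e f j ≤ A := by
  have ef := fr.ef j hj
  have fe : ω (f j) (e j) = -1 := by rw [fr.swap, ef]
  have Te : ∀ c, ∃ t ∈ A, t ∈ Sg G e f j ∧ ∀ x, ω (e j) (t • x) = ω (e j) x ∧
      ω (f j) (t • x) = ω (f j) x - c * ω (e j) x := fun c => by
    obtain ⟨t, ht⟩ := fr.eich (e j) 0 c (by simp)
    exact ⟨t, hA c t ht, ht.mem fr (fr.e_mem (by simp)) (zero_mem _), fun x => by
      simp [ht x, fr.alt, fe, sub_eq_add_neg]⟩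
  have Tf : ∀ c, ∃ t ∈ A, t ∈ Sg G e f j ∧ ∀ x, ω (f j) (t • x) = ω (f j) x ∧
      ω (e j) (t • x) = ω (e j) x + c * ω (f j) x := fun c => by
    obtain ⟨t, ht⟩ := fr.eich (f j) 0 c (by simp)
    exact ⟨t, hB c t ht, ht.mem fr (fr.f_mem (by simp)) (zero_mem _), fun x => by
      simp [ht x, fr.alt, ef]⟩
  have s1 : ∀ g ∈ Sg G e f j, ω (e j) (g • e j) = 0 → ω (f j) (g • e j) = -1 → g ∈ A := by
    intro g hg h1 h2
    have h3 := fr.sub_mem hg (e j)
    have h4 : g • e j - e j = 0 := by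
      refine fr.eq_zero (fun l => ?_) fun l => ?_ <;> by_cases hl : l = j
      exacts [by simp [hl, h1, fr.alt], h3.1 l hl, by simp [hl, h2, fe], h3.2 l hl]
    refine gen_T fr hj hA ⟨fun l _ => ?_, hg.2⟩
    by_cases hl : l = j
    exacts [by rw [hl, sub_eq_zero.1 h4], hg.1 l hl]
  have s2 : ∀ g ∈ Sg G e f j, ω (e j) (g • e j) ≠ 0 → g ∈ A := by
    intro g hg h1
    obtain ⟨t, ht, hts, h2⟩ := Te ((ω (f j) (g • e j) + 1) / ω (e j) (g • e j))
    obtain ⟨t', ht', hts', h3⟩ := Tf (ω (e j) (g • e j))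
    have h4 : ω (f j) (t • g • e j) = -1 := by rw [(h2 _).2, div_mul_cancel₀ _ h1]; ring
    have := s1 (t' * (t * g)) (mul_mem hts' (mul_mem hts hg))
      (by rw [mul_smul, mul_smul, (h3 _).2, h4, (h2 _).1]; ring)
      (by rw [mul_smul, mul_smul, (h3 _).1, h4])
    simpa using mul_mem (inv_mem ht) (mul_mem (inv_mem ht') this)
  intro g hg
  by_cases h1 : ω (e j) (g • e j) = 0
  swap
  · exact s2 g hg h1
  obtain ⟨t, ht, hts, h2⟩ := Tf 1
  have h3 := fr.smul_mem hg (fr.e_mem (l := j) (by simp))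
  have := s2 (t * g) (mul_mem hts hg) fun h => by
    rw [mul_smul, (h2 _).2, h1, zero_add, one_mul] at h
    refine fr.e_ne hj ((smul_eq_zero_iff_eq g).1 (fr.eq_zero (fun l => ?_) fun l => ?_)) <;>
      by_cases hl : l = j
    exacts [by rw [hl, h1], h3.1 l hl, by rw [hl, h], h3.2 l hl]
  simpa using mul_mem (inv_mem ht) this

theorem gen_M {i : ℕ} (hi : i + 1 < n) {A : Subgroup G} (hA : ∀ c g, IsE ω g (e i) 0 c → g ∈ A)
    (hB : ∀ c g, IsE ω g (e (i + 1)) 0 c → g ∈ A)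
    (hC : ∀ (c : F) g, IsE ω g (e i) (c • e (i + 1)) 0 → g ∈ A) : Mg G e f i ≤ A := by
  intro g hg
  obtain ⟨v, hv, c, h⟩ := fr.dec (show i < n by omega) hg trivial
  have h0 : v = (-ω (f (i + 1)) v) • e (i + 1) := by
    rw [← sub_eq_zero]
    refine fr.eq_zero (fun l => by simp [hv.1 l trivial, fr.ee]) fun l => ?_
    by_cases hl : l = i + 1
    · simp [hl, fr.swap (f (i + 1)) (e (i + 1)), fr.ef _ hi]
    · simp [hv.2 l (by omega), fr.zero_comm (fr.ef_ne _ _ (Ne.symm hl))]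
  generalize -ω (f (i + 1)) v = s at h0
  subst h0
  obtain ⟨t1, h1⟩ := fr.eich (e i) 0 c (by simp)
  obtain ⟨t2, h2⟩ := fr.eich (e i) (s • e (i + 1)) 0 (by simp [fr.ee])
  have h3 : IsE ω (t1 * t2) (e i) (s • e (i + 1)) c := by
    simpa using h1.mul fr h2 (by simp) (by simp [fr.ee])
  have h4 : t1 * t2 ∈ Mg G e f i :=
    h3.mem fr (fr.e_mem (by simp)) (Submodule.smul_mem _ _ (fr.e_mem (by simp)))
  have h5 := mul_mem (inv_mem h4) hg
  have h6 : (t1 * t2)⁻¹ * g ∈ A := gen_T fr hi hB ⟨h5.1, fun l hl => by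
    by_cases h7 : l = i
    · rw [h7, mul_smul, ← h _ h3, inv_smul_smul]
    · exact h5.2 l ⟨h7, hl⟩⟩
  rw [← mul_inv_cancel_left (t1 * t2) g]
  exact mul_mem (mul_mem (hA _ _ h1) (hC _ _ h2)) h6

theorem pres (hF : ∃ t : F, t ≠ 0 ∧ t ≠ 1) (hn : 3 ≤ n) {Γ : Type*} [Group Γ] (π : Γ →* G)
    (S M P : ℕ → Subgroup Γ) (hS : ∀ j, j < n → (S j).map π = Sg G e f j)
    (hM : ∀ i, i + 1 < n → (M i).map π = Mg G e f i)
    (hP : ∀ l, l < n → (∀ g ∈ P l, π g = 1 → g ∈ center Γ) ∧ (∀ j, j < n → j ≠ l → S j ≤ P l) ∧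
      ∀ i, i + 1 < n → M i ≤ P l)
    (top : ∀ X : Subgroup Γ, (∀ j, j < n → S j ≤ X) → (∀ i, i + 1 < n → M i ≤ X) → X = ⊤) :
    π.ker ≤ center Γ ∧ Function.Surjective π := by
  let N : Subgroup Γ := π.ker ⊓ center Γ
  have : N.Normal := inferInstance
  let p := QuotientGroup.mk' N
  let π' : Γ ⧸ N →* G := QuotientGroup.lift N π fun x hx => hx.1
  have pp : ∀ x, π' (p x) = π x := fun x => rfl
  have inj : ∀ l, l < n → ∀ Y, Y ≤ (P l).map p → Inj π' Y := fun l hl Y hY y hy h => by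
    obtain ⟨x, hx, rfl⟩ := hY hy
    exact (QuotientGroup.eq_one_iff x).2 ⟨h, (hP l hl).1 x hx h⟩
  have lf : ∀ l, l < n → ∀ Y, Y ≤ P l → Lf π' (Y.map p) (Y.map π) := fun l hl Y hY =>
    ⟨by rintro _ ⟨x, hx, rfl⟩; exact ⟨x, hx, rfl⟩, by
      rintro _ ⟨x, hx, rfl⟩; exact ⟨_, ⟨x, hx, rfl⟩, rfl⟩, inj l hl _ (map_mono hY)⟩
  have ex : ∀ a b : ℕ, ∃ l, l < n ∧ a ≠ l ∧ b ≠ l := fun a b => by
    by_cases h0 : a ≠ 0 ∧ b ≠ 0
    · exact ⟨0, by omega, h0⟩
    by_cases h1 : a ≠ 1 ∧ b ≠ 1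
    · exact ⟨1, by omega, h1⟩
    exact ⟨2, by omega, by omega⟩
  have L := amalgam fr hF (π := π') (S := fun j => (S j).map p) (M := fun j => (M j).map p)
    (fun j h => by
      obtain ⟨l, hl, h1, -⟩ := ex j j
      rw [← hS j h]; exact lf l hl _ ((hP l hl).2.1 j h h1))
    (fun j h => by rw [← hM j h]; exact lf 0 (by omega) _ ((hP 0 (by omega)).2.2 j h))
    (fun j j' h h' _ => by
      obtain ⟨l, hl, h1, h2⟩ := ex j j'
      exact inj l hl _ (sup_le (map_mono ((hP l hl).2.1 j h h1)) (map_mono ((hP l hl).2.1 j' h' h2))))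
    (fun j j' h h' _ => inj 0 (by omega) _ (sup_le (map_mono ((hP 0 (by omega)).2.2 j h))
      (map_mono ((hP 0 (by omega)).2.2 j' h'))))
    (fun j j' h h' => by
      obtain ⟨l, hl, h1, -⟩ := ex j' j'
      exact inj l hl _ (sup_le (map_mono ((hP l hl).2.2 j h)) (map_mono ((hP l hl).2.1 j' h' h1))))
    (n - 1) (by omega)
  rw [show n - 1 + 1 = n by omega] at L
  have h1 := top ((Lh (fun j => (S j).map p) (fun j => (M j).map p) (n - 1)).comap p)
    (fun j h => map_le_iff_le_comap.1 ((le_Lh (S := fun j => (S j).map p) (n - 1)).1 j (by omega)))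
    (fun j h => map_le_iff_le_comap.1 ((le_Lh (M := fun j => (M j).map p) (n - 1)).2 j (by omega)))
  refine ⟨fun g hg => ((QuotientGroup.eq_one_iff g).1 (L.inj (p g) (h1.ge (mem_top g)) hg)).2,
    fun a => ?_⟩
  obtain ⟨y, -, rfl⟩ := L.surj a (mem_Lg fr a)
  obtain ⟨x, rfl⟩ := QuotientGroup.mk'_surjective N y
  exact ⟨x, rfl⟩

theorem pres' (hF : ∃ t : F, t ≠ 0 ∧ t ≠ 1) (hn : 3 ≤ n) {Γ : Type*} [Group Γ] (π : Γ →* G)
    (z y m : ℕ → F → Γ) (P : ℕ → Subgroup Γ) (hz : ∀ j c, j < n → IsE ω (π (z j c)) (e j) 0 c)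
    (hy : ∀ j c, j < n → IsE ω (π (y j c)) (f j) 0 c)
    (hm : ∀ i c, i + 1 < n → IsE ω (π (m i c)) (e i) (c • e (i + 1)) 0)
    (hP : ∀ l, l < n → (∀ g ∈ P l, π g = 1 → g ∈ center Γ) ∧ (∀ j c, j < n → z j c ∈ P l) ∧
      (∀ j c, j < n → j ≠ l → y j c ∈ P l) ∧ ∀ i c, i + 1 < n → m i c ∈ P l)
    (top : ∀ X : Subgroup Γ, (∀ j c, j < n → z j c ∈ X) → (∀ j c, j < n → y j c ∈ X) →
      (∀ i c, i + 1 < n → m i c ∈ X) → X = ⊤) :
    π.ker ≤ center Γ ∧ Function.Surjective π := by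
  refine pres fr hF hn π (fun j => closure {g | ∃ c, g = z j c ∨ g = y j c})
    (fun i => closure {g | ∃ c, g = z i c ∨ g = z (i + 1) c ∨ g = m i c}) P (fun j h => ?_)
    (fun i h => ?_) (fun l hl => ⟨(hP l hl).1, fun j h h' => (closure_le _).2 ?_,
      fun i h => (closure_le _).2 ?_⟩) fun X h1 h2 => top X
      (fun j c h => h1 j h (subset_closure ⟨c, Or.inl rfl⟩))
      (fun j c h => h1 j h (subset_closure ⟨c, Or.inr rfl⟩))
      fun j c h => h2 j h (subset_closure ⟨c, Or.inr (Or.inr rfl)⟩)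
  · refine le_antisymm (map_le_iff_le_comap.2 ((closure_le _).2 ?_)) (gen_S fr h
      (fun c g hg => ⟨z j c, subset_closure ⟨c, Or.inl rfl⟩, (hz j c h).unique fr hg⟩)
      fun c g hg => ⟨y j c, subset_closure ⟨c, Or.inr rfl⟩, (hy j c h).unique fr hg⟩)
    rintro _ ⟨c, rfl | rfl⟩
    exacts [(hz j c h).mem fr (fr.e_mem (by simp)) (zero_mem _),
      (hy j c h).mem fr (fr.f_mem (by simp)) (zero_mem _)]
  · have h' : i < n := by omega
    refine le_antisymm (map_le_iff_le_comap.2 ((closure_le _).2 ?_)) (gen_M fr h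
      (fun c g hg => ⟨z i c, subset_closure ⟨c, Or.inl rfl⟩, (hz i c h').unique fr hg⟩)
      (fun c g hg => ⟨z (i + 1) c, subset_closure ⟨c, Or.inr (Or.inl rfl)⟩,
        (hz _ c h).unique fr hg⟩)
      fun c g hg => ⟨m i c, subset_closure ⟨c, Or.inr (Or.inr rfl)⟩, (hm i c h).unique fr hg⟩)
    rintro _ ⟨c, rfl | rfl | rfl⟩
    exacts [(hz i c h').mem fr (fr.e_mem (by simp)) (zero_mem _),
      (hz _ c h).mem fr (fr.e_mem (by simp)) (zero_mem _),
      (hm i c h).mem fr (fr.e_mem (by simp)) (Submodule.smul_mem _ _ (fr.e_mem (by simp)))]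
  · rintro _ ⟨c, rfl | rfl⟩
    exacts [(hP l hl).2.1 j c h, (hP l hl).2.2.1 j c h h']
  · rintro _ ⟨c, rfl | rfl | rfl⟩
    exacts [(hP l hl).2.1 i c (by omega), (hP l hl).2.1 _ c h, (hP l hl).2.2.2 i c h]

end H37.SPPR
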