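import Cfsg.Agent.H67.SPIII
import Cfsg.Agent.H37.SPPRa

/-! STD-SP, chapter III, slot PR: the presentation of `Sp_(2k)(K)` modulo the centre. -/

set_option autoImplicit false
set_option linter.unusedSectionVars false

namespace H37.SPPR

open H67.SP H67.UA Subgroup

universe u

variable {n : ℕ} {K : Type} [Field K] [StarRing K] [TrivialStar K] [CharP K 2]

/-- the action on vectors -/
@[reducible] def act : DistribMulAction (XU n K) (Vn n K) where
  smul := ac
  one_smul := ac_one
  mul_smul := ac_mul
  smul_zero := ac_zero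
  smul_add := ac_add

attribute [local instance] act

theorem smul_def (g : XU n K) (v : Vn n K) : g • v = ac g v := rfl

theorem scc : SMulCommClass (XU n K) K (Vn n K) := ⟨ac_smul⟩

attribute [local instance] scc

variable (n K) in
/-- the form -/
def om : LinearMap.BilinForm K (Vn n K) := LinearMap.mk₂ K hf hf_add_left hf_smul_left hf_add_right
  fun c x y => by rw [hf_smul_right, star_trivial, smul_eq_mul]

omit [CharP K 2] in
theorem om_apply (x y : Vn n K) : om n K x y = hf x y := rfl

omit [CharP K 2] in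
theorem hf_comm (x y : Vn n K) : hf x y = hf y x := by rw [← star_hf, star_trivial]

variable (n K) in
/-- first half of the basis -/
def eV (l : ℕ) : Vn n K := if l < kk n then ev (Fin.ofNat (n + 1) l) else 0
variable (n K) in
/-- second half of the basis -/
def fV (l : ℕ) : Vn n K := if l < kk n then ev (Fin.ofNat (n + 1) l).rev else 0

theorem isE [FV n K] {a v : Vn n K} (c : K) (h : hf a v = 0) : H65.SpA.IsE (om n K) (EE a v c) a v c :=
  fun x => by
    rw [smul_def, ac_EE (FV.ok _ _ _ (hf_symm h)), om_apply, om_apply, hf_comm v, hf_comm a]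

theorem ofn {l : ℕ} (_ho : Odd n) (h : l < kk n) : (Fin.ofNat (n + 1) l).val = l :=
  Nat.mod_eq_of_lt (by unfold kk at h; omega)

theorem frm [FV n K] (ho : Odd n) : H65.SpA.Frm (XU n K) (om n K) (kk n) (eV n K) (fV n K) where
  alt := FV.iso
  ee i j := by
    unfold eV
    split_ifs with hi hj
    · rw [om_apply, hf_ev, if_neg]
      rw [Fin.ext_iff, Fin.val_rev, ofn ho hi, ofn ho hj]
      unfold kk at hi hj; omega
    all_goals simp
  ff i j := by
    unfold fV
    split_ifs with hi hj
    · rw [om_apply, hf_ev, if_neg]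
      rw [Fin.rev_inj, Fin.ext_iff, Fin.val_rev, ofn ho hi, ofn ho hj]
      unfold kk at hi hj; omega
    all_goals simp
  ef_ne i j h := by
    unfold eV fV
    split_ifs with hi hj
    · rw [om_apply, hf_ev, if_neg]
      rw [Fin.rev_inj, Fin.ext_iff, ofn ho hi, ofn ho hj]
      omega
    all_goals simp
  ef i hi := by rw [eV, fV, if_pos hi, if_pos hi, om_apply, hf_ev, if_pos rfl]
  exp y := by
    ext i
    have key : ∀ l ∈ Finset.range (kk n), (om n K (eV n K l) y • fV n K l - om n K (fV n K l) y • eV n K l) i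
        = (if n - i.val = l then y i else 0) + if i.val = l then y i else 0 := fun l hl => by
      have hl := Finset.mem_range.1 hl
      rw [eV, fV, if_pos hl, if_pos hl, om_apply, om_apply, hf_ev_left, hf_ev_left, star_trivial,
        star_trivial, Pi.sub_apply, CharTwo.sub_eq_add, Pi.smul_apply, Pi.smul_apply, ev_apply,
        ev_apply, Fin.rev_rev]
      have h1 : i = (Fin.ofNat (n + 1) l).rev ↔ n - i.val = l := by
        rw [Fin.ext_iff, Fin.val_rev, ofn ho hl]
        have := i.2
        unfold kk at hl; omega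
      have h2 : i = Fin.ofNat (n + 1) l ↔ i.val = l := by rw [Fin.ext_iff, ofn ho hl]
      congr 1
      · by_cases h : n - i.val = l
        · rw [if_pos h, if_pos (h1.2 h), ← h1.2 h, smul_eq_mul, mul_one]
        · rw [if_neg h, if_neg (mt h1.1 h), smul_zero]
      · by_cases h : i.val = l
        · rw [if_pos h, if_pos (h2.2 h), ← h2.2 h, smul_eq_mul, mul_one]
        · rw [if_neg h, if_neg (mt h2.1 h), smul_zero]
    rw [Finset.sum_apply, Finset.sum_congr rfl key, Finset.sum_add_distrib, Finset.sum_ite_eq,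
      Finset.sum_ite_eq]
    have := i.2
    obtain ⟨r, hr⟩ := ho
    by_cases h : i.val < kk n
    · rw [if_neg, if_pos (Finset.mem_range.2 h), zero_add]
      rw [Finset.mem_range]; unfold kk at h ⊢; omega
    · rw [if_pos, if_neg (mt Finset.mem_range.1 h), add_zero]
      rw [Finset.mem_range]; unfold kk at h ⊢; omega
  inv := hf_ac
  ext _ _ := ac_ext
  eich a v c h := ⟨_, isE c h⟩

theorem jobPR : JobPR.{u} := by
  intro n K _ _ _ _ _ hp _ hK Γ _ π z m P hz hm hP top
  have ho := hp.odd
  have h5 := hp.five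
  have hF : ∃ t : K, t ≠ 0 ∧ t ≠ 1 := by
    by_contra! h
    have h1 : (Set.univ : Set K) ⊆ {0, 1} := fun t _ => by
      by_cases h0 : t = 0
      exacts [Or.inl h0, Or.inr (h t h0)]
    have h2 := Set.ncard_le_ncard h1
    rw [Set.ncard_univ, Set.ncard_pair zero_ne_one] at h2
    omega
  have succ : ∀ i, i + 1 < kk n → Fin.ofNat (n + 1) (i + 1) = Fin.ofNat (n + 1) i + 1 := fun i h => by
    rw [Fin.ext_iff, ofn ho h, Fin.val_add_one_of_lt' (by rw [ofn ho (by omega)]; unfold kk at h; omega),
      ofn ho (by omega)]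
  refine pres' (frm ho) hF (by unfold kk; omega) π (fun j => z (Fin.ofNat _ j))
    (fun j => z (Fin.ofNat _ j).rev) (fun j => m (Fin.ofNat _ j)) (fun j => P (Fin.ofNat _ j))
    (fun j c h => ?_) (fun j c h => ?_) (fun i c h => ?_) (fun l hl => ?_) fun X h1 h2 h3 => ?_
  · rw [hz, eV, if_pos h]; exact isE c (by simp)
  · rw [hz, fV, if_pos h]; exact isE c (by simp)
  · have h' : i < kk n := by omega
    have h1 := (frm (K := K) ho).ee i (i + 1)
    rw [hm _ _ (by rwa [ofn ho h']), ← succ i h]
    rw [eV, eV, if_pos h, if_pos h'] at h1 ⊢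
    exact isE 0 (by rw [hf_smul_right, ← om_apply, h1, mul_zero])
  · obtain ⟨h1, h2, h3⟩ := hP (Fin.ofNat _ l) (by rwa [ofn ho hl])
    refine ⟨h1, fun j c h => h2 _ c ?_, fun j c h h' => h2 _ c ?_, fun i c h => h3 _ c ?_⟩
    · rw [Ne, Fin.ext_iff, Fin.val_rev, ofn ho h, ofn ho hl]
      unfold kk at h hl; omega
    · rwa [Ne, Fin.rev_inj, Fin.ext_iff, ofn ho h, ofn ho hl]
    · rwa [ofn ho (by omega)]
  · refine top_le_iff.1 (top.ge.trans ((closure_le _).2 ?_))
    rintro _ (⟨j, c, rfl⟩ | ⟨i, c, h, rfl⟩)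
    · by_cases h : j.val < kk n
      · simpa using h1 j c h
      · have h4 : j.rev.val < kk n := by
          obtain ⟨r, hr⟩ := ho
          have := j.2
          rw [Fin.val_rev]; unfold kk at h ⊢; omega
        simpa [-Fin.val_rev] using h2 j.rev c h4
    · simpa using h3 i c h

end H37.SPPR
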