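import Cfsg.Agent.H37.SgL
import Cfsg.Agent.H63.Inv4

/-! STD-G facts, kit for the slots FD and FE: the graph symmetry of `E₆`. -/

set_option autoImplicit false
set_option maxHeartbeats 400000
set_option linter.unusedSectionVars false

namespace H37.Sg

open Cfsg Cfsg.Lie H63 H65 H64 H64.SG

variable {D : ChevalleyDatum} [RS D]

/-- Combinatorial facts on the graph symmetry. -/
structure Gr (ρ : Equiv.Perm (Rt D)) : Prop extends Rho ρ where
  ch : ∀ A ∈ chs D D.rank (List.range D.rank), ∀ a : Rt D, (a : ℕ) ∈ A → ρ a = a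
  d4 : ∃ (v : (H64.wdata D).W) (J : List ℕ),
    (∀ r, ρ (v.1 r) = v.1 r ↔ r ∈ (H64.wdata D).PhiJ {j | (j : ℕ) ∈ J}) ∧
    (∀ r, ρ (v.1 r) = v.1 r → Pos (v.1 r) → Pos r) ∧ ∀ A ∈ chs D J.length J, A = [] ∨
      ∃ b O, v.1 b = hi D ∧ A = (b :: O).map Fin.val ∧ Ort (b :: O) ∧ ∀ a ∈ O, ρ (v.1 a) = v.1 a
  lng : ∀ a b : Rt D, ρ a = a → ρ b = b → D.pairing a b = 0 →
    ∃ β : Rt D, ρ β ≠ β ∧ D.pairing β b = -1 ∧ D.pairing β a = 1
  l2 : ∀ u : Rt D, ρ u = u → ∃ v : Rt D, ρ v = v ∧ D.pairing u v = 0 ∧ (0 ≤ D.pairing (hi D) u →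
    0 ≤ D.pairing (hi D) v ∧ D.pairing (hi D) v ≤ D.pairing (hi D) u)
  sht : ∀ u : Rt D, ρ u ≠ u → ∃ s : Rt D, D.pairing (hi D) s = 0 ∧ D.pairing s u = 1 ∧
    D.pairing s (ρ u) = 0
  cnt : ∃ L : List (Rt D), L.Nodup ∧ (∀ r ∈ L, Pos r ∧ r ≤ ρ r) ∧
    D.nroots / 2 + 6 ≤ L.length * 2 ∧ 2 * (D.nroots / 2) ≤ L.length * 3
  mv : ∃ r : Rt D, ρ r ≠ r ∧ Pos r ∧ D.pairing r (hi D) = 0

/-- An element of the Weyl group of `E₆` moving the standard `D₄` to the fixed roots. -/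
def vN (r : ℕ) : ℕ := reflN chevE6 36 (reflN chevE6 41 (reflN chevE6 58 (reflN chevE6 63 r)))

set_option synthInstance.maxSize 2000 in
open H68 in
theorem tb : (∀ A ∈ chs chevE6 chevE6.rank (List.range chevE6.rank), ∀ a ∈ A, rhoE6 a = a) ∧
    (∀ r < 72, (rhoE6 (vN r) = vN r ↔ ∀ i < 6, i ∉ [1, 2, 3, 4] → co chevE6 r i = 0) ∧
      (rhoE6 (vN r) = vN r → chevE6.IsPosRoot (vN r) → chevE6.IsPosRoot r)) ∧
    (∀ A ∈ chs chevE6 4 [1, 2, 3, 4], A = [] ∨ A = 53 :: A.tail ∧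
      A.Pairwise (chevE6.pairing · · = 0) ∧ ∀ a ∈ A.tail, a < 72 ∧ rhoE6 (vN a) = vN a) ∧
    (∀ a < 72, rhoE6 a = a → ∀ b < 72, rhoE6 b = b → chevE6.pairing a b = 0 →
      ∃ β < 72, rhoE6 β ≠ β ∧ chevE6.pairing β b = -1 ∧ chevE6.pairing β a = 1) ∧
    (∀ u < 72, rhoE6 u = u → ∃ v < 72, rhoE6 v = v ∧ chevE6.pairing u v = 0 ∧
      (0 ≤ chevE6.pairing 71 u → 0 ≤ chevE6.pairing 71 v ∧
        chevE6.pairing 71 v ≤ chevE6.pairing 71 u)) ∧
    (∀ u < 72, rhoE6 u ≠ u → ∃ s < 72, chevE6.pairing 71 s = 0 ∧ chevE6.pairing s u = 1 ∧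
      chevE6.pairing s (rhoE6 u) = 0) ∧
    (∀ r < 72, ∀ s < 72, (∀ i < 6, chevE6.cartan (piE6 i) s = chevE6.cartan i r) → s = rhoE6 r) := by
  refine ⟨?_, ?_, ?_, ?_, ?_, ?_, ?_⟩ <;> decide +kernel

theorem grE6 [RS chevE6] {ρ : Equiv.Perm (Rt chevE6)} (R : Rho ρ)
    (hρ : ∀ r, (ρ r : ℕ) = H68.rhoE6 r) : Gr ρ := by
  have hD : ET chevE6 := Or.inl rfl
  obtain ⟨t1, t2, t3, t4, t5, t6, -⟩ := tb
  have f : ∀ r, ρ r = r ↔ H68.rhoE6 r = r := fun r => by rw [← hρ, Fin.val_inj]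
  refine ⟨R, fun A hA a ha => (f a).2 (t1 A hA a ha), ?_, fun a b ha hb h => ?_, fun u hu => ?_,
    fun u hu => ?_, ?_, ⟨⟨36, by decide⟩, (f _).not.2 (by decide),
      (isPosRoot_iff _).1 (show chevE6.IsPosRoot 36 by decide +kernel),
      show chevE6.pairing 36 71 = 0 by decide +kernel⟩⟩
  · let v : (H64.wdata chevE6).W := reflW ⟨36, by decide⟩ * reflW ⟨41, by decide⟩ *
      reflW ⟨58, by decide⟩ * reflW ⟨63, by decide⟩
    have hv : ∀ r, (v.1 r : ℕ) = vN r := fun r => by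
      show ((refl _ (refl _ (refl _ (refl _ r))) : Rt chevE6) : ℕ) = _
      simp only [← reflN_eq]; rfl
    refine ⟨v, [1, 2, 3, 4], fun r => ?_, fun r h1 h2 => ?_, fun A hA => (t3 A hA).imp_right ?_⟩
    · rw [f, hv, (t2 r r.2).1, H64.mem_PhiJ_iff]
      simp only [hD.rt_eq]
      exact ⟨fun h i => h i i.2, fun h i hi => h ⟨i, hi⟩⟩
    · rw [← isPosRoot_iff] at h2 ⊢
      rw [f] at h1
      rw [hv] at h1 h2
      exact (t2 r r.2).2 h1 h2
    · rintro ⟨h1, h2, h3⟩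
      obtain ⟨O, hO⟩ := exists_map_val (n := chevE6.nroots) fun a ha => (h3 a ha).1
      rw [hO] at h1 h3
      refine ⟨⟨53, by decide⟩, O, Fin.ext ((hv _).trans (show vN 53 = 71 by decide +kernel)), h1, ?_,
        fun a ha => ?_⟩
      · rw [h1] at h2
        exact (List.pairwise_map (f := Fin.val) (l := ⟨53, by decide⟩ :: O)).1 h2
      · rw [f, hv]
        exact (h3 a (List.mem_map_of_mem ha)).2
  · obtain ⟨β, h1, h2, h3⟩ := t4 a a.2 ((f a).1 ha) b b.2 ((f b).1 hb) h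
    exact ⟨⟨β, h1⟩, (f _).not.2 h2, h3⟩
  · obtain ⟨β, h1, h2, h3⟩ := t5 u u.2 ((f u).1 hu)
    exact ⟨⟨β, h1⟩, (f _).2 h2, h3⟩
  · obtain ⟨β, h1, h2⟩ := t6 u u.2 ((f u).not.1 hu)
    exact ⟨⟨β, h1⟩, by rwa [hρ]⟩
  · obtain ⟨L, hL⟩ := exists_map_val (n := chevE6.nroots) (A := (List.range 72).filter fun r =>
      36 ≤ r ∧ r ≤ H68.rhoE6 r) fun a ha => List.mem_range.1 (List.mem_of_mem_filter ha)
    have h1 : L.length = 24 := by rw [← List.length_map Fin.val, ← hL]; decide +kernel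
    refine ⟨L, .of_map Fin.val (hL ▸ List.nodup_range.filter _), fun r hr => ?_, ?_⟩
    · have h2 := (List.mem_filter.1 (hL ▸ List.mem_map_of_mem (f := Fin.val) hr)).2
      simp only [Bool.decide_and, Bool.and_eq_true, decide_eq_true_eq] at h2
      have h3 : ∀ r < 72, 36 ≤ r → chevE6.IsPosRoot r := by decide +kernel
      exact ⟨(isPosRoot_iff _).1 (h3 r r.2 h2.1), by rw [Fin.le_def, hρ]; exact h2.2⟩
    · rw [h1]; decide

theorem rho_one : Rho (1 : Equiv.Perm (Rt D)) := ⟨fun _ => rfl, fun _ => rfl, fun _ _ => rfl,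
  fun _ => Or.inl rfl⟩

variable [Tab D] [Comm D] {F : Type} [Field F] [Finite F] (T : Ty D F)

theorem rho_gp : Rho T.gp := ⟨T.gp_gp, T.gp_ht, T.gp_pairing, T.gp_orth⟩

theorem gr_of (hD : ET D) {ω : MulAut ↥(D.group F)} {π : Fin D.rank → Fin D.rank}
    {c : Fin D.rank → Fˣ} {σ : RingAut F} (h : DT D F ω π c σ) (hg : T.gr ω ≠ 1) : Gr T.gp := by
  have A := ad D F
  have h1 := h.isStd A.toSt
  let p := Equiv.ofBijective π (Finite.injective_iff_bijective.1 (h1.injective A.toStB))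
  have hp : D.IsDiagramSymmetry p := fun i j hij => h1.bonds_eq A.toStB hij
  have hn : p ≠ 1 := fun e => hg ((T.spec ω 1 π c σ (by simpa using h)).2.2
    (congrArg (fun e : Equiv.Perm (Fin D.rank) => (e : _ → _)) e))
  have h2 : ∀ i, T.gp (simpleR i) = simpleR (π i) := fun i => by
    obtain ⟨e, he, h3⟩ := T.std ω π c σ h (simpleR i)
    rw [if_neg hg] at h3
    exact ((mp_of_surj A.toSt (fun t => ⟨σ.symm (e⁻¹ * t), by simp [he]⟩) h3).eq_iff A.toStB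
      (h1 i).1).1 rfl
  rcases hD with rfl | rfl | rfl
  · have h3 := sym_E6 hp
    simp only [List.mem_cons, List.not_mem_nil, or_false] at h3
    rcases h3 with e | e
    · exact absurd (lst_injective (e.trans (by decide +kernel))) hn
    refine grE6 (rho_gp T) fun r => tb.2.2.2.2.2.2 r r.2 _ (T.gp r).2 fun i hi => ?_
    have h4 := T.gp_pairing (simpleR ⟨i, hi⟩) r
    rw [h2, simpleR_val, simpleR_val, pairing_simple, pairing_simple,
      show (π ⟨i, hi⟩ : ℕ) = _ from (lst_getD p _).symm, e] at h4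
    exact h4
  · exact absurd (lst_injective ((List.mem_singleton.1 (sym_E7 hp)).trans (by decide +kernel))) hn
  · exact absurd (lst_injective ((List.mem_singleton.1 (sym_E8 hp)).trans (by decide +kernel))) hn

end H37.Sg
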