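import Cfsg.Agent.H37.SgG

/-! STD-G facts, kit for the slots FD and FE: normal form of an outer involution. -/

set_option autoImplicit false
set_option maxHeartbeats 400000
set_option linter.unusedSectionVars false

namespace H37.Sg

open Cfsg Cfsg.Lie H63 H65 H64 H64.SG H48.SgTy
open scoped Pointwise

theorem dih {G : Type*} [Group G] {a b : G} (ha : a * a = 1) (hb : b * b = 1) {m : ℕ} (hm : Odd m)
    (h : (a * b) ^ m = 1) : ∃ j : ℕ, (a * b) ^ j * b * ((a * b) ^ j)⁻¹ = a := by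
  obtain ⟨k, rfl⟩ := hm
  have e : b * (a * b)⁻¹ * b⁻¹ = a * b := by
    rw [mul_inv_rev, inv_eq_of_mul_eq_one_right ha, inv_eq_of_mul_eq_one_right hb, ← mul_assoc, hb,
      one_mul]
  refine ⟨k + 1, ?_⟩
  calc _ = (a * b) ^ (k + 1) * (b * (a * b)⁻¹ * b⁻¹) ^ (k + 1) * b := by
        rw [conj_pow, inv_pow]; group
    _ = (a * b) ^ (2 * k + 1) * (a * (b * b)) := by
        rw [e, ← pow_add, ← mul_assoc a, ← mul_assoc, ← pow_succ]; congr 2; ring
    _ = a := by rw [h, hb]; group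

theorem mul_conj {G : Type*} [Group G] (φ : MulAut G) (g : G) :
    φ * MulAut.conj g = MulAut.conj (φ g) * φ := by
  ext y; simp

theorem conj_conj {G : Type*} [Group G] (φ : MulAut G) (g : G) :
    φ * MulAut.conj g * φ⁻¹ = MulAut.conj (φ g) := by rw [mul_conj, mul_inv_cancel_right]

theorem exists_half {F : Type*} [Field F] [CharP F 2] {σ : RingAut F} (h2 : ∀ t, σ (σ t) = t)
    (h1 : σ ≠ 1) : ∃ a, a + σ a = 1 := by
  obtain ⟨b, hb⟩ : ∃ b, σ b ≠ b := by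
    by_contra! hc
    exact h1 (RingEquiv.ext hc)
  have h5 : b + σ b ≠ 0 := fun e => hb (CharTwo.add_eq_zero.1 e).symm
  exact ⟨b / (b + σ b), by rw [map_div₀, map_add, h2, add_comm (σ b), ← add_div, div_self h5]⟩

variable {D : ChevalleyDatum} [RS D] (hD : ET D) {ρ : Equiv.Perm (Rt D)}
include hD

theorem Gr.cfg (R : Gr ρ) {a b : Rt D} (ha : ρ a = a) (hb : ρ b = b) (h : D.pairing a b = 0) :
    ∃ β ε : Rt D, ρ β ≠ β ∧ ρ ε ≠ ε ∧ rt ε = rt β + rt b ∧ rt a = rt β + rt (ρ ε) ∧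
      ∀ p : Rt D, ρ p = p → 2 * D.pairing p β = D.pairing p a - D.pairing p b := by
  obtain ⟨β, h1, h2, h3⟩ := R.lng a b ha hb h
  obtain ⟨ε, h4⟩ := exists_add h2
  have h5 := R.add hD h4
  have h6 := (R.orth β).resolve_left h1
  rw [hb] at h5
  have h7 : rt a = rt β + rt (ρ ε) := add_of_pairing hD (by rw [pairing_add β h5, h6, h2, zero_add])
    (by rw [pairing_add a h5, ← R.pr', ha, hD.pairing_comm a β, h3, h]; rfl)
  refine ⟨β, ε, h1, fun e => h1 (rt_inj ?_), h4, h7, fun p hp => ?_⟩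
  · rw [e, h4] at h5
    exact (add_right_cancel h5).symm
  · rw [pairing_add p h7, pairing_add p h5, ← R.pr', hp]; ring

section Grp

variable {F : Type*} [Field F] [CharP F 2] {G : Type*} [Group G] {x : ℕ → F → G}

theorem conj3 (h : St D x) (R : Rho ρ) {a b β ε : Rt D} (hb : ρ b = b) (h1 : rt ε = rt β + rt b)
    (h2 : rt a = rt β + rt (ρ ε)) (c : F) :
    x β 1 * x (ρ β) 1 * x b c * (x β 1 * x (ρ β) 1)⁻¹ = x b c * (x ε c * x (ρ ε) c * x a c) := by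
  have h3 := R.add hD h1
  rw [hb] at h3
  calc _ = x β 1 * (x (ρ β) 1 * x b c * (x (ρ β) 1)⁻¹) * (x β 1)⁻¹ := by group
    _ = x β 1 * x b c * (x β 1)⁻¹ * (x β 1 * x (ρ ε) c * (x β 1)⁻¹) := by
      rw [hD.conj_add h h3, one_mul]; group
    _ = _ := by rw [hD.conj_add h h1, hD.conj_add h h2, one_mul]; group

theorem elim (h : St D x) (R : Gr ρ) {γ : G →* G} (hγ : ∀ (r : Rt D) a, γ (x r a) = x (ρ r) a)
    {b : Rt D} (hb : ρ b = b) (O : List (Rt D)) (h1 : Ort (b :: O)) (h2 : ∀ a ∈ O, ρ a = a) :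
    ∃ v, v⁻¹ * ((b :: O).map fun s : Rt D => x s 1).prod * γ v = x b 1 := by
  induction O with
  | nil => exact ⟨1, by simp⟩
  | cons a O ih =>
    simp only [List.pairwise_cons, List.forall_mem_cons] at h1 h2
    obtain ⟨v, hv⟩ := ih (List.pairwise_cons.2 ⟨h1.1.2, h1.2.2⟩) h2.2
    obtain ⟨β, ε, -, -, c1, c2, c3⟩ := R.cfg hD h2.1 hb (pairing_eq_zero_comm.1 h1.1.1)
    simp only [List.map_cons, List.prod_cons] at hv ⊢
    have p1 : ∀ p ∈ O, D.pairing p β = 0 := fun p hp => by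
      have := c3 p (h2.2 p hp)
      rw [pairing_eq_zero_comm.1 (h1.1.2 p hp), pairing_eq_zero_comm.1 (h1.2.1 p hp)] at this
      omega
    have cm : ∀ s : Rt D, (∀ p ∈ O, D.pairing p s = 0) →
        Commute (x s 1) (O.map fun s : Rt D => x s 1).prod := fun s hs =>
      Commute.list_prod_right _ _ (List.forall_mem_map.2 fun p hp =>
        (hD.comm_of_nonneg h (hs p hp).ge 1 1).symm)
    have p2 : ∀ p ∈ O, D.pairing p (ρ β) = 0 := fun p hp => by rw [← R.pr', h2.2 p hp, p1 p hp]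
    have p3 : ∀ p ∈ O, D.pairing p (ρ ε) = 0 := fun p hp => by
      rw [← R.pr', h2.2 p hp, pairing_add p c1, p1 p hp, pairing_eq_zero_comm.1 (h1.1.2 p hp)]; rfl
    have p4 : D.pairing a β = 1 := by
      have := c3 a h2.1
      rw [pairing_self, pairing_eq_zero_comm.1 h1.1.1] at this
      omega
    have p5 : 0 ≤ D.pairing b ε := by
      rw [pairing_add b c1, pairing_self, hD.pairing_comm, hD.pairing_of_add c1]; omega
    have q1 : Commute (x β 1 * x (ρ β) 1) (x a 1 * (O.map fun s : Rt D => x s 1).prod) :=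
      .mul_left (.mul_right (hD.comm_of_nonneg h (by omega) 1 1).symm (cm _ p1))
        (.mul_right (hD.comm_of_nonneg h (by rw [← R.pr', h2.1]; omega) 1 1).symm (cm _ p2))
    refine ⟨(x β 1 * x (ρ β) 1)⁻¹ * x ε 1 * v, ?_⟩
    refine Eq.trans ?_ hv
    rw [map_mul, map_mul, map_inv, map_mul, hγ, hγ, hγ, R.inv,
      ← hD.comm_of_nonneg h (R.nonneg β)]
    generalize (O.map fun s : Rt D => x s 1).prod = y at *
    calc _ = v⁻¹ * (x ε 1)⁻¹ * (x β 1 * x (ρ β) 1 * x b 1 * (x β 1 * x (ρ β) 1)⁻¹) *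
          (x β 1 * x (ρ β) 1 * (x a 1 * y) * (x β 1 * x (ρ β) 1)⁻¹) * x (ρ ε) 1 * γ v := by group
      _ = v⁻¹ * (x ε 1)⁻¹ * (x b 1 * x ε 1) * x (ρ ε) 1 * (x a 1 * x a 1) * (y * x (ρ ε) 1) * γ v := by
        rw [conj3 hD h R.toRho hb c1 c2, q1.eq]; group
      _ = v⁻¹ * x b 1 * (x (ρ ε) 1 * x (ρ ε) 1) * y * γ v := by
        rw [x_sq h, hD.comm_of_nonneg h p5, ← (cm _ p3).eq]; group
      _ = _ := by rw [x_sq h]; group

end Grp

variable [Tab D] [Comm D] {F : Type} [Field F] [Finite F] [CharP F 2]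

local notation "𝔵" => xG D F

theorem diagI : Diag D 𝔵 :=
  diag_of_ext (ad D F).toStB (ad D (AlgebraicClosure F)).toStB CharTwo.two_eq_zero
    (mapG D (algebraMap F _)) (mapG_injective _) _ (mapG_xG _) one_ne_zero
    (cube_hyp fun i hi s hs => by
      have := hD.pairing_le (simpleR ⟨i, hi⟩) ⟨s, hs⟩
      rw [simpleR_val, pairing_simple] at this
      simp only at this
      omega)

omit hD in
theorem exists_nrm {B : Subgroup (MulAut ↥(D.group F))} (hB : IsPGroup 2 B) : ∃ g : ↥(D.group F), ∀ β ∈ B,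
    (UU D 𝔵).map (MulAut.conj g * β * (MulAut.conj g)⁻¹).toMonoidHom = UU D 𝔵 := by
  obtain ⟨P, hP⟩ := (ad D F).exists_sylow 2
  obtain ⟨Q, hQ⟩ := hB.nonempty_fixed_point_of_prime_not_dvd_card (Sylow 2 ↥(D.group F))
    (not_dvd_card_sylow 2 ↥(D.group F))
  obtain ⟨k, rfl⟩ := MulAction.exists_smul_eq ↥(D.group F) Q P
  refine ⟨k, fun β hβ => ?_⟩
  have h1 : β • (Q : Subgroup ↥(D.group F)) = Q := congrArg (fun Q : Sylow 2 ↥(D.group F) => (Q : Subgroup ↥(D.group F))) (hQ ⟨β, hβ⟩)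
  show (MulAut.conj k * β * (MulAut.conj k)⁻¹) • UU D 𝔵 = _
  rw [show UU D 𝔵 = MulAut.conj k • (Q : Subgroup ↥(D.group F)) from hP.symm, mul_smul, inv_smul_smul,
    mul_smul, h1]

omit hD in
theorem mem_UU {y : ↥(D.group F)} (h : Is2 y) (h1 : (UU D 𝔵).map (MulAut.conj y).toMonoidHom = UU D 𝔵) :
    y ∈ UU D 𝔵 := by
  obtain ⟨P, hP⟩ := (ad D F).exists_sylow 2
  have h2 := (IsPGroup.inf_normalizer_sylow h.zpowers P).le
    ⟨Subgroup.mem_zpowers y, Subgroup.mem_normalizer_iff_map_conj_eq.2 (hP ▸ h1)⟩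
  exact hP.le h2.2

theorem conj_HH {g : ↥(D.group F)} (hg : g ∈ HH D 𝔵) : ∃ d, MulAut.conj g = diagAut D d :=
  (dat_conj hD (ad D F).toStN hg).imp fun d hd => (ad D F).eq_of_dat hd (dat_diagAut d)

omit hD in
theorem diag_pow (d : Fin D.rank → Fˣ) : diagAut D d ^ Nat.card Fˣ = 1 := by
  rw [← map_pow, show d ^ Nat.card Fˣ = 1 from funext fun i => pow_card_eq_one', map_one]

omit hD in
theorem std_of_dt {ω : MulAut ↥(D.group F)} {π : Fin D.rank → Fin D.rank} {c : Fin D.rank → Fˣ}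
    {σ : RingAut F} (h : DT D F ω π c σ) : ω ∈ StdA D 𝔵 :=
  have h1 := h.isStd (ad D F).toSt
  ⟨Equiv.ofBijective π (Finite.injective_iff_bijective.1 (h1.injective (ad D F).toStB)), h1⟩

theorem std_conj {ω ω' : MulAut ↥(D.group F)} (h : ω ∈ StdA D 𝔵) (h' : ω' ∈ StdA D 𝔵) (e : ω * ω = 1)
    (e' : ω' * ω' = 1) {g : ↥(D.group F)} (hg : ω' = MulAut.conj g * ω) :
    ∃ k ∈ HH D 𝔵, MulAut.conj k * ω * (MulAut.conj k)⁻¹ = ω' := by
  have h1 : ω' * ω = MulAut.conj g := by rw [hg, mul_assoc, e, mul_one]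
  obtain ⟨π, h2⟩ := mul_mem h' h
  rw [h1] at h2
  have h3 := (ad D F).mem_H_of_isStd h2
  obtain ⟨d, hd⟩ := conj_HH hD h3
  obtain ⟨j, hj⟩ := dih e' e odd_card (by rw [h1, hd, diag_pow])
  exact ⟨g ^ j, pow_mem h3 j, by rwa [map_pow, ← h1]⟩

theorem sq_dt {ω : MulAut ↥(D.group F)} {π : Fin D.rank → Fin D.rank} {c : Fin D.rank → Fˣ}
    {σ : RingAut F} (h : DT D F ω π c σ) (e : ω * ω = 1) : π ∘ π = id ∧ σ * σ = 1 := by
  have h1 := dat_mul hD h h
  have h2 := dat_diagAut (D := D) (F := F) 1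
  rw [e] at h1
  rw [map_one] at h2
  exact ⟨(h1.unique (ad D F).toStB h2).1, (h1.unique (ad D F).toStB h2).2.2⟩

theorem exists_norm {ω : MulAut ↥(D.group F)} {π : Fin D.rank → Fin D.rank} {c : Fin D.rank → Fˣ}
    {σ : RingAut F} (h : DT D F ω π c σ) (e : ω * ω = 1) :
    ∃ d, DT D F (diagAut D d * ω * (diagAut D d)⁻¹) π 1 σ := by
  obtain ⟨d, h1⟩ := split hD (ad D F) h
  have h2 := dat_mul hD h1 h1
  rw [(sq_dt hD h e).1, (sq_dt hD h e).2,
    show (fun i => (1 : Fin D.rank → Fˣ) (π i) * Units.map (σ : F →* F) ((1 : Fin D.rank → Fˣ) i)) = 1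
      from funext fun i => by simp] at h2
  have h3 : diagAut D d * ω * ω = diagAut D d := by rw [mul_assoc, e, mul_one]
  obtain ⟨j, hj⟩ := dih (((ad D F).eq_of_dat h2 (dat_diagAut 1)).trans (map_one _)) e odd_card
    (by rw [h3, diag_pow])
  rw [h3, ← map_pow] at hj
  exact ⟨_, hj ▸ h1⟩

variable (T : Ty D F)

/-- The permutation of the roots induced by an automorphism. -/
noncomputable def rh (ω : MulAut ↥(D.group F)) : Equiv.Perm (Rt D) := if T.gr ω = 1 then 1 else T.gp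

omit hD in
theorem rho_rh (ω : MulAut ↥(D.group F)) : Rho (rh T ω) := by
  unfold rh
  split_ifs
  exacts [rho_one, rho_gp T]

omit hD in
theorem rh_apply (ω : MulAut ↥(D.group F)) (r : Rt D) : rh T ω r = if T.gr ω = 1 then r else T.gp r := by
  unfold rh
  split_ifs <;> rfl

omit hD in
theorem std1' {ω : MulAut ↥(D.group F)} {π : Fin D.rank → Fin D.rank} {σ : RingAut F} (h : DT D F ω π 1 σ)
    (r : Rt D) (a : F) : ω (𝔵 r a) = 𝔵 (rh T ω r) (σ a) := by rw [rh_apply, T.std1 ω π σ h]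

theorem gr_rh {ω : MulAut ↥(D.group F)} {π : Fin D.rank → Fin D.rank} {c : Fin D.rank → Fˣ} {σ : RingAut F}
    (h : DT D F ω π c σ) (hg : T.gr ω ≠ 1) : Gr (rh T ω) := by
  rw [rh, if_neg hg]; exact gr_of T hD h hg

theorem coc {ω : MulAut ↥(D.group F)} {π : Fin D.rank → Fin D.rank} {σ : RingAut F} (h : DT D F ω π 1 σ)
    (e : ω * ω = 1) (ho : σ ≠ 1 ∨ T.gr ω ≠ 1) {u : ↥(D.group F)} (hu : u ∈ UU D 𝔵) (hc : u * ω u = 1) :
    ∃ v a, v⁻¹ * u * ω v = 𝔵 (hi D) a ∧ (σ = 1 ∨ a = 0) := by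
  have A := ad D F
  have hω := std1' T h
  have key := fun Z hZ => lay hD A.toStB (rho_rh T ω) (ω := ω.toMonoidHom) (σ := σ) hω
    (DFunLike.congr_fun e) (Z := Z) hZ hu hc
  by_cases hσ : σ = 1
  swap
  · obtain ⟨v, hv⟩ := key ∅ (Or.inr ⟨rfl, exists_half (DFunLike.congr_fun (sq_dt hD h e).2) hσ⟩)
    rw [gen_empty, Subgroup.mem_bot] at hv
    exact ⟨v, 0, hv.trans (A.toSt.x_zero _).symm, Or.inr rfl⟩
  subst hσ
  have R := gr_rh hD T h (ho.resolve_left fun h => h rfl)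
  obtain ⟨v, hv⟩ := key _ (Or.inl rfl)
  obtain ⟨w, J, d1, d2, d3⟩ := R.d4
  obtain ⟨n, -, hn⟩ := exists_mv A.toStN w
  have fx1 : ∀ {S : Set (Rt D)}, (∀ r ∈ S, rh T ω r = r) → gen (XR D 𝔵) S ≤ fx ω := fun hS =>
    SG.gen_le_iff.2 fun r hr a => mem_fx.2 (by rw [hω, hS r hr]; rfl)
  have h1 := mem_fx.1 (fx1 (fun _ h => h.2) hv)
  change v⁻¹ * u * ω v ∈ _ at hv
  change ω (v⁻¹ * u * ω v) = v⁻¹ * u * ω v at h1
  have h2 : v⁻¹ * u * ω v * (v⁻¹ * u * ω v) = 1 := by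
    nth_rewrite 2 [← h1]
    rw [map_mul, map_mul, map_inv, show ω (ω v) = v from DFunLike.congr_fun e v]
    calc _ = v⁻¹ * (u * ω u) * v := by group
      _ = 1 := by rw [hc]; group
  obtain ⟨L, hL, g, hg, e1⟩ := exists_chain A.toStB (diagI hD) J.length J le_rfl
    (n⁻¹ * (v⁻¹ * u * ω v) * n⁻¹⁻¹) (conj_mem_of_gen (fun r hr y hy => by
      obtain ⟨a, rfl⟩ := A.toSt.mem_XR.1 hy
      obtain ⟨r, rfl⟩ := w.1.surjective r
      rw [← hn, show n⁻¹ * (n * 𝔵 r a * n⁻¹) * n⁻¹⁻¹ = 𝔵 r a by group]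
      exact x_mem_gen (And.intro (d2 r hr.2 hr.1) ((d1 r).1 hr.2)) a) hv)
    (by rw [conj_mul, h2]; group)
  have h3 : ω (n * g * n⁻¹) = n * g * n⁻¹ := mem_fx.1 (conj_mem_of_gen (fun r hr y hy => by
    obtain ⟨a, rfl⟩ := A.toSt.mem_XR.1 hy
    rw [hn, mem_fx, hω, (d1 r).2 hr]; rfl) hg)
  have h4 : (v * (n * g * n⁻¹)⁻¹)⁻¹ * u * ω (v * (n * g * n⁻¹)⁻¹) = n * pr 𝔵 L * n⁻¹ := by
    rw [← e1, map_mul ω v, map_inv, h3]; group
  rcases d3 L hL with rfl | ⟨b, O, b1, rfl, b2, b3⟩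
  · exact ⟨_, 0, h4.trans (by simp [pr, A.toSt.x_zero]), Or.inl rfl⟩
  obtain ⟨v', hv'⟩ := elim hD A.toSt R (γ := ω.toMonoidHom) hω (R.hi hD) (O.map w.1) (by
    rw [← b1, ← List.map_cons]
    exact List.pairwise_map.2 (b2.imp fun h => by rwa [W_pairing])) (List.forall_mem_map.2 b3)
  refine ⟨v * (n * g * n⁻¹)⁻¹ * v', 1, ?_, Or.inl rfl⟩
  rw [pr, RGD.list_prod_conj, List.map_map] at h4
  rw [← hv', ← b1, ← List.map_cons, List.map_map]
  simp only [Function.comp_def, hn] at h4 ⊢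
  rw [← h4, map_mul ω _ v', show ω.toMonoidHom v' = ω v' from rfl]
  group

/-- Normal form of an outer involution. -/
theorem nf {α : MulAut ↥(D.group F)} (e : α * α = 1) (ho : ∀ g, α ≠ MulAut.conj g) :
    ∃ (g : ↥(D.group F)) (d : Fin D.rank → Fˣ) (ω : MulAut ↥(D.group F)), ∃ π σ a, DT D F ω π 1 σ ∧ ω * ω = 1 ∧
      (σ = 1 ∨ a = 0) ∧ (σ ≠ 1 ∨ T.gr ω ≠ 1) ∧ diagAut D d * MulAut.conj g * α *
        (diagAut D d * MulAut.conj g)⁻¹ = ω * MulAut.conj (𝔵 (hi D) a) := by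
  have A := ad D F
  obtain ⟨g, hg⟩ := exists_nrm (is2_of_sq e).zpowers
  have hU := hg α (Subgroup.mem_zpowers α)
  obtain ⟨u, hu, π, c, σ, h⟩ := T.exU _ hU
  have e1 : MulAut.conj g * α * (MulAut.conj g)⁻¹ * (MulAut.conj g * α * (MulAut.conj g)⁻¹) = 1 := by
    rw [conj_mul, e]; group
  generalize hβ : MulAut.conj g * α * (MulAut.conj g)⁻¹ = β at hU h e1
  have e2 : MulAut.conj u * β * (MulAut.conj u * β) = MulAut.conj (u * β u) := by
    rw [mul_assoc, ← mul_assoc β, mul_conj, mul_assoc, e1, mul_one, map_mul]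
  have e3 : u * β u = 1 := A.toStB.rgd.eq_one_of_mem_U_H (mul_mem hu (hU.le ⟨u, hu, rfl⟩))
    (A.mem_H_of_isStd (e2 ▸ (h.isStd A.toSt).mul (h.isStd A.toSt)))
  rw [e3, map_one] at e2
  obtain ⟨d, h1⟩ := exists_norm hD h e2
  have e4 : diagAut D d * (MulAut.conj u * β) * (diagAut D d)⁻¹ *
      (diagAut D d * (MulAut.conj u * β) * (diagAut D d)⁻¹) = 1 := by rw [conj_mul, e2]; group
  have e5 : diagAut D d * β * (diagAut D d)⁻¹ = MulAut.conj (diagAut D d u⁻¹) *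
      (diagAut D d * (MulAut.conj u * β) * (diagAut D d)⁻¹) := by
    rw [← conj_conj, map_inv]; group
  have e6 : diagAut D d u⁻¹ * (diagAut D d * (MulAut.conj u * β) * (diagAut D d)⁻¹)
      (diagAut D d u⁻¹) = 1 := by
    simp only [MulAut.mul_apply, MulAut.inv_apply_self, MulAut.conj_apply]
    rw [← map_mul, map_inv β, ← inv_eq_of_mul_eq_one_right e3]; simp
  generalize diagAut D d * (MulAut.conj u * β) * (diagAut D d)⁻¹ = ω at h1 e4 e5 e6
  have h2 : σ ≠ 1 ∨ T.gr ω ≠ 1 := by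
    by_contra! hc
    obtain ⟨k, rfl⟩ := T.inn ω hc.2
      ((T.spec ω 1 π 1 σ (by simpa using h1)).1.trans hc.1) (is2_of_sq e4)
    refine ho ((diagAut D d * MulAut.conj g)⁻¹ (diagAut D d u⁻¹ * k)) ?_
    rw [← conj_conj, map_mul MulAut.conj, ← e5, ← hβ]; group
  obtain ⟨v, a, h3, h4⟩ := coc hD T h1 e4 h2 (map_mem_gen_XR (diagAut D d).toMonoidHom
    (fun r _ t => ⟨_, diagAut_xG d r t⟩) (inv_mem hu)) e6
  refine ⟨(diagAut D d)⁻¹ v⁻¹ * g, d, ω, π, σ, a, h1, e4, h4, h2, ?_⟩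
  have h5 : ω (𝔵 (hi D) a) = 𝔵 (hi D) a := by
    rw [std1' T h1, (rho_rh T ω).hi hD]
    rcases h4 with rfl | rfl
    exacts [rfl, by rw [map_zero]]
  rw [mul_conj ω, h5, ← h3, map_mul MulAut.conj _ g, ← conj_conj, map_mul MulAut.conj _ (ω v),
    ← conj_conj ω, map_mul MulAut.conj, map_inv MulAut.conj]
  change _ = _ * MulAut.conj (diagAut D d u⁻¹) * _ * _
  rw [eq_mul_inv_of_mul_eq e5.symm, ← hβ]
  group

end H37.Sg
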