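import Cfsg.Agent.H64.YEKit2
import Cfsg.Agent.H7.Frobenius

/-! STD-SP (row S3129), endgame, slot CO. -/

set_option autoImplicit false
set_option linter.unusedSectionVars false

namespace H37.YECO

open H64.SG (Syl Cz Cs Ns cjs Is2 mem_Cs syl_iff isPGroup_iff_is2 Cs_le_Ns odd_orderOf_of_mem)
open Subgroup H64.YE H67.UA H98

universe u

theorem odd_res {G : Type*} [Group G] [Finite G] {T A : Subgroup G} (hT : IsSyl 2 T A)
    (h : A ≤ Cs T) : Odd (Nat.card (res 2 A)) := by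
  obtain ⟨P, hP⟩ := hT.exists_sylow_map
  have h1 := H7.hasNPC_iff_not_dvd.1 ((H7.hasNPC_iff_sylow P).2 ⟨_, inferInstance,
    MonoidHom.ker_transferSylow_isComplement' P fun a _ b hb =>
      Subtype.ext (h a.2 b (hP ▸ ⟨b, hb, rfl⟩))⟩)
  rw [← res_subgroupOf, Nat.card_congr (subgroupOfEquivOfLe (res_le A)).toEquiv] at h1
  exact Nat.not_even_iff_odd.1 fun h => h1 (even_iff_two_dvd.1 h)

variable {n : ℕ} {F : Type} [Field F] [StarRing F] [TrivialStar F] [CharP F 2] [Finite F]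
  {Y : Type} [Group Y] [Finite Y] [QS Y] {G : Type u} [Group G] [Finite G] {ι : XU n F →* Y}
  {τ : MulAut Y} {Gd Go : XU n F → Prop} {U : Subgroup Y} {e : XU n F →* G} {t : G} {Φ : Y →* G}
  {K₀ : Subgroup G} {R : Subgroup Y}

theorem key (h : E1 ι τ Gd Go U e t Φ K₀) (g : Good τ U R) :
    res 2 (K₀ ⊓ Cs (R.map Φ)) ≤ Cs ((EG ι Go (Ns R)).map Φ) ∧
      ∀ x ∈ K₀ ⊓ Cs (R.map Φ), ∃ y ∈ R, ∃ o ∈ res 2 (K₀ ⊓ Cs (R.map Φ)), x = Φ y * o := by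
  have r2 := g.two h.m1
  have u2 := h.syl.2.1
  have nor := h.nor
  have n1 : Ns (R.map Φ) ≤ Ns (K₀ ⊓ Cs (R.map Φ)) :=
    le_normalizer_inf (by rw [normalizer_eq_top]; exact le_top) (normalizer_le_normalizer_centralizer _)
  have s := syl_iff.1 (syl_inf h.sylK inf_le_left ((map_le_normalizer_map Φ g.nr).trans n1))
  have s1 : U.map Φ ⊓ (K₀ ⊓ Cs (R.map Φ)) ≤ R.map Φ := by
    rintro _ ⟨⟨u, hu, rfl⟩, -, k⟩
    exact ⟨u, g.ce ⟨fun r hr => ((e_comm_iff h.ker (isPGroup_iff_is2.1 r2 r hr)).1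
      (k _ ⟨r, hr, rfl⟩).symm).symm, hu⟩, rfl⟩
  have o := odd_res s fun x hx y hy => hx.2 y (s1 hy)
  have n2 := n1.trans (normalizer_le_normalizer_res (p := 2) _)
  refine ⟨h.oc o (n2 (h.act.mem_Ns_map g.st)) ((map_le_normalizer_map Φ le_rfl).trans n2)
    fun x hx => h.co r2 g.co hx.2 (odd_orderOf_of_mem o hx.1) (res_le _ hx.1).2, fun x hx => ?_⟩
  obtain ⟨y, hy, o, ho, e⟩ := s.exists_mul_res hx
  obtain ⟨y', hy', rfl⟩ := s1 hy
  exact ⟨y', hy', o, ho, e⟩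

theorem jobCO : JobCO.{u} := by
  intro n F _ _ _ _ _ _ G _ _ e t Y _ _ _ ι τ Gd Go U Φ K₀ h R ⟨g, h1, R', g', h2⟩ x x1 x2
  obtain ⟨k1, k2⟩ := key h g
  obtain ⟨y, hy, o, ho, e⟩ := k2 x ⟨x1, x2⟩
  refine ⟨y, hy, o, ?_, e⟩
  have cs : ∀ {A B : Subgroup Y} {O : Subgroup G}, O ≤ Cs (A.map Φ) → O ≤ Cs (B.map Φ) →
      O ≤ Cs ((A ⊔ B).map Φ) := fun a b => by
    rw [Subgroup.map_sup]
    exact le_centralizer_iff.1 (sup_le (le_centralizer_iff.1 a) (le_centralizer_iff.1 b))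
  have k3 : res 2 (K₀ ⊓ Cs (R.map Φ)) ≤ Cs (U.map Φ) :=
    (cs k1 ((res_le _).trans inf_le_right)).trans (centralizer_le (map_mono h1))
  have k4 : res 2 (K₀ ⊓ Cs (R.map Φ)) ≤ res 2 (K₀ ⊓ Cs (R'.map Φ)) :=
    res_le_of_forall fun z hz hc => mem_res_of_coprime
      ⟨hz.1, centralizer_le (map_mono g'.le) (k3 (mem_res_of_coprime hz hc))⟩ hc
  have k5 := cs (cs k1 (k4.trans (key h g').1)) k3
  rw [h2, ← MonoidHom.range_eq_map] at k5
  exact k5 ho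

end H37.YECO
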