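import Cfsg.Agent.H54.YSSpec

/-! STD-SP (row S3129), endgame, slots RN and RZ for the symplectic model. -/

set_option autoImplicit false
set_option linter.unusedSectionVars false

namespace H37.YSRNZ

open H64.SG (O2 Syl Cz Cs Ns cjs Is2 Inv2 IsO2 fx)
open Subgroup H67.SP H64.YE H54.YS
open H67.UA hiding Par Base FV FW
open H67.SA (cm St la)
open H62.SPFC (hfc hfs h00 h01 h10 h0r hev hev1 li01 val1 val2 b2 n2 mem_WA a0 a1)
open H54.SPI (TT_inj Tc_eq TT_conj ac_TT TT_fix)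

variable {n : ℕ} {K : Type} [Field K] [StarRing K] [TrivialStar K] [CharP K 2] [Finite K]
  [p : Par n K] [Base n K] [KT n K]

local notation "e0" => (ev 0 : Vn n K)
local notation "e1" => (ev 1 : Vn n K)

theorem perp {v : Vn n K} (hv : v ≠ 0) (h : TT v ∈ PP n K) : hf v e0 = 0 := by
  rw [mem_Stab, ac_TT, add_eq_left, smul_eq_zero] at h
  exact hf_symm (h.resolve_right hv)

theorem inZ {v : Vn n K} (h : ¬ Li e0 v) : TT v ∈ ZL n K := by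
  obtain ⟨a, rfl⟩ := (KT.nli v).1 h
  exact (FV.mem_Zl _ _).2 ⟨_, Tc_smul a 1 _⟩

theorem zp (z : XU n K) (hz : z ∈ ZL n K) (z1 : z ≠ 1) (y : XU n K) (hy : IsConj (xb n K) y)
    (h : y * z = z * y) (h' : y * z = 1 ∨ IsConj (xb n K) (y * z)) : y ∈ ZL n K := by
  obtain ⟨c, rfl⟩ := (FV.mem_Zl _ _).1 hz
  have hc : c ≠ 0 := fun e => z1 (by rw [e, Tc, EE_zero])
  obtain ⟨v, hv, rfl⟩ := (FR.lr y).2 hy
  have h0 := perp hv ((FR.cz e0 c (ev_ne 0) hc).le (H64.SG.mem_Cz.2 h.symm))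
  refine inZ fun hl => ?_
  have h1 := ((FR.rk (TT v * Tc c e0)).2.2).1 ⟨v, rt c • e0, by rw [hfs, h0, mul_zero], fun a b e => by
    obtain ⟨h1, h2⟩ := hl (b * rt c) a (by rw [← smul_smul, add_comm, e])
    exact ⟨h2, (mul_eq_zero.1 h1).resolve_right (rt_ne hc)⟩, by rw [Tc_eq]⟩
  rcases h' with h' | h'
  · exact h1.1.2 h'
  · have := (((FR.rk _).1).1 ((FR.lr _).2 h')).2
    omega

theorem li_ev {i j : Fin (n + 1)} (h : i ≠ j) : Li (ev i : Vn n K) (ev j) := fun a b e =>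
  ⟨by simpa [ev_apply, h] using congrFun e i, by simpa [ev_apply, h.symm] using congrFun e j⟩

theorem tp : ∃ g, g * xb n K * g⁻¹ ∉ ZL n K ∧ cjs g (ZL n K) ≤ Cs (ZL n K) ∧
    (∀ d ∈ Cs (ZL n K), IsConj (xb n K) d → d ∉ ZL n K → ∃ p ∈ Cs (ZL n K),
      p * d * p⁻¹ ∈ cjs g (ZL n K)) ∧ T2 (Cs (ZL n K)) ⊔ cjs g (T2 (Cs (ZL n K))) = ⊤ := by
  obtain ⟨g, hg⟩ := FW.w1 e1 (ev_ne 1)
  have e : g * xb n K * g⁻¹ = TT e1 := by rw [xb, TT_conj, hg]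
  rw [KT.cz]
  refine ⟨g, fun h => ?_, ?_, fun d hd h h' => ?_, ?_⟩
  · obtain ⟨c, hc⟩ := (FV.mem_Zl _ _).1 h
    rw [e, Tc_eq] at hc
    exact one_ne_zero (li01 (n := n) (rt c) 1 (by rw [one_smul, TT_inj hc, v_add_self])).2
  · rintro _ ⟨z, hz, rfl⟩
    obtain ⟨c, rfl⟩ := (FV.mem_Zl _ _).1 hz
    change g * _ * g⁻¹ ∈ _
    rw [Tc_eq, TT_conj, ac_smul, hg]
    exact TT_fix (by rw [hfs, h01, mul_zero])
  · obtain ⟨v, hv, rfl⟩ := (FR.lr d).2 h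
    obtain ⟨q, hq, h1⟩ := KT.tp v e1 (perp hv hd) h10 (not_not.1 fun k => h' (inZ k)) li01
    exact ⟨q, hq, xb n K, (FV.mem_Zl _ _).2 ⟨1, rfl⟩, by rw [TT_conj, h1]; exact e⟩
  · have h1 : PP n K ≤ T2 (PP n K) := FW.genP _ fun v hv => subset_closure
      ⟨TT_fix (hf_symm hv), 1, by simpa [pow_two] using Tc_mul_self (h00 v) (star_one K)⟩
    have n1 : (2 : Fin (n + 1)) ≠ 1 := by rw [Ne, Fin.ext_iff, val1 K, val2 K]; omega
    have n0 : (0 : Fin (n + 1)) ≠ 2 := by rw [Ne, Fin.ext_iff, val2 K]; simp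
    obtain ⟨s, s0, s1⟩ := FW.w2 (ev 2 : Vn n K) e1 b2.2 (li_ev n1)
    refine KT.gP2 _ (le_sup_of_le_left h1) s (mem_sup_right (H98.mem_cj.2 (h1 ?_)))
      (by rw [s0]; exact b2.1) (by rw [s0]; exact li_ev n0)
    rw [mem_Stab, ac_mul, ac_mul, hg, s1, ← hg, ac_inv_ac]

theorem qn (x : XU n K) (hx : x ∈ QQ n K) (h : x ∉ ZL n K) :
    ∃ p ∈ Cs (ZL n K), cm p x * cm p x = 1 ∧ cm p x ∉ ZL n K := by
  obtain ⟨y, c, hy, rfl⟩ := (FV.mem_Qv _ x).1 hx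
  rw [KT.ez y c hy, KT.nli] at h
  obtain ⟨f, f0, f1⟩ : ∃ f, hf f e0 = 0 ∧ hf f y ≠ 0 := by
    by_contra! k
    exact h (FW.dual _ _ (ev_ne 0) k)
  have o := FV.ok _ _ c hy
  have h1 : ac (TT f) e0 = e0 := TT_fix (hf_symm f0)
  have h2 : hf (hf y f • f) e0 = 0 := by rw [hf_smul_left, f0, mul_zero]
  obtain ⟨d, e⟩ : ∃ d, cm (TT f) (EE e0 y c) = EE e0 (hf y f • f) d := ⟨_, by
    rw [cm, EE_conj o, h1, EE_inv o, EE_mul (by simpa [h1] using o.ac (TT f)) (FV.ok _ _ _ hy), ac_TT,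
      add_right_comm, v_add_self, zero_add]⟩
  refine ⟨TT f, KT.cz.ge h1, by rw [e, H86.SPI.EE_sq h2], ?_⟩
  rw [e, KT.ez _ d h2, KT.nli]
  rintro ⟨a, ha⟩
  have h3 := congrArg (hf · y) ha
  simp only [hf_smul_left, hfc e0 y, hy, mul_zero, hfc y f, mul_self_eq_zero] at h3
  exact f1 h3

theorem zq (α : MulAut (XU n K)) (h : ∀ x ∈ QQ n K, α x * x⁻¹ ∈ ZL n K) (z : XU n K)
    (hz : z ∈ ZL n K) : α z = z := by
  have r : xb n K ∈ ZL n K := (FV.mem_Zl _ _).2 ⟨1, rfl⟩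
  obtain ⟨g, σ, l, -, hg, rfl⟩ := KT.sz α (by
    simpa using mul_mem (h (xb n K) ((FV.mem_Qv _ _).2 ⟨0, 1, by simp, rfl⟩)) r)
  have ev' : (fun j => σ (e0 j)) = e0 := funext fun j => by rw [ev_apply]; split_ifs <;> simp
  have s0 : ∀ y : Vn n K, hf y e0 = 0 → hf (fun j => σ (y j)) e0 = 0 := fun y hy => by
    rw [← ev', H54.SPF.hf_map, hy, map_zero]
  have k : ∀ (y : Vn n K) c, hf y e0 = 0 → (MulAut.conj g * fs n K σ) (EE e0 y c) =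
      EE e0 (l • ac g fun j => σ (y j)) (l * l * σ c) := fun y c hy => by
    rw [MulAut.mul_apply, FA.fs_EE σ _ _ _ hy, ev', MulAut.conj_apply,
      EE_conj (FV.ok _ _ _ (s0 y hy)), hg, EE_smul, nm, star_trivial]
  have k1 : ∀ y : Vn n K, hf y e0 = 0 → ∃ a : K, (l • ac g fun j => σ (y j)) = y + a • e0 :=
    fun y hy => by
    have h0 : hf (l • ac g fun j => σ (y j)) e0 = 0 := by
      rw [hf_smul_left, ← hfs, ← hg, hf_ac, s0 y hy]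
    have h1 := h _ ((FV.mem_Qv _ _).2 ⟨y, 0, hy, rfl⟩)
    rw [k y 0 hy, EE_inv (FV.ok _ _ _ hy), EE_mul (FV.ok _ _ _ h0) (FV.ok _ _ _ hy),
      KT.ez _ _ (by rw [hf_add_left, h0, hy, add_zero]), KT.nli] at h1
    obtain ⟨a, ha⟩ := h1
    exact ⟨a, by rw [← ha, add_comm y, add_assoc, v_add_self, add_zero]⟩
  obtain ⟨c, rfl⟩ := (FV.mem_Zl _ _).1 hz
  have y1 : hf (c • e1) e0 = 0 := by rw [hf_smul_left, h10, mul_zero]
  obtain ⟨a, ha⟩ := k1 _ y1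
  obtain ⟨b, hb⟩ := k1 (ev (Fin.rev 1)) (hf_symm h0r)
  have e := congrArg₂ hf ha hb
  rw [hf_smul_left, hfs, hf_ac, H54.SPF.hf_map, hf_add_left, hf_add_right, hf_add_right, hfs, y1,
    hf_smul_left, hev1, hf_smul_left, hf_smul_left, h0r, hfs, h00] at e
  rw [Tc, k 0 c (by simp), show l * l * σ c = c by simpa [mul_assoc] using e]
  congr 1
  rw [show (fun j => σ ((0 : Vn n K) j)) = 0 from funext fun j => by simp, ac_zero, smul_zero]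

omit p [Base n K] [KT n K] in
theorem jobRN : JobRN := fun _ _ _ _ _ _ _ _ _ _ _ _ => ⟨zp, tp⟩

omit p [Base n K] [KT n K] in
theorem jobRZ : JobRZ := fun n K _ _ _ _ _ _ _ _ _ _ _ =>
  ⟨qn, fun α _ => zq α, fun u h1 h2 h3 => Or.inl (zp _ ((FV.mem_Zl _ _).2 ⟨1, rfl⟩)
    (((FR.rk _).1).1 ((FR.lr (xb n K)).2 (IsConj.refl _))).1.2 u h1 h2 h3)⟩

end H37.YSRNZ
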